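import Cfsg.Agent.H879.Nine.Ctx_m3
import Cfsg.Agent.H948.Ppd.PmBase
import Cfsg.Agent.H948.Ppd.NdMinus
import Cfsg.Agent.H948.Ppd.TypeB_m3
import Cfsg.Agent.H392.TD.Count_m3
import Cfsg.Agent.H905.MdH_m3
import Cfsg.Agent.Nodes.WittAll
import Mathlib
import Cfsg.Agent.SM.Ti.Box
import Cfsg.Agent.H918.UProper
import Cfsg.Agent.H925.NatMain
import Cfsg.Agent.H930.UnitaryTwo
import Cfsg.Agent.Nodes.TypeD
import Cfsg.Agent.OddHalf.NI.Mult
import Cfsg.Agent.H60.CrossA
import Cfsg.Agent.H924.D5F_m3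
import Cfsg.Agent.FastGrp
import Cfsg.Agent.Prune
set_option linter.all false

section
prune_inst 0x7ffcecf8abbca9dfdfff7e7fa6ddcffc19911fffa6dff9437fe0e1ff0b9f338009c52b8d0de010fe1ed7601c10b87853f97eeeffe26bdc7ffffd5ff45ffbee0fe5f7bd0871d68c340fbc0ff703f0778e7f3fffffffffffffffffffffffffffbeffbfffffffff

-- part: H762/Ppd/MidSu_mg
section
prune_inst 0x1201000000000000000000000000200080004000000800000000200000000020d000000002000020000000000000048100000000000000000000000000001000000000000000000020000000000000000000000000000000000000000000000000000000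
set_option linter.all false
open scoped Cfsg.Agent.FastGrp

-- part: H762/Ppd/SuCov
section
/-!
# `SU_N(q)` as the covering group of a core, type `B_n` (helper762, TEAM PPD)

* `exists_covSU` : `φ : M.I → GL(ι, F)` with image `P`, `M` the model of `SU_N(K)`, the covering group `M.I` itself;
* `comm_SU`, `pow_SU` : the torus is commutative of exponent dividing `|K| - 1`.
-/

set_option autoImplicit false
set_option linter.unusedSectionVars false
set_option linter.style.haveILetI false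

namespace Cfsg.Agent.H762.Ppd

open CoxeterSystem Cfsg.Agent.ChevalleyStructure.CoxeterGeom Cfsg.Agent.Tits.Roots Cfsg.Agent.Tits.Core
  Cfsg.Agent.Nodes.Reps Cfsg.Agent.Nodes.BNOf Cfsg.Agent.Nodes.Bruhat Cfsg.Agent.Nodes.RGDLib
open Cfsg.Agent.Nodes Cfsg.Agent.Nodes.WittRoot Cfsg.Agent.Nodes.WittRGD Cfsg.Agent.Nodes.WittAll Cfsg.Agent.Nodes.WittU
open Cfsg.Agent.Nodes.TypeC (isCartan)
open Cfsg.Agent.LieClassical.HermBasic Cfsg.Agent.LieClassical.HermSiegel
open Cfsg.Agent.TitsThree.Siegel Cfsg.Agent.TitsThree.SiegelGen Cfsg.Agent.TitsThree.WittFrame Cfsg.Agent.TitsThree.FrameCN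
  Cfsg.Agent.TitsThree.WBridge Cfsg.Agent.TitsThree.KSideU Cfsg.Agent.TitsThree.KSideUDesc Cfsg.Agent.TitsThree
open Cfsg.Agent.H915.LD Cfsg.Agent.H911 Cfsg.Agent.H905.Md Cfsg.Agent.H925.Nat Cfsg.Agent.Nodes.RGDLift
open Cfsg.Agent.H156.Ppd (Cov lrep exists_cov)
open Cfsg.Agent.Omega.CR Cfsg.Agent.Omega.FOne.Lift.Sd
open Cfsg.Agent.H948.Ppd
open Cfsg.Agent.H61.SUCross Cfsg.Agent.H48.NatSU
open Cfsg Cfsg.Geo
open scoped MatrixGroups Matrix

universe u v w

variable {K : Type} [Field K] [Fintype K] {q N n : ℕ} {hK : Fintype.card K = q ^ 2} {hN : 3 ≤ N} {W : WFrame (PU hK N) n}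

theorem perfect_I (h32 : ¬ (N = 3 ∧ q = 2)) : commutator ↥(modelSU hK hN W).I = ⊤ := by
  have h1 := GpUn.perfect_SU hK hN h32
  have e : ↥(modelSU hK hN W).I ≃* SU N K q := ofRange K q N
  rw [commutator_eq_closure] at h1 ⊢
  rw [← commutator_eq_closure] at h1 ⊢
  have h2 : (commutator ↥(modelSU hK hN W).I).map e.toMonoidHom = commutator (SU N K q) := by
    rw [commutator_def, commutator_def, Subgroup.map_commutator, ← MonoidHom.range_eq_map,
      MonoidHom.range_eq_top.2 e.surjective]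
  rw [h1] at h2
  rw [eq_top_iff]
  intro x _
  have h3 : e.toMonoidHom x ∈ (commutator ↥(modelSU hK hN W).I).map e.toMonoidHom := by rw [h2]; trivial
  obtain ⟨y, hy, hyx⟩ := h3
  rwa [← e.injective hyx]

theorem comm_SU (hW : Kind W) : ∀ s ∈ TB (modelSU hK hN W), ∀ t ∈ TB (modelSU hK hN W), s * t = t * s := by
  intro s hs t ht
  exact Subtype.ext (tor_comm hW (Subgroup.mem_subgroupOf.1 hs) (Subgroup.mem_subgroupOf.1 ht))

theorem pow_SU (hW : Kind W) : ∀ t ∈ TB (modelSU hK hN W), t ^ Nat.card K = t := by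
  intro t ht
  have ht' := Subgroup.mem_subgroupOf.1 ht
  obtain ⟨ν, hν, hν'⟩ := exists_scal hW ht'.1 ht'.2 (ρ := id) (fun _ => rfl)
  apply Subtype.ext
  change (t : (Fin N → K) ≃ₗ[K] (Fin N → K)) ^ Nat.card K = t
  refine eq_of_fix (amb_U hK W) (fun x => ?_) (fun w hw => ?_)
  · obtain ⟨a, ha0, ha⟩ := ht'.2 x
    have ha' : (t : (Fin N → K) ≃ₗ[K] (Fin N → K)) ((toFrame W).b x) = a • (toFrame W).b x := ha
    rw [pow_apply_smul ha', ha', Nat.card_eq_fintype_card, FiniteField.pow_card]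
  · rw [pow_apply_smul (hν' w hw), hν' w hw, Nat.card_eq_fintype_card, FiniteField.pow_card]

section cov

variable {F : Type u} [Field F] [Finite F] {ι : Type} [Fintype ι] [DecidableEq ι] {P : Subgroup (GL ι F)}
  {p : ℕ} [hp : Fact p.Prime] [hFp : CharP F p] [hKp : CharP K p]

theorem exists_covSU (hC : Core P) (h32 : ¬ (N = 3 ∧ q = 2)) (hn : 0 < n)
    {hA : AmbT (toFrame W) p (modelSU hK hN W).I} {p0 : (toFrame W).Adm} (hp0 : p0.c ≠ 0)
    (e : Soc P ≃* PSU N K q) :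
    ∃ φ : (modelSU hK hN W).I →* GL ι F,
      Cov (CoxeterMatrix.B n).toCoxeterSystem (isCartan n) p (TB (modelSU hK hN W)) (NB hA p0)
        (XB (modelSU hK hN W)) P (MonoidHom.id (modelSU hK hN W).I) φ (NB hA p0) := by
  have hperf := perfect_I (hN := hN) (W := W) h32
  have hWf : Finite (CoxeterMatrix.B n).Group := TypeC.finite_W (CoxeterMatrix.B n).toCoxeterSystem
  have := finite_GL (K := K) (ν := Fin N)
  have R := rgdB hA hp0 (CoxeterMatrix.B n).toCoxeterSystem (M := modelSU hK hN W)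
  have hG := genB hA hn hperf (CoxeterMatrix.B n).toCoxeterSystem
  obtain ⟨φ, hφ, -, -⟩ := psu_cover p hK hN h32 hC.perfect e
  have hker : (MonoidHom.id (modelSU hK hN W).I).ker = ⊥ := by
    rw [MonoidHom.ker_eq_bot_iff]
    exact fun _ _ h => h
  have h1 : (MonoidHom.id (modelSU hK hN W).I).ker ≤ Subgroup.center _ := by rw [hker]; exact bot_le
  have h2 : (Nat.card (MonoidHom.id (modelSU hK hN W).I).ker).Coprime p := by
    rw [hker, Subgroup.card_bot]; exact Nat.coprime_one_left _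
  obtain ⟨n₁, hn₁, R₁, hG₁⟩ := H905.DC.exists_rgd_lift hperf h1 h2 Function.surjective_id R hG
  obtain rfl : n₁ = NB hA p0 := funext hn₁
  refine ⟨φ.comp (modelSU hK hN W).φ, Function.surjective_id, h1, h2, hn₁, R₁, hG₁, ?_⟩
  rw [MonoidHom.range_comp]
  have h3 : (modelSU hK hN W).φ.range = ⊤ := MonoidHom.range_eq_top.2 (ofRange K q N).surjective
  rw [h3, ← MonoidHom.range_eq_map, hφ]

end cov

end Cfsg.Agent.H762.Ppd
end

-- part: H762/Ppd/SuTor
section
/-!
# The torus of a Witt frame: the long nodes (helper762, TEAM PPD)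

`Fr : Frame H (Fin n)`, `i ≠ j`, `phiS Fr hij : SL_2(F) → GL(V)`.

* `ev` : the eigenvalues of `phiS (diag(t, t⁻¹))`; `phiS_b`, `phiS_V0`; `phiS_ww` : `phiS ww` is monomial over `sg i`;
* `conj_b`, `conj_V0` : conjugation of a torus element by a monomial isometry;
* `nd_long'` : the long nodes, with the explicit homomorphism;
* **`conj_one`** : `g` monomial over `flip S ∘ sg c`: `g⁻¹ h_b(t) g = h_b(t)` if `t σ(t) = 1`;
* **`conj_two`** : `g` monomial over `flip S ∘ sg c ∘ sg b ∘ sg c`: `g⁻¹ h_a(t) g = h_a(t) h_b(t)` if `t σ(t) = 1`.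
-/

set_option autoImplicit false
set_option linter.unusedSectionVars false
set_option linter.style.haveILetI false

namespace Cfsg.Agent.H762.Ppd

open Cfsg.Agent.ChevalleyStructure.CoxeterGeom Cfsg.Agent.Tits.Roots
open Cfsg.Agent.Nodes.Comb Cfsg.Agent.Nodes.Reps Cfsg.Agent.Nodes.WittRoot Cfsg.Agent.Nodes.BNOf
open Cfsg.Agent.Nodes.RGDLib Cfsg.Agent.Nodes.WittAll Cfsg.Agent.Nodes
open Cfsg.Agent.TitsThree Cfsg.Agent.TitsThree.Siegel Cfsg.Agent.TitsThree.WittFrame Cfsg.Agent.TitsThree.WittWeyl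
open Cfsg.Agent.Nodes.TypeC (ng ng_ng ng_fst ng_snd nx sg sg_up sg_down sg_last sg_of_ne sg_sg)
open Cfsg.Agent.Nodes.WittRGD (Tor mem_Tor rg_sr rg_neg_sr)
open Cfsg.Agent.H911.SLTwo Cfsg.Agent.H62.FrameSL Cfsg.Agent.H948.Ppd
open Cfsg.Agent.H48.WittNeg renaming flip → fp
open Cfsg.Agent.H48.NatSU (eq_of_fix)
open scoped MatrixGroups

variable {F : Type*} [Field F] {V : Type*} [AddCommGroup V] [Module F V] {H : HForm F V} {n : ℕ}
  {Fr : Frame H (Fin n)} {G0 : Subgroup (V ≃ₗ[F] V)} {p : ℕ}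

/-- the eigenvalues of the torus element -/
def ev (H : HForm F V) (i j : Fin n) (t : Fˣ) (x : Fin n × Bool) : F :=
  if x.1 = i then (if x.2 then (t : F) else H.σ ((t⁻¹ : Fˣ) : F)) else
    if x.1 = j then (if x.2 then ((t⁻¹ : Fˣ) : F) else H.σ (t : F)) else 1

theorem phiS_b {i j : Fin n} (hij : i ≠ j) (t : Fˣ) (x : Fin n × Bool) :
    phiS Fr hij (_root_.Cfsg.Agent.H911.SLTwo.hh t) (Fr.b x) = ev H i j t x • Fr.b x := by
  have hε := H.ε_ne
  obtain ⟨k, b⟩ := x
  unfold ev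
  rw [phiS_apply, linS_apply]
  simp only [hh00, hh01, hh10, hh11, map_zero, zero_mul, add_zero, sub_zero, zero_add, neg_zero]
  by_cases hk : k = i
  · subst hk
    rw [if_pos rfl]
    cases b
    · rw [if_neg (by simp)]
      simp only [hs, hf, hn Fr hij, inv_mul_cancel₀ hε]
      simp only [mul_zero, mul_one, zero_smul, add_zero]
      module
    · rw [if_pos rfl]
      simp only [hs, H62.FrameSL.ht, hn Fr hij]
      simp only [mul_zero, mul_one, zero_smul, add_zero]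
      module
  · rw [if_neg hk]
    by_cases hk' : k = j
    · subst hk'
      rw [if_pos rfl]
      cases b
      · rw [if_neg (by simp)]
        simp only [hs, hf, hn Fr hij.symm, inv_mul_cancel₀ hε]
        simp only [mul_zero, mul_one, zero_smul, add_zero]
        module
      · rw [if_pos rfl]
        simp only [hs, H62.FrameSL.ht, hn Fr hij.symm]
        simp only [mul_zero, mul_one, zero_smul, add_zero]
        module
    · rw [if_neg hk']
      rw [hn Fr hk, hn Fr hk, hn Fr hk', hn Fr hk']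
      simp only [mul_zero, zero_smul, add_zero, one_smul]

theorem phiS_V0 {i j : Fin n} (hij : i ≠ j) (g : SL(2, F)) {w : V} (hw : w ∈ Fr.V0) : phiS Fr hij g w = w := by
  rw [phiS_apply, linS_apply]
  simp only [Fr.h0' _ hw, mul_zero, add_zero, sub_zero, zero_smul]

theorem phiS_ww {i : Fin n} (hi : (i : ℕ) + 1 < n) (hij : i ≠ ⟨i + 1, hi⟩) :
    Mono Fr (phiS Fr hij ww) (sg i) := by
  have hε := H.ε_ne
  have h1' : H.σ (-1) = -1 := by rw [map_neg, map_one]
  rintro ⟨k, b⟩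
  rw [phiS_apply, linS_apply]
  simp only [ww00, ww01, ww10, ww11, h1', map_zero, map_one, zero_mul, add_zero, sub_zero, zero_add, neg_zero]
  by_cases hk : k = i
  · subst hk
    rw [sg_up hi]
    cases b
    · refine ⟨-1, neg_ne_zero.2 one_ne_zero, ?_⟩
      simp only [hs, hf, hn Fr hij, inv_mul_cancel₀ hε]
      simp only [mul_zero, mul_one, zero_smul, add_zero]
      module
    · refine ⟨-1, neg_ne_zero.2 one_ne_zero, ?_⟩
      simp only [hs, H62.FrameSL.ht, hn Fr hij]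
      simp only [mul_zero, mul_one, zero_smul, add_zero]
      module
  · by_cases hk' : k = ⟨i + 1, hi⟩
    · subst hk'
      rw [sg_down hi]
      cases b
      · refine ⟨1, one_ne_zero, ?_⟩
        simp only [hs, hf, hn Fr hij.symm, inv_mul_cancel₀ hε]
        simp only [mul_zero, mul_one, zero_smul, add_zero]
        module
      · refine ⟨1, one_ne_zero, ?_⟩
        simp only [hs, H62.FrameSL.ht, hn Fr hij.symm]
        simp only [mul_zero, mul_one, zero_smul, add_zero]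
        module
    · refine ⟨1, one_ne_zero, ?_⟩
      rw [sg_of_ne hk (fun h' => hk' (Fin.ext h'))]
      rw [hn Fr hk, hn Fr hk, hn Fr hk', hn Fr hk']
      simp only [mul_zero, zero_smul, add_zero, one_smul]
      module

/-- **The long nodes.** -/
theorem nd_long' (hle : ∀ x, WittRoot.rg Fr x ≤ G0) {i : Fin n} (hi : (i : ℕ) + 1 < n) (hij : i ≠ ⟨i + 1, hi⟩) :
    ∃ σ : SL(2, F) →* G0, (∀ g, (σ g : V ≃ₗ[F] V) = phiS Fr hij g) ∧
      Nd ((Tor Fr G0).subgroupOf G0) (fun x => (WittRoot.rg Fr x).subgroupOf G0) i σ := by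
  have hu : ∀ y, y ∈ WittRoot.rg Fr (sr i) ↔ ∃ t, phiS Fr hij (U t) = y := by
    intro y
    rw [rg_sr, PG_ne Fr (H61.SUNode.ne_nx hi), H61.SUNode.nx_of_lt hi, mem_XG]
    exact exists_congr fun t => eq_comm.trans (iff_of_eq (congrArg (· = y) (phiS_up Fr hij t).symm))
  have hl : ∀ y, y ∈ WittRoot.rg Fr (-sr i) ↔ ∃ t, phiS Fr hij (Lo t) = y := by
    intro y
    rw [rg_neg_sr, PG_ne Fr (a := ng (i, true)) (b := ng (nx i)) (H61.SUNode.ne_nx hi),
      XG_swap Fr (a := ng (i, true)) (b := ng (nx i)) (H61.SUNode.ne_nx hi), H61.SUNode.nx_of_lt hi, mem_XG]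
    exact exists_congr fun t => eq_comm.trans (iff_of_eq (congrArg (· = y) (phiS_lo Fr hij t).symm))
  exact exists_nd hle (phiS Fr hij) hu hl (phiS_hh hij)

/-! ### conjugation -/

theorem conj_b {s g : V ≃ₗ[F] V} {e : Fin n × Bool → F} (hs : ∀ x, s (Fr.b x) = e x • Fr.b x)
    {π : Fin n × Bool → Fin n × Bool} (hg : Mono Fr g π) (x : Fin n × Bool) :
    (g⁻¹ * s * g) (Fr.b x) = e (π x) • Fr.b x := by
  obtain ⟨l, hl, e1⟩ := hg x
  have h6 : g⁻¹ (Fr.b (π x)) = l⁻¹ • Fr.b x := by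
    have h5 : g⁻¹ (g (Fr.b x)) = Fr.b x := by
      rw [← mul_apply', inv_mul_cancel]; rfl
    rw [e1, map_smul] at h5
    rw [← h5, smul_smul, inv_mul_cancel₀ hl, one_smul]
  rw [mul_apply', mul_apply', e1, map_smul, hs, map_smul, map_smul, h6, smul_smul, smul_smul]
  congr 1
  field_simp

theorem conj_V0 (hA : AmbT Fr p G0) {s g : V ≃ₗ[F] V} (hg : g ∈ G0) (hs : ∀ w ∈ Fr.V0, s w = w)
    {π ρ : Fin n × Bool → Fin n × Bool} (hm : Mono Fr g π) (hρ : ∀ x, π (ρ x) = x) {w : V} (hw : w ∈ Fr.V0) :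
    (g⁻¹ * s * g) w = w := by
  rw [mul_apply', mul_apply', hs _ (hA.map_V0 hg hm hρ hw), ← mul_apply', inv_mul_cancel]
  rfl

section three

variable {a b c : Fin n} (ha : (a : ℕ) + 3 = n) (hb : (b : ℕ) + 2 = n) (hc : (c : ℕ) + 1 = n)

theorem fp_ne {S : Finset (Fin n)} (x : Fin n × Bool) (h : x.1 ∉ S) : fp S x = x := if_neg h

theorem fp_fst (S : Finset (Fin n)) (x : Fin n × Bool) : (fp S x).1 = x.1 := by
  unfold fp
  split_ifs
  · rfl
  · rfl

theorem ev_ne {i j : Fin n} {t : Fˣ} {x : Fin n × Bool} (h1 : x.1 ≠ i) (h2 : x.1 ≠ j) : ev H i j t x = 1 := by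
  unfold ev
  rw [if_neg h1, if_neg h2]

theorem ev_i {i j : Fin n} {t : Fˣ} (s : Bool) : ev H i j t (i, s) = if s then (t : F) else H.σ ((t⁻¹ : Fˣ) : F) :=
  if_pos rfl

theorem ev_j {i j : Fin n} (hij : i ≠ j) {t : Fˣ} (s : Bool) :
    ev H i j t (j, s) = if s then ((t⁻¹ : Fˣ) : F) else H.σ (t : F) := by
  unfold ev
  rw [if_neg (fun h => hij h.symm), if_pos rfl]

/-- `σ(t) = t⁻¹` -/
theorem sig_eq {t : Fˣ} (ht : (t : F) * H.σ t = 1) : H.σ (t : F) = ((t⁻¹ : Fˣ) : F) := by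
  rw [Units.val_inv_eq_inv_val]
  exact eq_inv_of_mul_eq_one_right ht

theorem sig_eq' {t : Fˣ} (ht : (t : F) * H.σ t = 1) : H.σ ((t⁻¹ : Fˣ) : F) = (t : F) := by
  rw [← sig_eq ht, H.σσ]

include hb hc in
/-- **The last long node.** -/
theorem ev_one {S : Finset (Fin n)} (hS : ∀ k ∈ S, (k : ℕ) + 3 < n) (hbc : b ≠ c) {t : Fˣ}
    (ht : (t : F) * H.σ t = 1) (x : Fin n × Bool) : ev H b c t (fp S (sg c x)) = ev H b c t x := by
  have hbS : b ∉ S := fun h => by have := hS b h; omega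
  have hcS : c ∉ S := fun h => by have := hS c h; omega
  have hc' : ¬ (c : ℕ) + 1 < n := by omega
  obtain ⟨k, s⟩ := x
  by_cases h1 : k = c
  · subst h1
    rw [sg_last hc', fp_ne _ hcS, ev_j hbc, ev_j hbc, sig_eq ht]
    cases s <;> rfl
  · rw [sg_of_ne h1 (fun h => by have := k.2; simp only at h; omega)]
    by_cases h2 : k = b
    · subst h2
      rw [fp_ne _ hbS]
    · rw [ev_ne (by rw [fp_fst]; exact h2) (by rw [fp_fst]; exact h1), ev_ne h2 h1]

include ha hb hc in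
/-- **The long node before.** -/
theorem ev_two {S : Finset (Fin n)} (hS : ∀ k ∈ S, (k : ℕ) + 3 < n) (hab : a ≠ b) (hbc : b ≠ c) (hac : a ≠ c) {t : Fˣ}
    (ht : (t : F) * H.σ t = 1) (x : Fin n × Bool) :
    ev H a b t (fp S (sg c (sg b (sg c x)))) = ev H a b t x * ev H b c t x := by
  have haS : a ∉ S := fun h => by have := hS a h; omega
  have hbS : b ∉ S := fun h => by have := hS b h; omega
  have hcS : c ∉ S := fun h => by have := hS c h; omega
  have hc' : ¬ (c : ℕ) + 1 < n := by omega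
  have hb' : (b : ℕ) + 1 < n := by omega
  have hbc' : (⟨b + 1, hb'⟩ : Fin n) = c := Fin.ext (by simp only; omega)
  have h1 : (t : F) * ((t⁻¹ : Fˣ) : F) = 1 := by rw [← Units.val_mul, mul_inv_cancel, Units.val_one]
  have hsb : ∀ s, sg b (b, s) = (c, s) := fun s => by rw [sg_up hb', hbc']
  have hsc : ∀ s, sg b (c, s) = (b, s) := fun s => by rw [← hbc', sg_down hb']
  have hscb : ∀ s, sg c (b, s) = (b, s) := fun s =>
    sg_of_ne hbc (fun h => by simp only at h; omega)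
  obtain ⟨k, s⟩ := x
  by_cases hk1 : k = c
  · subst hk1
    rw [sg_last hc', hsc, hscb, fp_ne _ hbS, ev_j hab, ev_ne (Ne.symm hac) (Ne.symm hbc), ev_j hbc, one_mul,
      sig_eq ht]
    cases s <;> rfl
  · have e0 : sg c (k, s) = (k, s) := sg_of_ne hk1 (fun h => by have := k.2; simp only at h; omega)
    rw [e0]
    by_cases hk2 : k = b
    · subst hk2
      rw [hsb, sg_last hc', fp_ne _ hcS, ev_ne (Ne.symm hac) (Ne.symm hbc), ev_j hab, ev_i, sig_eq ht, sig_eq' ht]
      cases s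
      · simp only [Bool.false_eq_true, if_false]
        rw [mul_comm]
        exact h1.symm
      · simp only [if_true]
        rw [mul_comm]
        exact h1.symm
    · have e1 : sg b (k, s) = (k, s) := sg_of_ne hk2 (fun h => hk1 (Fin.ext (by simp only at h; omega)))
      rw [e1, e0, ev_ne (x := (k, s)) hk2 hk1, mul_one]
      by_cases hk3 : k = a
      · subst hk3
        rw [fp_ne _ haS]
      · rw [ev_ne (by rw [fp_fst]; exact hk3) (by rw [fp_fst]; exact hk2), ev_ne hk3 hk2]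

end three

end Cfsg.Agent.H762.Ppd
end

-- part: H762/Ppd/Expo
section
/-!
# Exponents of characters trivial on the elements of norm one (helper762, TEAM PPD)

`|K| = q ^ 2`, `q = p ^ f`, `j : K → k`, `ψ : Kˣ → k` multiplicative, trivial on `t ^ (q + 1) = 1`, `ψ ^ p ^ a = ψ`:

* `exists_exp` : `ψ(t) = j(t) ^ c`, `1 ≤ c ≤ |K| - 1`;
* **`exists_exp_norm`** : `4 ^ s ≤ |SS p c|`, if `s * gcd a f = f`.
-/

set_option autoImplicit false

namespace Cfsg.Agent.H762.Ppd

open Cfsg.Agent.H875.Fn (SS card_SS_geom two_le_card_SS dvd_of_pow_eq)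
open Cfsg.Agent.H650.Ppd (exists_digits)

variable {K : Type*} [Field K] [Fintype K] {k : Type*} [Field k] (j : K →+* k)

theorem exists_exp (ψ : Kˣ →* k) :
    ∃ c, 1 ≤ c ∧ c ≤ Fintype.card K - 1 ∧ ∀ t : Kˣ, ψ t = j (t : K) ^ c := by
  classical
  obtain ⟨g, hg⟩ := IsCyclic.exists_monoid_generator (α := Kˣ)
  have hg' : ∀ x, x ∈ Subgroup.zpowers g := fun x => by
    obtain ⟨l, hl⟩ := Submonoid.mem_powers_iff _ _ |>.1 (hg x)
    exact Subgroup.mem_zpowers_iff.2 ⟨l, by rw [zpow_natCast]; exact hl⟩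
  have ho : orderOf g = Fintype.card K - 1 := by
    rw [orderOf_eq_card_of_forall_mem_zpowers hg', Nat.card_eq_fintype_card, Fintype.card_units]
  have hm : 0 < Fintype.card K - 1 := by
    have := Fintype.one_lt_card (α := K)
    omega
  set m := Fintype.card K - 1 with hmdef
  have hjg : IsPrimitiveRoot (j (g : K)) m := by
    rw [← ho]
    have h1 := IsPrimitiveRoot.orderOf g
    have h2 : IsPrimitiveRoot (g : K) (orderOf g) := IsPrimitiveRoot.coe_units_iff.2 h1
    exact h2.map_of_injective j.injective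
  have h1 : ψ g ^ m = 1 := by rw [← map_pow, ← ho, pow_orderOf_eq_one, map_one]
  haveI : NeZero m := ⟨hm.ne'⟩
  obtain ⟨i, hi, e⟩ := hjg.eq_pow_of_pow_eq_one h1
  have key : ∀ t : Kˣ, ψ t = j (t : K) ^ i := by
    intro t
    obtain ⟨l, rfl⟩ := Submonoid.mem_powers_iff _ _ |>.1 (hg t)
    rw [map_pow, ← e, Units.val_pow_eq_pow_val, map_pow, ← pow_mul, ← pow_mul, mul_comm]
  by_cases hi0 : i = 0
  · refine ⟨m, hm, le_rfl, fun t => ?_⟩
    rw [key t, hi0, pow_zero, ← map_pow, ← Units.val_pow_eq_pow_val]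
    have h2 : t ^ m = 1 := by
      obtain ⟨l, rfl⟩ := Submonoid.mem_powers_iff _ _ |>.1 (hg t)
      rw [← pow_mul, mul_comm, pow_mul, ← ho, pow_orderOf_eq_one, one_pow]
    rw [h2, Units.val_one, map_one]
  · exact ⟨i, by omega, by omega, key⟩

theorem exists_exp_norm {q : ℕ} (hK : Fintype.card K = q ^ 2) (p : ℕ) [hp : Fact p.Prime] (ψ : Kˣ →* k)
    (hn : ∀ t : Kˣ, t ^ (q + 1) = 1 → ψ t = 1) {a f s : ℕ} (hq : q = p ^ f) (hF : ∀ t, ψ t ^ p ^ a = ψ t)
    (hs : s * Nat.gcd a f = f) :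
    ∃ c, 1 ≤ c ∧ c ≤ Fintype.card K - 1 ∧ (∀ t : Kˣ, ψ t = j (t : K) ^ c) ∧ 4 ^ s ≤ (SS p c).card := by
  classical
  obtain ⟨c, hc1, hc2, hc⟩ := exists_exp j ψ
  have hq2 : 2 ≤ q := by
    have h1 := Fintype.one_lt_card (α := K)
    rw [hK] at h1
    by_contra h
    have h2 : q = 0 ∨ q = 1 := by omega
    rcases h2 with rfl | rfl <;> simp at h1
  have hfac : Fintype.card K - 1 = (q + 1) * (q - 1) := by
    rw [hK]
    have := Nat.sq_sub_sq q 1
    rwa [one_pow] at this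
  have hf0 : f ≠ 0 := by
    rintro rfl
    rw [pow_zero] at hq
    omega
  -- `q + 1 ∣ c`
  have hd1 : (q + 1) ∣ c := by
    obtain ⟨g, hg⟩ := IsCyclic.exists_generator (α := Kˣ)
    have ho : orderOf g = Fintype.card K - 1 := by
      rw [orderOf_eq_card_of_forall_mem_zpowers hg, Nat.card_eq_fintype_card, Fintype.card_units]
    have h1 : (g ^ (q - 1)) ^ (q + 1) = 1 := by
      rw [← pow_mul, mul_comm, ← hfac, ← ho, pow_orderOf_eq_one]
    have h2 := hn _ h1
    rw [hc, ← map_pow, ← Units.val_pow_eq_pow_val] at h2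
    have h3 : (((g ^ (q - 1)) ^ c : Kˣ) : K) = 1 := j.injective (h2.trans (map_one j).symm)
    have h4 : (g ^ (q - 1)) ^ c = 1 := Units.ext h3
    rw [← pow_mul, ← orderOf_dvd_iff_pow_eq_one, ho, hfac, mul_comm (q - 1) c] at h4
    exact (Nat.mul_dvd_mul_iff_right (by omega)).1 h4
  obtain ⟨c', rfl⟩ := hd1
  have hc'0 : c' ≠ 0 := by
    rintro rfl
    rw [mul_zero] at hc1
    omega
  have hc'le : c' ≤ q - 1 := by
    rw [hfac] at hc2
    exact Nat.le_of_mul_le_mul_left hc2 (by omega)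
  have hQ : 1 ≤ p ^ a := Nat.one_le_pow _ _ hp.out.pos
  have hd2 := dvd_of_pow_eq (j := j) (r := (q + 1) * c') (Q := p ^ a) (fun t => by
    rw [← hc, ← hF t, hc, ← pow_mul, ← pow_mul, mul_comm]) hQ
  rw [hfac, mul_assoc, Nat.mul_dvd_mul_iff_left (by omega)] at hd2
  have hd3 : p ^ f - 1 ∣ c' * (p ^ Nat.gcd a f - 1) := by
    rw [hq] at hd2
    have h2 := Nat.dvd_gcd hd2 (Dvd.intro_left c' rfl)
    rwa [Nat.gcd_mul_left, Nat.pow_sub_one_gcd_pow_sub_one] at h2
  obtain ⟨r₀, h0, -, -, h3⟩ := exists_digits p (Nat.gcd_ne_zero_right hf0) (by rw [mul_comm]; exact hs.symm)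
    hc'0 (by rw [← hq]; exact hc'le) hd3
  refine ⟨(q + 1) * c', hc1, hc2, hc, ?_⟩
  have h4 : (q + 1) * c' = c' * ∑ i ∈ Finset.range 2, (p ^ f) ^ i := by
    rw [Finset.sum_range_succ, Finset.sum_range_one, pow_zero, pow_one, ← hq]
    ring
  rw [h4, card_SS_geom (by rw [← hq]; omega) 2, h3]
  have h5 : 2 ^ s ≤ (SS p r₀).card ^ s := Nat.pow_le_pow_left (two_le_card_SS h0) s
  calc 4 ^ s = (2 ^ s) ^ 2 := by rw [← pow_mul, mul_comm, pow_mul]; norm_num
    _ ≤ _ := Nat.pow_le_pow_left h5 2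

end Cfsg.Agent.H762.Ppd
end

-- part: H762/Ppd/Rank
section
/-!
# The rank of a long node: lower bound (helper762, TEAM PPD)

**`four_le_lrk`** : `|K| = q ^ 2`, `q = p ^ f`, `|F| = p ^ a`, `s * gcd a f = f`, `w⁻¹ α_i > 0`, `w⁻¹ s_i w ∉ W_J`, and
`g⁻¹ σ(diag(t, t⁻¹)) g` acts trivially on `V^U` if `t ^ (q + 1) = 1`: then `4 ^ s ≤ lrk {i} g`.
-/

set_option autoImplicit false
set_option linter.unusedSectionVars false
set_option linter.style.haveILetI false

namespace Cfsg.Agent.H762.Ppd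

open Matrix CoxeterSystem Cfsg.Agent.ChevalleyStructure.CoxeterGeom Cfsg.Agent.Tits.Roots Cfsg.Agent.Tits.Core
  Cfsg.Agent.Tits.Exchange Cfsg.Agent.Nodes.Reps Cfsg.Agent.Nodes.BNOf Cfsg.Agent.Nodes.StabComb
  Cfsg.Agent.Nodes.Bruhat Cfsg.Agent.Nodes.OppDec Cfsg.Agent.Nodes.LeviDec Cfsg.Agent.KFacts.RgdOpp
  Cfsg.Agent.Omega.CR Cfsg.Agent.Omega.FOne.Lift.Sd Cfsg.Agent.H905.Md
open Cfsg Cfsg.Geo
open Cfsg.Agent.H911 (lin)
open Cfsg.Agent.H911.SLTwo (U Lo hh ww hh_mul hh_one)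
open Cfsg.Agent.H875.Fn (SS)
open Cfsg.Agent.H117.Levi

variable {I W Y : Type*} [Fintype I] [DecidableEq I] [Group W] [Group Y] {M : CoxeterMatrix I}
  {cs : CoxeterSystem M W} {A : I → I → ℤ} {h : IsCartan M A} {p : ℕ} {T : Subgroup Y} {n : I → Y}
  {X : (I → ℤ) → Subgroup Y} {F : Type*} [Field F] {ι : Type} [Fintype ι] [DecidableEq ι]
  {P : Subgroup (GL ι F)} {E : Type*} [Field E] [Fintype E]

variable (R : RGD cs h p T n X) [Finite Y] [Finite W] [hp : Fact p.Prime] [CharP F p] [CharP E p] [Nonempty ι]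
  (hG : GG cs h T X = ⊤) (hT : ∀ s ∈ T, ∀ t ∈ T, s * t = t * s) {φ : Y →* GL ι F} (hφ : φ.range = P)
  (hP : ActsAbsolutelyIrreducibly (matrixSet P)) {i : I} {σ : _root_.Matrix.SpecialLinearGroup (Fin 2) E →* Y}
  (N : H650.Ppd.Nd T X i σ)
include R hG hT hφ hP N

theorem four_le_lrk [Finite F] {w : W} {g : Y} (hg : Rp cs R.nsys w g)
    (hmin : 0 ≤ rep cs h w⁻¹ (sr i)) (hs : w⁻¹ * cs.simple i * w ∉ WJ cs (Jx cs h X (lin (acRep φ))))
    (hw : Rp cs R.nsys (cs.simple i) (σ ww)) {q : ℕ} (hE : Fintype.card E = q ^ 2) {a f s : ℕ}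
    (hF : Nat.card F = p ^ a) (hq : q = p ^ f) (hgcd : s * Nat.gcd a f = f)
    (hfix : ∀ t : Eˣ, t ^ (q + 1) = 1 → ∀ v ∈ D cs h X (lin (acRep φ)),
      lin (acRep φ) (g⁻¹ * σ (hh t) * g) v = v) :
    4 ^ s ≤ lrk cs h T X (lin (acRep φ)) {i} g := by
  have hchar : CharP (AlgebraicClosure F) p := charP_of_injective_algebraMap (algebraMap F _).injective p
  have hirr := ac_irr R hG hT hφ hP
  have hD := finrank_D R hirr hT
  obtain ⟨c, hc, hc0, χ, hχ⟩ := exists_chi R hirr hT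
  obtain ⟨j⟩ := H875.Psl2.exists_emb F E p
  have := Fintype.ofFinite F
  have hgT : ∀ t ∈ T, g⁻¹ * t * g ∈ T := by
    intro t ht
    have h1 := (Rp.inv hg).1
    have h2 := (Subgroup.mem_normalizer_iff.1 h1 t).1 ht
    rwa [inv_inv] at h2
  have hmul : ∀ x ∈ T, ∀ y ∈ T, χ (x * y) = χ x * χ y := by
    intro x hx y hy
    have h1 := hχ _ (mul_mem hx hy)
    rw [rho_mul, hχ y hy, map_smul, hχ x hx, smul_smul] at h1
    exact (smul_left_injective _ hc0 (h1.trans rfl)).symm.trans (mul_comm _ _)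
  have hone : χ 1 = 1 := by
    have h1 := hχ 1 (one_mem _)
    rw [rho_one] at h1
    refine (smul_left_injective _ hc0 (?_ : (1 : AlgebraicClosure F) • c = χ 1 • c)).symm
    rw [one_smul]
    exact h1
  let ψ : Eˣ →* AlgebraicClosure F :=
    { toFun := fun t => χ (g⁻¹ * σ (hh t) * g)
      map_one' := by
        rw [hh_one, map_one, mul_one, inv_mul_cancel, hone]
      map_mul' := fun s t => by
        rw [← hmul _ (hgT _ (N.tor s)) _ (hgT _ (N.tor t))]
        congr 1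
        rw [← hh_mul, map_mul]
        group }
  have hψ : ∀ t, ψ t = χ (g⁻¹ * σ (hh t) * g) := fun t => rfl
  obtain ⟨e, he1, he2, he3, he4⟩ := exists_exp_norm j hE p ψ (fun t ht => by
    have h1 := hχ _ (hgT _ (N.tor t))
    rw [hfix t ht c hc] at h1
    rw [hψ]
    refine (smul_left_injective _ hc0 (?_ : (1 : AlgebraicClosure F) • c = χ (g⁻¹ * σ (hh t) * g) • c)).symm
    rw [one_smul]
    exact h1) hq (a := a) (fun t => by
    obtain ⟨b, hb⟩ := chi_mem R hG hφ hP hc hc0 hχ (hgT _ (N.tor t))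
    rw [hψ, ← hb, ← map_pow]
    congr 1
    rw [← hF, Nat.card_eq_fintype_card]
    exact FiniteField.pow_card b) hgcd
  refine he4.trans (card_SS_le_lrk R hirr hg hmin hs j σ (fun t => (N.up _).2 ⟨t, rfl⟩) (fun t => (N.lo _).2 ⟨t, rfl⟩)
    N.tor hw he1 he2 fun t v hv => ?_)
  obtain ⟨b, rfl⟩ := H650.Ppd.exists_smul_of_mem hD hc hc0 hv
  rw [map_smul, hχ _ (hgT _ (N.tor t)), ← hψ, he3, smul_comm]

end Cfsg.Agent.H762.Ppd
end

-- part: H117/LeviB
section
/-!
# Levi restrictions: generalised edges (task 2468, helper117)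

`J` a set of nodes, `g` over `w`, `w⁻¹ J > 0`, `Rd = (Lp J g)^⊥`.

* `mem_Rd_of_fix` : a `U_J`-fixed vector killed by the functionals `ψ (g⁻¹ y ·)`, `y ∈ N_J`, is in `Rd`;
* `Ti_sub_mem` : `T_i g D ⊆ g D + Rd`; `n_memJ` : `n_i g D ⊆ k[X_{-i}] g D + Rd`;
* `Fi i = k[L_i] g D + Rd`, `Ii i` the interior, `finrank_Fi_le`;
* **`lrk_ge`** : `#vertices * dim D + ∑_edges (lrk {i} g - 2 dim D) ≤ lrk J g`.
-/

set_option autoImplicit false
set_option linter.unusedSectionVars false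
set_option linter.style.haveILetI false

namespace Cfsg.Agent.H117.Levi

open CoxeterSystem Cfsg.Agent.ChevalleyStructure.CoxeterGeom Cfsg.Agent.Tits.Roots Cfsg.Agent.Tits.Core
  Cfsg.Agent.Tits.Exchange Cfsg.Agent.Nodes.Reps Cfsg.Agent.Nodes.BNOf Cfsg.Agent.Nodes.StabComb
  Cfsg.Agent.Nodes.Bruhat Cfsg.Agent.Nodes.OppDec Cfsg.Agent.Nodes.LeviDec Cfsg.Agent.KFacts.RgdOpp
  Cfsg.Agent.Omega.CR Cfsg.Agent.Omega.FOne.Lift.Sd Cfsg.Agent.H905.Md

variable {I W Y : Type*} [Fintype I] [DecidableEq I] [Group W] [Group Y] {M : CoxeterMatrix I}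
  {cs : CoxeterSystem M W} {A : I → I → ℤ} {h : IsCartan M A} {p : ℕ} {T : Subgroup Y} {n : I → Y}
  {X : (I → ℤ) → Subgroup Y}

variable {k V : Type*} [Field k] [AddCommGroup V] [Module k V]

/-! ### the Weyl group -/

section weyl

omit [Group Y]

/-- an element which maps a simple root to a simple root -/
theorem conj_simple' {f : W} {i j : I} (e : rep cs h f (sr i) = sr j) : f * cs.simple i * f⁻¹ = cs.simple j := by
  have e' : rep cs h f⁻¹ (sr j) = sr i := by rw [← e, rep_inv_apply]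
  have hlt : ∀ {w : W} {i : I}, 0 ≤ rep cs h w (sr i) → cs.length (w * cs.simple i) = cs.length w + 1 := by
    intro w i h0
    rcases cs.length_mul_simple w i with h1 | h1
    · exact h1
    · exfalso
      exact ((isRoot_sr cs h i).act w).not_pos_neg h0 (nonpos_of_lt cs h w i (by omega))
  have hlt' : ∀ {w : W} {i : I}, 0 ≤ rep cs h w⁻¹ (sr i) → cs.length (cs.simple i * w) = cs.length w + 1 := by
    intro w i h0
    have h1 := hlt h0
    rwa [cs.length_inv, ← cs.length_inv (w⁻¹ * cs.simple i), mul_inv_rev, inv_inv, cs.inv_simple] at h1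
  have h2 := hlt' (w := f) (i := j) (by rw [e']; exact sr_nonneg i)
  rcases fold cs h2 (hlt (by rw [e]; exact sr_nonneg j)) with h6 | h6
  · exfalso
    have h7 : 0 ≤ rep cs h (cs.simple j * f) (sr i) := by
      refine nonneg_of_lt cs h _ i ?_
      omega
    have h8 : rep cs h (cs.simple j * f) (sr i) = - sr j := by
      rw [rep_mul_apply, e, rep_simple_sr]
    rw [h8] at h7
    have h9 := h7 j
    rw [Pi.neg_apply, sr_self] at h9
    have h10 : (0 : ℤ) ≤ -1 := h9
    omega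
  · rw [← h6, mul_inv_cancel_right]

/-- the reflection of a root of `J'` -/
theorem refl_mem_WJ [Finite W] {J' : Set I} {w : W} {i : I} (hβ : rep cs h w⁻¹ (sr i) ∈ RootsJ cs h J') :
    w⁻¹ * cs.simple i * w ∈ WJ cs J' := by
  obtain ⟨v, hv, j, hj, e⟩ := exists_of_mem_RootsJ hβ
  have h1 : rep cs h (w * v) (sr j) = sr i := by rw [rep_mul_apply, ← e, rep_apply_inv]
  have h2 := conj_simple' h1
  have h3 : w⁻¹ * cs.simple i * w = v * cs.simple j * v⁻¹ := by rw [← h2]; group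
  rw [h3]
  exact mul_mem (mul_mem hv (_root_.Cfsg.Agent.Tits.Exchange.simple_mem_WJ cs hj)) (inv_mem hv)

/-- the stabiliser is a standard parabolic subgroup -/
theorem not_mem_of_up [Finite W] {J J' : Set I} {w : W} (hmin : ∀ i ∈ J, 0 ≤ rep cs h w⁻¹ (sr i)) {i : I} (hi : i ∈ J)
    (hs : w⁻¹ * cs.simple i * w ∉ WJ cs J') {x : W} (hx : x ∈ WJ cs J) (hxi : 0 ≤ rep cs h x (sr i)) :
    w⁻¹ * (x * cs.simple i) * w ∉ WJ cs J' := by
  intro hu
  have hβ : IsRoot cs h (rep cs h w⁻¹ (sr i)) := (isRoot_sr cs h i).act _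
  have h1 : rep cs h (w⁻¹ * (x * cs.simple i) * w) (rep cs h w⁻¹ (sr i)) = - rep cs h w⁻¹ (rep cs h x (sr i)) := by
    rw [rep_mul_apply, rep_apply_inv, rep_mul_apply, rep_mul_apply, rep_simple_sr, map_neg, map_neg]
  have h2 : rep cs h x (sr i) ∈ RootsJ cs h J := RootsJ.act hx (PosJ_subset J (sr_mem_PosJ hi))
  have h3 : 0 ≤ rep cs h w⁻¹ (rep cs h x (sr i)) := rep_nonneg hmin ⟨h2.1, hxi, h2.2⟩
  rcases mem_PosJ_or_NotJ J' hβ (hmin i hi) with h4 | h4
  · exact hs (refl_mem_WJ (PosJ_subset _ h4))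
  · have h5 := NotJ.act hu h4
    rw [h1] at h5
    exact h5.1.not_pos_neg h5.2.1 (neg_nonpos.2 h3)

theorem mem_WJ_single {i : I} {x : W} (hx : x ∈ WJ cs ({i} : Set I)) : x = 1 ∨ x = cs.simple i := by
  unfold WJ at hx
  induction hx using Subgroup.closure_induction with
  | mem y hy =>
    obtain ⟨j, hj, rfl⟩ := hy
    rw [Set.mem_singleton_iff] at hj
    right
    rw [hj]
  | one => exact Or.inl rfl
  | mul a b _ _ ha hb =>
    rcases ha with rfl | rfl <;> rcases hb with rfl | rfl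
    · left; rw [one_mul]
    · right; rw [one_mul]
    · right; rw [mul_one]
    · left; rw [cs.simple_mul_simple_self]
  | inv a _ ha =>
    rcases ha with rfl | rfl
    · left; rw [inv_one]
    · right; rw [cs.inv_simple]

end weyl

/-! ### the radical -/

/-- the vectors killed by `Lp J g` -/
def Rd (cs : CoxeterSystem M W) (h : IsCartan M A) (T : Subgroup Y) (X : (I → ℤ) → Subgroup Y)
    (ρ : Y →* Module.End k V) (J : Set I) (g : Y) : Submodule k V := (Lp cs h T X ρ J g).dualCoannihilator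

theorem mem_Rd {ρ : Y →* Module.End k V} {J : Set I} {g : Y} {v : V} : v ∈ Rd cs h T X ρ J g ↔
    ∀ l ∈ LJ cs h T X J, ∀ ψ ∈ fx ((dualRep ρ :)) (UN cs h X), ψ (ρ (g⁻¹ * l) v) = 0 := by
  unfold Rd
  rw [Submodule.mem_dualCoannihilator]
  constructor
  · intro h0 l hl ψ hψ
    have h1 := h0 (dualRep ρ l⁻¹ (dualRep ρ g ψ)) (mem_Sp _ (inv_mem hl) ⟨ψ, hψ, rfl⟩)
    rwa [dualRep_apply, dualRep_apply, inv_inv, ← rho_mul] at h1
  · intro h0 φ hφ
    unfold Lp Sp at hφ
    induction hφ using Submodule.span_induction with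
    | mem x hx =>
      obtain ⟨b, hb, _, ⟨ψ, hψ, rfl⟩, rfl⟩ := hx
      rw [dualRep_apply, dualRep_apply, ← rho_mul]
      exact h0 _ (inv_mem hb) ψ hψ
    | zero => rfl
    | add x y _ _ hx hy => rw [LinearMap.add_apply, hx, hy, add_zero]
    | smul a x _ hx => rw [LinearMap.smul_apply, hx, smul_zero]

theorem Ivt_Rd {ρ : Y →* Module.End k V} {J : Set I} {g : Y} : Ivt ρ (LJ cs h T X J) (Rd cs h T X ρ J g) := by
  intro b hb v hv
  rw [mem_Rd] at hv ⊢
  intro l hl ψ hψ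
  have h1 := hv (l * b) (mul_mem hl hb) ψ hψ
  rwa [← rho_mul, mul_assoc]

/-- the functionals of `Lp {i} g` kill `Rd`, `i ∈ J` -/
theorem kill_Rd {ρ : Y →* Module.End k V} {J J' : Set I} (hJ : J' ⊆ J) {g : Y} {φ : Module.Dual k V}
    (hφ : φ ∈ Lp cs h T X ρ J' g) {v : V} (hv : v ∈ Rd cs h T X ρ J g) : φ v = 0 :=
  (Submodule.mem_dualCoannihilator v).1 hv φ (Sp_mono _ (LJ_mono hJ) _ hφ)

section

variable (R : RGD cs h p T n X) [Finite Y] [Finite W] [Fact p.Prime] [CharP k p]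
  {ρ : Y →* Module.End k V} [FiniteDimensional k V]
  (hirr : ∀ L : Submodule k V, Ivt ρ (GG cs h T X) L → L = ⊥ ∨ L = ⊤)
  {J : Set I} {w : W} {g : Y} (hg : Rp cs R.nsys w g) (hmin : ∀ i ∈ J, 0 ≤ rep cs h w⁻¹ (sr i))

include R hg in
omit [Finite Y] [Finite W] [Fact p.Prime] [CharP k p] [FiniteDimensional k V] in
/-- the root groups of `J` and `g D` -/
theorem fix_of_pos {x : I → ℤ} (hx : IsRoot cs h x) (hwx : 0 ≤ rep cs h w⁻¹ x) {u : Y} (hu : u ∈ X x) {v : V}
    (hv : v ∈ (D cs h X ρ).map (ρ g)) : ρ u v = v := by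
  obtain ⟨d, hd, rfl⟩ := hv
  have h1 := R.conj_mem' hg hx hu
  have h2 : ρ (g⁻¹ * u * g) d = d := hd _ (RGD.le_Sup (S := RGD.Pos cs h) ⟨hx.act _, hwx⟩ h1)
  have e : u * g = g * (g⁻¹ * u * g) := by group
  rw [← rho_mul, e, rho_mul, h2]

include R hg hmin in
omit [Finite Y] [Finite W] [Fact p.Prime] [CharP k p] [FiniteDimensional k V] in
/-- the functionals and the commutators -/
theorem kill_cm {x : I → ℤ} (hx : x ∈ NegJ cs h J) {v : V} (hv : v ∈ cm ρ (X x) (⊤ : Submodule k V))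
    {ψ : Module.Dual k V} (hψ : ψ ∈ fx ((dualRep ρ :)) (UN cs h X)) : ψ (ρ g⁻¹ v) = 0 := by
  have h1 : ρ g⁻¹ v ∈ (cm ρ (X x) (⊤ : Submodule k V)).map (ρ g⁻¹) := ⟨v, hv, rfl⟩
  rw [map_cm, R.conj_rp hg.inv (isRoot_of_negJ hx)] at h1
  refine apply_cm hψ (cm_mono (X_le_UN ((isRoot_of_negJ hx).act _) ?_) le_top h1)
  have h2 := rep_nonneg hmin hx
  rw [map_neg] at h2
  exact neg_nonneg.1 h2

include R hirr hg in
/-- `T` preserves `g D` -/
theorem T_gD [Nontrivial V] : Ivt ρ T ((D cs h X ρ).map (ρ g)) := by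
  rintro t ht _ ⟨d, hd, rfl⟩
  have h1 : g⁻¹ * t * g ∈ T := by
    have h2 := (Subgroup.mem_normalizer_iff.1 hg.inv.mem_normalizer t).1 ht
    rwa [inv_inv] at h2
  refine ⟨ρ (g⁻¹ * t * g) d, D_ivt R hirr _ h1 d hd, ?_⟩
  rw [← rho_mul, ← rho_mul]
  congr 2
  group

include R hg hmin in
omit [Finite Y] [Fact p.Prime] [CharP k p] [FiniteDimensional k V] in
/-- a `U_J`-fixed vector killed by the functionals over `N_J` -/
theorem mem_Rd_of_fix {v : V} (hv : ∀ u ∈ UJ cs h X J, ρ u v = v)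
    (h0 : ∀ x ∈ WJ cs J, ∀ y, Rp cs R.nsys x y → ∀ ψ ∈ fx ((dualRep ρ :)) (UN cs h X), ψ (ρ (g⁻¹ * y) v) = 0) :
    v ∈ Rd cs h T X ρ J g := by
  rw [mem_Rd]
  intro l hl ψ hψ
  obtain ⟨a, ha, x, hx, y, hy, u, hu, rfl⟩ := exists_opp_decJ R hl
  have h1 : g⁻¹ * a * g ∈ UN cs h X := by
    refine conj_mem_Sup' R hg (fun x hx => isRoot_of_negJ hx) (fun x hx => ?_) ha
    refine ⟨(isRoot_of_negJ hx).act _, ?_⟩
    have h2 := rep_nonneg hmin hx
    rw [map_neg] at h2
    exact neg_nonneg.1 h2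
  have e : g⁻¹ * (a * y * u) = (g⁻¹ * a * g) * (g⁻¹ * y) * u := by group
  rw [e, rho_mul, hv u hu, rho_mul, (mem_fx_dual ρ).1 hψ _ h1]
  exact h0 x hx y hy ψ hψ

include R hg hmin in
omit [Fact p.Prime] [CharP k p] [FiniteDimensional k V] [Finite W] in
/-- `T_i g D` is fixed by `U_J` -/
theorem Ti_fixJ {i : I} (hi : i ∈ J) {v : V} (hv : v ∈ (D cs h X ρ).map (ρ g)) {u : Y} (hu : u ∈ UJ cs h X J) :
    ρ u (Ti n X ρ i v) = Ti n X ρ i v := by
  classical
  let _ := Fintype.ofFinite (X (sr i))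
  -- the complement of `X_i`
  set S : Set (I → ℤ) := PosJ cs h J \ {sr i} with hS
  have hvS : ∀ a ∈ RGD.Sup X S, ρ a v = v := by
    obtain ⟨d, hd, rfl⟩ := hv
    intro a ha
    have h2 : g⁻¹ * a * g ∈ RGD.Sup X (RGD.Pos cs h) := by
      refine conj_mem_Sup' R hg (fun x hx => hx.1.1) (fun x hx => ?_) ha
      exact ⟨hx.1.1.act _, rep_nonneg hmin hx.1⟩
    have h3 : ρ (g⁻¹ * a * g) d = d := hd _ h2
    have e : a * g = g * (g⁻¹ * a * g) := by group
    rw [← rho_mul, e, rho_mul, h3]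
  have hn : X (sr i) ≤ Subgroup.normalizer (RGD.Sup X S : Set Y) := by
    refine R.X_le_normalizer_diff (fun x hx => ⟨hx.1, hx.2.1⟩) (isRoot_sr cs h i) (sr_nonneg i) ?_
    intro y hy hyi z hz
    refine ⟨⟨hz.1, RGD.nonneg_of_btwn (sr_nonneg i) hy.2.1 hz, fun l hl => ?_⟩,
      btwn_ne_sr hz (sr_nonneg i) hy.1 hy.2.1 hyi⟩
    exact btwn_apply_zero hz (sr_ne (by rintro rfl; exact hl hi)) (hy.2.2 l hl)
  have key : ∀ a ∈ RGD.Sup X S, ρ a (Ti n X ρ i v) = Ti n X ρ i v := by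
    intro a ha
    rw [Ti_apply, sg_def, map_sum]
    refine Finset.sum_congr rfl fun x _ => ?_
    have h1 : (x : Y)⁻¹ * a * x ∈ RGD.Sup X S := by
      have h2 := (Subgroup.mem_normalizer_iff.1 (inv_mem (hn x.2)) a).1 ha
      rwa [inv_inv] at h2
    have h2 : (n i)⁻¹ * ((x : Y)⁻¹ * a * x) * n i ∈ RGD.Sup X S := by
      refine conj_mem_Sup' R (rp_simple cs R.nsys i) (fun x hx => hx.1.1) (fun x hx => ?_) h1
      rw [cs.inv_simple]
      refine ⟨⟨hx.1.1.act _, hx.1.1.simple_nonneg hx.1.2.1 i hx.2, fun l hl => ?_⟩, ?_⟩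
      · rw [rep_simple_apply cs h i x l (by rintro rfl; exact hl hi)]
        exact hx.1.2.2 l hl
      · intro h3
        rw [Set.mem_singleton_iff] at h3
        have h4 : x = - sr i := by
          have h5 : rep cs h (cs.simple i) (rep cs h (cs.simple i) x) = x := by
            rw [← rep_mul_apply, cs.simple_mul_simple_self, map_one, Module.End.one_apply]
          rw [← h5, h3, rep_simple_sr]
        have h5 := hx.1.2.1
        rw [h4] at h5
        exact (isRoot_sr cs h i).neg.not_pos_neg h5 (neg_nonpos.2 (sr_nonneg i))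
    have h4 : a * ((x : Y) * n i) = (x : Y) * n i * ((n i)⁻¹ * ((x : Y)⁻¹ * a * x) * n i) := by group
    rw [← rho_mul ρ (x : Y), ← rho_mul, h4, rho_mul, hvS _ h2]
  obtain ⟨r, hr, b, hb, rfl⟩ := exists_mul R (S := PosJ cs h J) (i := i) (fun x hx => ⟨hx.1, hx.2.1⟩)
    (sr_mem_PosJ hi) (fun y hy hyi z hz => ⟨hz.1, RGD.nonneg_of_btwn (sr_nonneg i) hy.2.1 hz, fun l hl =>
      btwn_apply_zero hz (sr_ne (by rintro rfl; exact hl hi)) (hy.2.2 l hl)⟩) hu
  have h5 : ρ b (Ti n X ρ i v) = Ti n X ρ i v := rho_sg_of_mem ρ _ hb _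
  rw [rho_mul, h5, key r hr]

include R hirr hg hmin in
/-- the functionals kill `y n_i g D` if `y α_i > 0` -/
theorem kill_up [Nontrivial V] {i : I} (hi : i ∈ J) (hs : w⁻¹ * cs.simple i * w ∉ WJ cs (Jx cs h X ρ)) {x : W}
    (hx : x ∈ WJ cs J) (hxi : 0 ≤ rep cs h x (sr i)) {y : Y} (hy : Rp cs R.nsys x y) {ψ : Module.Dual k V}
    (hψ : ψ ∈ fx ((dualRep ρ :)) (UN cs h X)) {v : V} (hv : v ∈ (D cs h X ρ).map (ρ g)) :
    ψ (ρ (g⁻¹ * (y * n i)) v) = 0 := by
  obtain ⟨d, hd, rfl⟩ := hv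
  by_contra hne
  rw [← rho_mul] at hne
  exact not_mem_of_up hmin hi hs hx hxi
    (mem_WJ_of_pair R hirr hψ ((hg.inv.mul (hy.mul (rp_simple cs R.nsys i))).mul hg) hd hne)

include R hirr hg hmin in
/-- `T_i g D ⊆ g D + Rd` -/
theorem Ti_mem [Nontrivial V] {i : I} (hi : i ∈ J) (hs : w⁻¹ * cs.simple i * w ∉ WJ cs (Jx cs h X ρ)) {v : V}
    (hv : v ∈ (D cs h X ρ).map (ρ g)) : Ti n X ρ i v ∈ (D cs h X ρ).map (ρ g) ⊔ Rd cs h T X ρ J g := by
  classical
  let _ := Fintype.ofFinite (X (sr i))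
  -- `u n_i v = y_u t_u v`
  have key : ∀ u : X (sr i), ∃ t ∈ T, ∃ y ∈ X (-sr i), (u : Y) ≠ 1 → ρ ((u : Y) * n i) v = ρ (y * t) v := by
    intro u
    by_cases hu : (u : Y) = 1
    · exact ⟨1, one_mem _, 1, one_mem _, fun h1 => absurd hu h1⟩
    · obtain ⟨y, hy, t, ht, b, hb, e⟩ := mul_n R i u.2 hu
      refine ⟨t, ht, y, hy, fun _ => ?_⟩
      rw [e, rho_mul, fix_of_pos R hg (isRoot_sr cs h i) (hmin i hi) hb hv]
  choose t ht y hy e using key
  set s : V := ∑ u ∈ Finset.univ.erase (1 : X (sr i)), ρ (t u) v with hs_def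
  have hsD : s ∈ (D cs h X ρ).map (ρ g) := Submodule.sum_mem _ fun u _ => T_gD R hirr hg _ (ht u) v hv
  have hT : Ti n X ρ i v = ρ (n i) v + ∑ u ∈ Finset.univ.erase (1 : X (sr i)), ρ ((u : Y) * n i) v := by
    rw [Ti_apply, sg_def, ← Finset.add_sum_erase _ _ (Finset.mem_univ (1 : X (sr i)))]
    congr 1
    · rw [Subgroup.coe_one, rho_one]
    · exact Finset.sum_congr rfl fun u _ => (rho_mul ρ _ _ _).symm
  have hne1 : ∀ u ∈ Finset.univ.erase (1 : X (sr i)), (u : Y) ≠ 1 := fun u hu h1 =>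
    Finset.ne_of_mem_erase hu (Subtype.ext h1)
  -- the case `x α_i > 0`
  have up : ∀ x ∈ WJ cs J, 0 ≤ rep cs h x (sr i) → ∀ z, Rp cs R.nsys x z →
      ∀ ψ ∈ fx ((dualRep ρ :)) (UN cs h X), ψ (ρ (g⁻¹ * z) (Ti n X ρ i v)) = ψ (ρ (g⁻¹ * z) s) := by
    intro x hx hxi z hz ψ hψ
    rw [hT, map_add, map_add, ← rho_mul, mul_assoc, kill_up R hirr hg hmin hi hs hx hxi hz hψ hv, zero_add, hs_def,
      map_sum, map_sum, map_sum, map_sum]
    refine Finset.sum_congr rfl fun u hu => ?_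
    rw [e u (hne1 u hu), rho_mul ρ (y u)]
    -- `z y_u z⁻¹` fixes the functional
    have hr : rep cs h x (sr i) ∈ RootsJ cs h J := RootsJ.act hx (PosJ_subset J (sr_mem_PosJ hi))
    have hneg : -rep cs h x (sr i) ∈ NegJ cs h J := by
      change - -rep cs h x (sr i) ∈ PosJ cs h J
      rw [neg_neg]
      exact ⟨hr.1, hxi, hr.2⟩
    have h1 : ρ (y u) (ρ (t u) v) - ρ (t u) v ∈ cm ρ (X (-sr i)) (⊤ : Submodule k V) := mem_cm (hy u) trivial
    have h2 : ρ z (ρ (y u) (ρ (t u) v) - ρ (t u) v) ∈ (cm ρ (X (-sr i)) (⊤ : Submodule k V)).map (ρ z) := ⟨_, h1, rfl⟩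
    rw [map_cm, R.conj_rp hz (isRoot_sr cs h i).neg, map_neg] at h2
    have h3 := kill_cm R hg hmin hneg (cm_mono le_rfl le_top h2) hψ
    rw [map_sub, map_sub, map_sub, sub_eq_zero] at h3
    rw [rho_mul ρ g⁻¹, h3, rho_mul]
  have h1 : Ti n X ρ i v - s ∈ Rd cs h T X ρ J g := by
    refine mem_Rd_of_fix R hg hmin ?_ ?_
    · intro u hu
      rw [map_sub, Ti_fixJ R hg hmin hi hv hu]
      congr 1
      obtain ⟨d, hd, hds⟩ := hsD
      have h2 : g⁻¹ * u * g ∈ RGD.Sup X (RGD.Pos cs h) := by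
        refine conj_mem_Sup' R hg (fun x hx => hx.1) (fun x hx => ?_) hu
        exact ⟨hx.1.act _, rep_nonneg hmin hx⟩
      have h3 : ρ (g⁻¹ * u * g) d = d := hd _ h2
      have e : u * g = g * (g⁻¹ * u * g) := by group
      rw [← hds, ← rho_mul, e, rho_mul, h3]
    · intro x hx z hz ψ hψ
      rw [map_sub, map_sub, sub_eq_zero]
      rcases ((isRoot_sr cs h i).act x).pos_or_neg with hxi | hxi
      · exact up x hx hxi z hz ψ hψ
      · -- `x = x' s_i`
        have hx' : x * cs.simple i ∈ WJ cs J := mul_mem hx (_root_.Cfsg.Agent.Tits.Exchange.simple_mem_WJ cs hi)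
        have hxi' : 0 ≤ rep cs h (x * cs.simple i) (sr i) := by
          rw [rep_mul_apply, rep_simple_sr, map_neg]
          exact neg_nonneg.2 hxi
        have hz' : Rp cs R.nsys (x * cs.simple i) (z * (n i)⁻¹) := by
          have := hz.mul (rp_simple cs R.nsys i).inv
          rwa [cs.inv_simple] at this
        have hr : rep cs h (x * cs.simple i) (sr i) ∈ RootsJ cs h J :=
          RootsJ.act hx' (PosJ_subset J (sr_mem_PosJ hi))
        have hneg : -rep cs h (x * cs.simple i) (sr i) ∈ NegJ cs h J := by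
          change - -rep cs h (x * cs.simple i) (sr i) ∈ PosJ cs h J
          rw [neg_neg]
          exact ⟨hr.1, hxi', hr.2⟩
        have hright : ψ (ρ (g⁻¹ * z) s) = 0 := by
          have h2 := kill_up R hirr hg hmin hi hs hx' hxi' hz' hψ hsD
          rwa [inv_mul_cancel_right] at h2
        rw [hright]
        -- the other side
        have h2 : ∀ u : X (sr i), ψ (ρ (g⁻¹ * z) (ρ (u : Y) (ρ (n i) v))) =
            ψ (ρ (g⁻¹ * (z * n i)) v) := by
          intro u
          have h3 : n i * u * (n i)⁻¹ ∈ X (-sr i) := by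
            have := R.conj_mem (rp_simple cs R.nsys i) (isRoot_sr cs h i) u.2
            rwa [rep_simple_sr] at this
          have h4 : ρ (n i * u * (n i)⁻¹) (ρ (n i * n i) v) - ρ (n i * n i) v ∈
              cm ρ (X (-sr i)) (⊤ : Submodule k V) := mem_cm h3 trivial
          have h5 : ρ (z * (n i)⁻¹) (ρ (n i * u * (n i)⁻¹) (ρ (n i * n i) v) - ρ (n i * n i) v) ∈
              (cm ρ (X (-sr i)) (⊤ : Submodule k V)).map (ρ (z * (n i)⁻¹)) := ⟨_, h4, rfl⟩
          rw [map_cm, R.conj_rp hz' (isRoot_sr cs h i).neg, map_neg] at h5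
          have h6 := kill_cm R hg hmin hneg (cm_mono le_rfl le_top h5) hψ
          rw [map_sub, map_sub, map_sub, sub_eq_zero, ← rho_mul, ← rho_mul, ← rho_mul, ← rho_mul, ← rho_mul] at h6
          rw [← rho_mul, ← rho_mul]
          have e1 : g⁻¹ * z * u * n i = g⁻¹ * (z * (n i)⁻¹) * (n i * u * (n i)⁻¹) * (n i * n i) := by group
          have e2 : g⁻¹ * (z * n i) = g⁻¹ * (z * (n i)⁻¹) * (n i * n i) := by group
          rw [e1, e2, h6]
        rw [Ti_apply, sg_def, map_sum, map_sum, Finset.sum_congr rfl fun u _ => h2 u, Finset.sum_const,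
          Finset.card_univ, nsmul_eq_mul, ← Nat.card_eq_fintype_card, (CharP.cast_eq_zero_iff k p _).2 (p_dvd R i),
          zero_mul]
  have h2 : Ti n X ρ i v = s + (Ti n X ρ i v - s) := by abel
  rw [h2]
  exact Submodule.add_mem_sup hsD h1

include R hirr hg hmin in
/-- `n_i g D ⊆ k[X_{-i}] g D + Rd` -/
theorem n_memJ [Nontrivial V] {i : I} (hi : i ∈ J) {v : V} (hv : v ∈ (D cs h X ρ).map (ρ g)) :
    ρ (n i) v ∈ Sp ρ (X (-sr i)) ((D cs h X ρ).map (ρ g)) ⊔ Rd cs h T X ρ J g := by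
  classical
  by_cases hs : w⁻¹ * cs.simple i * w ∈ WJ cs (Jx cs h X ρ)
  · refine Submodule.mem_sup_left (le_Sp ρ ?_)
    obtain ⟨d, hd, rfl⟩ := hv
    refine ⟨ρ (g⁻¹ * n i * g) d, rp_D R hirr hs ((hg.inv.mul (rp_simple cs R.nsys i)).mul hg) hd, ?_⟩
    rw [← rho_mul, ← rho_mul]
    congr 2
    group
  · let _ := Fintype.ofFinite (X (sr i))
    have hT : Ti n X ρ i v = ρ (n i) v + ∑ u ∈ Finset.univ.erase (1 : X (sr i)), ρ ((u : Y) * n i) v := by
      rw [Ti_apply, sg_def, ← Finset.add_sum_erase _ _ (Finset.mem_univ (1 : X (sr i)))]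
      congr 1
      · rw [Subgroup.coe_one, rho_one]
      · exact Finset.sum_congr rfl fun u _ => (rho_mul ρ _ _ _).symm
    have h1 : ρ (n i) v = Ti n X ρ i v - ∑ u ∈ Finset.univ.erase (1 : X (sr i)), ρ ((u : Y) * n i) v := by
      rw [hT]; abel
    rw [h1]
    refine Submodule.sub_mem _ (sup_le_sup_right (le_Sp ρ) _ (Ti_mem R hirr hg hmin hi hs hv)) ?_
    refine Submodule.mem_sup_left (Submodule.sum_mem _ fun u hu => ?_)
    have hu1 : (u : Y) ≠ 1 := fun h1 => Finset.ne_of_mem_erase hu (Subtype.ext h1)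
    obtain ⟨y, hy, t, ht, b, hb, e⟩ := mul_n R i u.2 hu1
    rw [e, rho_mul, fix_of_pos R hg (isRoot_sr cs h i) (hmin i hi) hb hv, rho_mul]
    exact mem_Sp ρ hy (T_gD R hirr hg t ht v hv)

/-! ### the edge modules -/

/-- `k[L_i] g D + Rd` -/
def Fi (cs : CoxeterSystem M W) (h : IsCartan M A) (T : Subgroup Y) (X : (I → ℤ) → Subgroup Y)
    (ρ : Y →* Module.End k V) (J : Set I) (g : Y) (i : I) : Submodule k V :=
  Lf cs h T X ρ {i} g ⊔ Rd cs h T X ρ J g

/-- `[F_i, X_x] + Rd` -/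
def Ci (cs : CoxeterSystem M W) (h : IsCartan M A) (T : Subgroup Y) (X : (I → ℤ) → Subgroup Y)
    (ρ : Y →* Module.End k V) (J : Set I) (g : Y) (i : I) (x : I → ℤ) : Submodule k V :=
  cm ρ (X x) (Fi cs h T X ρ J g i) ⊔ Rd cs h T X ρ J g

/-- the interior of the edge -/
def Ii (cs : CoxeterSystem M W) (h : IsCartan M A) (T : Subgroup Y) (X : (I → ℤ) → Subgroup Y)
    (ρ : Y →* Module.End k V) (J : Set I) (g : Y) (i : I) : Submodule k V :=
  Ci cs h T X ρ J g i (sr i) ⊓ Ci cs h T X ρ J g i (-sr i)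

omit [Finite Y] [Finite W] [Fact p.Prime] [CharP k p] [FiniteDimensional k V] in
theorem Ivt_supJ {B : Subgroup Y} {L L' : Submodule k V} (h : Ivt ρ B L) (h' : Ivt ρ B L') : Ivt ρ B (L ⊔ L') := by
  intro b hb v hv
  obtain ⟨a, ha, c, hc, rfl⟩ := Submodule.mem_sup.1 hv
  rw [map_add]
  exact Submodule.add_mem_sup (h b hb a ha) (h' b hb c hc)

omit [Finite Y] [Finite W] [Fact p.Prime] [CharP k p] [FiniteDimensional k V] in
theorem Ivt_Fi {i : I} (hi : i ∈ J) : Ivt ρ (LJ cs h T X {i}) (Fi cs h T X ρ J g i) :=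
  Ivt_supJ (Ivt_Sp _ _) (Ivt.mono (LJ_mono (Set.singleton_subset_iff.2 hi)) Ivt_Rd)

include R hirr hg hmin in
/-- `F_i = k[X_{-i}] g D + Rd` -/
theorem Fi_eq [Nontrivial V] {i : I} (hi : i ∈ J) :
    Fi cs h T X ρ J g i = Sp ρ (X (-sr i)) ((D cs h X ρ).map (ρ g)) ⊔ Rd cs h T X ρ J g := by
  have hX : X (-sr i) ≤ LJ cs h T X {i} := X_le_LJ (RootsJ.neg (sr_mem_Roots i))
  have hRd : Ivt ρ (LJ cs h T X {i}) (Rd cs h T X ρ J g) :=
    Ivt.mono (LJ_mono (Set.singleton_subset_iff.2 hi)) Ivt_Rd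
  set N := Sp ρ (X (-sr i)) ((D cs h X ρ).map (ρ g)) ⊔ Rd cs h T X ρ J g with hN
  apply le_antisymm
  · refine sup_le (Sp_le ((le_Sp ρ).trans le_sup_left) ?_) le_sup_right
    have hT : Ivt ρ T N := by
      refine Ivt_supJ (Ivt_of_le ρ (T_stable ρ (T_gD R hirr hg) fun t ht c hc => ?_)) (Ivt.mono T_le_LJ hRd)
      rw [← R.tor _ (isRoot_sr cs h i).neg t ht]
      exact conj_mem_cj.2 hc
    have hm : Ivt ρ (X (-sr i)) N := Ivt_supJ (Ivt_Sp _ _) (Ivt.mono hX hRd)
    -- `n i`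
    have hn : ∀ v ∈ N, ρ (n i) v ∈ N := by
      intro v hv
      obtain ⟨a, ha, c, hc, rfl⟩ := Submodule.mem_sup.1 hv
      rw [map_add]
      refine add_mem ?_ (Submodule.mem_sup_right (hRd _ (n_mem_LJ R rfl) c hc))
      clear hv
      unfold Sp at ha
      induction ha using Submodule.span_induction with
      | mem x hx =>
        obtain ⟨b, hb, v, hv, rfl⟩ := hx
        by_cases hb1 : b = 1
        · rw [hb1, rho_one]; exact n_memJ R hirr hg hmin hi hv
        have h1 : n i * b * (n i)⁻¹ ∈ X (sr i) := by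
          have := R.conj_mem (rp_simple cs R.nsys i) (isRoot_sr cs h i).neg hb
          rwa [map_neg, rep_simple_sr, neg_neg] at this
        have h2 : n i * b * (n i)⁻¹ ≠ 1 := fun h3 => hb1 (mul_eq_left.1 (mul_inv_eq_one.1 h3))
        obtain ⟨y, hy, t, ht, c, hc, e⟩ := mul_n R i h1 h2
        have e1 : n i * b = n i * b * (n i)⁻¹ * n i := by group
        rw [← rho_mul, e1, e, rho_mul, rho_mul, fix_of_pos R hg (isRoot_sr cs h i) (hmin i hi) hc hv]
        exact Submodule.mem_sup_left (mem_Sp ρ hy (T_gD R hirr hg t ht v hv))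
      | zero => rw [map_zero]; exact zero_mem _
      | add x y _ _ hx hy => rw [map_add]; exact add_mem hx hy
      | smul a x _ hx => rw [map_smul]; exact Submodule.smul_mem _ _ hx
    have hn' : n i ∈ stS ρ N := by
      refine mem_stS ρ hn fun v hv => ?_
      have h1 : (n i)⁻¹ = (n i * n i)⁻¹ * n i := by group
      rw [h1, rho_mul]
      exact hT _ (inv_mem (R.sq_mem_T i)) _ (hn v hv)
    refine Ivt_of_le ρ (LJ_single_le (Ivt.le_stS hT) ?_ (Ivt.le_stS hm))
    intro x hx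
    have h1 : (n i)⁻¹ * x * n i ∈ X (-sr i) := conj_n_X' R i hx
    have h2 : x = n i * ((n i)⁻¹ * x * n i) * (n i)⁻¹ := by group
    rw [h2]
    exact mul_mem (mul_mem hn' (Ivt.le_stS hm h1)) (inv_mem hn')
  · exact sup_le_sup_right (Sp_mono ρ hX _) _

include R hirr hg hmin in
theorem Fi_le [Nontrivial V] {i : I} (hi : i ∈ J) :
    Fi cs h T X ρ J g i ≤ (D cs h X ρ).map (ρ g) ⊔ Ci cs h T X ρ J g i (-sr i) := by
  conv_lhs => rw [Fi_eq R hirr hg hmin hi]
  refine sup_le ?_ (le_sup_right.trans le_sup_right)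
  unfold Sp
  rw [Submodule.span_le]
  rintro _ ⟨b, hb, v, hv, rfl⟩
  have e : ρ b v = v + (ρ b v - v) := by abel
  rw [e]
  exact Submodule.add_mem_sup hv (Submodule.mem_sup_left (mem_cm hb (Submodule.mem_sup_left (le_Sp ρ hv))))

omit [Finite Y] [Finite W] [Fact p.Prime] [CharP k p] [FiniteDimensional k V] in
theorem Ci_le {i : I} (hi : i ∈ J) {x : I → ℤ} (hx : x ∈ RootsJ cs h ({i} : Set I)) :
    Ci cs h T X ρ J g i x ≤ Fi cs h T X ρ J g i :=
  sup_le (cm_le fun b hb v hv => Submodule.sub_mem _ (Ivt_Fi hi b (X_le_LJ hx hb) v hv) hv) le_sup_right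

omit [Finite Y] [Finite W] [Fact p.Prime] [CharP k p] [FiniteDimensional k V] in
theorem map_of_Ivt {B : Subgroup Y} {L : Submodule k V} (hL : Ivt ρ B L) {b : Y} (hb : b ∈ B) :
    L.map (ρ b) = L := by
  apply le_antisymm
  · rintro _ ⟨v, hv, rfl⟩
    exact hL b hb v hv
  · intro v hv
    exact ⟨ρ b⁻¹ v, hL _ (inv_mem hb) v hv, rho_rho_inv ρ _ v⟩

include R in
omit [Finite Y] [Finite W] [Fact p.Prime] [CharP k p] [FiniteDimensional k V] in
theorem n_Ci {i : I} (hi : i ∈ J) {x : I → ℤ} (hx : IsRoot cs h x) :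
    (Ci cs h T X ρ J g i x).map (ρ (n i)) = Ci cs h T X ρ J g i (rep cs h (cs.simple i) x) := by
  have hn : n i ∈ LJ cs h T X ({i} : Set I) := n_mem_LJ R rfl
  unfold Ci
  rw [Submodule.map_sup, map_cm, map_of_Ivt (Ivt_Fi hi) hn, R.conj_rp (rp_simple cs R.nsys i) hx,
    map_of_Ivt (Ivt_Rd (J := J)) (n_mem_LJ R hi)]

include R in
omit [Finite Y] [Finite W] [Fact p.Prime] [CharP k p] [FiniteDimensional k V] in
theorem n_Ii {i : I} (hi : i ∈ J) : (Ii cs h T X ρ J g i).map (ρ (n i)) = Ii cs h T X ρ J g i := by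
  unfold Ii
  have hinj : Function.Injective (ρ (n i)) := (Cfsg.Agent.H905.DC.rhoEquiv ρ (n i)).injective
  rw [Submodule.map_inf (ρ (n i)) hinj, n_Ci R hi (isRoot_sr cs h i), n_Ci R hi (isRoot_sr cs h i).neg, map_neg,
    rep_simple_sr, neg_neg, inf_comm]

omit [Finite Y] [Finite W] [Fact p.Prime] [CharP k p] [FiniteDimensional k V] in
theorem Ii_le {i : I} (hi : i ∈ J) : Ii cs h T X ρ J g i ≤ Fi cs h T X ρ J g i :=
  inf_le_left.trans (Ci_le hi (sr_mem_Roots i))

include R hirr hg hmin in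
theorem finrank_Fi_le [Nontrivial V] {i : I} (hi : i ∈ J) :
    Module.finrank k (Fi cs h T X ρ J g i) ≤
      Module.finrank k (Ii cs h T X ρ J g i) + 2 * Module.finrank k (D cs h X ρ) := by
  have h1 := Submodule.finrank_mono (Fi_le R hirr hg hmin hi)
  have h2 := Submodule.finrank_add_le_finrank_add_finrank ((D cs h X ρ).map (ρ g)) (Ci cs h T X ρ J g i (-sr i))
  have h3 : Module.finrank k (Ci cs h T X ρ J g i (sr i)) = Module.finrank k (Ci cs h T X ρ J g i (-sr i)) := by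
    have h4 := n_Ci (ρ := ρ) (g := g) R hi (isRoot_sr cs h i)
    rw [rep_simple_sr] at h4
    rw [← h4, finrank_map]
  have h4 := Submodule.finrank_sup_add_finrank_inf_eq (Ci cs h T X ρ J g i (sr i)) (Ci cs h T X ρ J g i (-sr i))
  have h6 : sr i ∈ RootsJ cs h ({i} : Set I) := sr_mem_Roots i
  have h5 : Module.finrank k (Ci cs h T X ρ J g i (sr i) ⊔ Ci cs h T X ρ J g i (-sr i) : Submodule k V) ≤
      Module.finrank k (Fi cs h T X ρ J g i) :=
    Submodule.finrank_mono (sup_le (Ci_le hi h6) (Ci_le hi (RootsJ.neg h6)))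
  rw [finrank_map] at h2
  unfold Ii
  omega

/-! ### orthogonality -/

include R hg hmin in
omit [Finite Y] [Fact p.Prime] [CharP k p] [FiniteDimensional k V] [Finite W] in
/-- the vertex functionals kill the interiors -/
theorem vertex_killJ {x : W} (hx : x ∈ WJ cs J) {y : Y} (hy : Rp cs R.nsys x y) {i : I} (hi : i ∈ J) {m : V}
    (hm : m ∈ Ii cs h T X ρ J g i) {ψ : Module.Dual k V} (hψ : ψ ∈ fx ((dualRep ρ :)) (UN cs h X)) :
    ψ (ρ (g⁻¹ * y) m) = 0 := by
  have hyL : y ∈ LJ cs h T X J := rp_mem_LJ R hx hy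
  have hr : rep cs h x (sr i) ∈ RootsJ cs h J := RootsJ.act hx (PosJ_subset J (sr_mem_PosJ hi))
  -- a root `β = ± α_i` with `x β < 0`
  have key : ∀ β, IsRoot cs h β → rep cs h x β ∈ NegJ cs h J → m ∈ Ci cs h T X ρ J g i β →
      ψ (ρ (g⁻¹ * y) m) = 0 := by
    intro β hβ hneg hm
    obtain ⟨a, ha, r, hr, rfl⟩ := Submodule.mem_sup.1 hm
    have h1 := (mem_Rd.1 hr) y hyL ψ hψ
    have h2 : ρ y a ∈ (cm ρ (X β) (Fi cs h T X ρ J g i)).map (ρ y) := ⟨a, ha, rfl⟩
    rw [map_cm, R.conj_rp hy hβ] at h2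
    have h3 := kill_cm R hg hmin hneg (cm_mono le_rfl le_top h2) hψ
    rw [map_add, map_add, h1, add_zero, rho_mul]
    exact h3
  rcases hr.1.pos_or_neg with h0 | h0
  · refine key (-sr i) (isRoot_sr cs h i).neg ?_ hm.2
    rw [map_neg]
    change - -rep cs h x (sr i) ∈ PosJ cs h J
    rw [neg_neg]
    exact ⟨hr.1, h0, hr.2⟩
  · exact key (sr i) (isRoot_sr cs h i) ⟨hr.1.neg, neg_nonneg.2 h0, (RootsJ.neg hr).2⟩ hm.1

include R hg hmin in
omit [Finite Y] [Fact p.Prime] [CharP k p] [FiniteDimensional k V] [Finite W] in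
/-- the edge functionals and the root groups outside the edge -/
theorem kill_edge {i : I} (hi : i ∈ J) {γ : I → ℤ} (hγ : γ ∈ NegJ cs h J) (hγi : γ ∉ RootsJ cs h ({i} : Set I))
    {ψ : Module.Dual k V} (hψ : ψ ∈ Lp cs h T X ρ {i} g) {v : V} (hv : v ∈ cm ρ (X γ) (⊤ : Submodule k V)) :
    ψ v = 0 := by
  set S : Set (I → ℤ) := {x | x ∈ NotNJ cs h ({i} : Set I) ∧ x ∈ RootsJ cs h J} with hS
  have hnorm : LJ cs h T X {i} ≤ Subgroup.normalizer (RGD.Sup X S : Set Y) := by
    refine sup_le (R.T_le_normalizer fun _ hx => hx.2.1) (RGD.Sup_le fun x hx => ?_)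
    refine R.le_normalizer hx.1 fun y hy => ⟨hy.2.1, Or.inr ⟨?_, fun z hz => ⟨btwn_NotNJ hx hy.1 hz, hz.1, ?_⟩⟩⟩
    · intro h1
      exact ne_neg_of_NotJ (RootsJ.neg hx) hy.1 (by rw [h1])
    · intro l hl
      exact btwn_apply_zero hz (hx.2 l (by rintro rfl; exact hl hi)) (hy.2.2 l hl)
  have h1 : Lp cs h T X ρ {i} g ≤ fx ((dualRep ρ :)) (RGD.Sup X S) := by
    refine Sp_le ?_ (fx_Ivt hnorm)
    rw [map_fx]
    intro φ hφ b hb
    refine hφ b ?_
    rw [mem_cj]
    refine conj_mem_Sup' R hg (fun x hx => hx.2.1) (fun x hx => ?_) hb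
    refine ⟨hx.2.1.act _, ?_⟩
    have h2 : -x ∈ PosJ cs h J := by
      have h3 : -x ∈ NotJ cs h ({i} : Set I) := hx.1
      exact ⟨h3.1, h3.2.1, (RootsJ.neg hx.2).2⟩
    have h3 := rep_nonneg hmin h2
    rw [map_neg] at h3
    exact neg_nonneg.1 h3
  have h2 : X γ ≤ RGD.Sup X S := by
    refine RGD.le_Sup ⟨?_, ?_⟩
    · refine (mem_PosJ_or_NotJ ({i} : Set I) hγ.1 hγ.2.1).resolve_left fun h3 => hγi ?_
      have := RootsJ.neg (PosJ_subset _ h3)
      rwa [neg_neg] at this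
    · have := RootsJ.neg (PosJ_subset _ hγ)
      rwa [neg_neg] at this
  exact apply_cm (h1 hψ) (cm_mono h2 le_rfl hv)

include R hirr hg hmin in
/-- the edge functionals and the interiors -/
theorem edge_pairJ [Nontrivial V] {x : W} (hx : x ∈ WJ cs J) {y : Y} (hy : Rp cs R.nsys x y) {i i' : I} (hi : i ∈ J)
    (hi' : i' ∈ J) {m : V} (hm : m ∈ Ii cs h T X ρ J g i') {ψ : Module.Dual k V} (hψ : ψ ∈ Lp cs h T X ρ {i} g)
    (hne : ψ (ρ y m) ≠ 0) : (rep cs h x (sr i') = sr i ∨ rep cs h x (sr i') = -sr i) ∧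
      (w⁻¹ * x * w ∈ WJ cs (Jx cs h X ρ) ∨ w⁻¹ * (cs.simple i * x) * w ∈ WJ cs (Jx cs h X ρ)) := by
  have hr : rep cs h x (sr i') ∈ RootsJ cs h J := RootsJ.act hx (PosJ_subset J (sr_mem_PosJ hi'))
  have hJi : ({i} : Set I) ⊆ J := Set.singleton_subset_iff.2 hi
  by_cases hβ : rep cs h x (sr i') ∈ RootsJ cs h ({i} : Set I)
  · -- the positive case
    have pos : ∀ x', x' ∈ WJ cs J → ∀ y', Rp cs R.nsys x' y' → rep cs h x' (sr i') = sr i →
        ∀ m' ∈ Fi cs h T X ρ J g i', ψ (ρ y' m') ≠ 0 →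
          (w⁻¹ * x' * w ∈ WJ cs (Jx cs h X ρ) ∨ w⁻¹ * (cs.simple i * x') * w ∈ WJ cs (Jx cs h X ρ)) := by
      intro x' hx' y' hy' hxx m' hm' hne'
      obtain ⟨a, ha, r, hr, rfl⟩ := Submodule.mem_sup.1 hm'
      have h1 : ψ (ρ y' r) = 0 := kill_Rd hJi hψ (Ivt_Rd y' (rp_mem_LJ R hx' hy') r hr)
      rw [map_add, map_add, h1, add_zero] at hne'
      have h2 : ρ y' a ∈ Lf cs h T X ρ {i} (y' * g) := by
        have h3 : ρ y' a ∈ (Sp ρ (LJ cs h T X {i'}) ((D cs h X ρ).map (ρ g))).map (ρ y') := ⟨a, ha, rfl⟩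
        rw [map_Sp, cj_LJ R hy' hxx] at h3
        have h4 : ((D cs h X ρ).map (ρ g)).map (ρ y') = (D cs h X ρ).map (ρ (y' * g)) := by
          ext v
          constructor
          · rintro ⟨_, ⟨d, hd, rfl⟩, rfl⟩
            exact ⟨d, hd, rho_mul ρ _ _ _⟩
          · rintro ⟨d, hd, rfl⟩
            exact ⟨_, ⟨d, hd, rfl⟩, (rho_mul ρ _ _ _).symm⟩
        rwa [h4] at h3
      obtain ⟨x₁, hx₁, h3⟩ := mem_of_pairJ R hirr (J := {i}) hg (hy'.mul hg) (fun j hj => hmin j (hJi hj))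
        (fun j hj => by
          rw [Set.mem_singleton_iff.1 hj, mul_inv_rev, rep_mul_apply, ← hxx, rep_inv_apply]
          exact hmin i' hi') hψ h2 hne'
      rcases mem_WJ_single hx₁ with rfl | rfl
      · left
        have e : w⁻¹ * 1 * (x' * w) = w⁻¹ * x' * w := by group
        rwa [e] at h3
      · right
        have e : w⁻¹ * cs.simple i * (x' * w) = w⁻¹ * (cs.simple i * x') * w := by group
        rwa [e] at h3
    rcases mem_RootsJ_single hβ with h1 | h1
    · exact ⟨Or.inl h1, pos x hx y hy h1 m (Ii_le hi' hm) hne⟩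
    · refine ⟨Or.inr h1, ?_⟩
      have hy2 : Rp cs R.nsys (x * cs.simple i') (y * (n i')⁻¹) := by
        have := hy.mul (rp_simple cs R.nsys i').inv
        rwa [cs.inv_simple] at this
      have h2 : rep cs h (x * cs.simple i') (sr i') = sr i := by
        rw [rep_mul_apply, rep_simple_sr, map_neg, h1, neg_neg]
      have h3 : ρ (n i') m ∈ Fi cs h T X ρ J g i' := by
        refine Ii_le hi' ?_
        rw [← n_Ii R hi']
        exact ⟨m, hm, rfl⟩
      have h4 := pos _ (mul_mem hx (_root_.Cfsg.Agent.Tits.Exchange.simple_mem_WJ cs hi')) _ hy2 h2 _ h3 (by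
        rw [← rho_mul, inv_mul_cancel_right]; exact hne)
      have h5 : x * cs.simple i' = cs.simple i * x := by
        have h6 := conj_simple' h2
        rw [mul_assoc x, cs.simple_mul_simple_self, mul_one, mul_inv_rev, cs.inv_simple, ← mul_assoc] at h6
        rw [← h6, inv_mul_cancel_right]
      rw [h5] at h4
      rcases h4 with h4 | h4
      · exact Or.inr h4
      · left
        rwa [cs.simple_mul_simple_cancel_left] at h4
  · exfalso
    have key : ∀ β, IsRoot cs h β → rep cs h x β ∈ NegJ cs h J → rep cs h x β ∉ RootsJ cs h ({i} : Set I) →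
        m ∈ Ci cs h T X ρ J g i' β → False := by
      intro β hβr hneg hni hm
      obtain ⟨a, ha, r, hr, rfl⟩ := Submodule.mem_sup.1 hm
      apply hne
      have h1 : ψ (ρ y r) = 0 := kill_Rd hJi hψ (Ivt_Rd y (rp_mem_LJ R hx hy) r hr)
      have h2 : ρ y a ∈ (cm ρ (X β) (Fi cs h T X ρ J g i')).map (ρ y) := ⟨a, ha, rfl⟩
      rw [map_cm, R.conj_rp hy hβr] at h2
      rw [map_add, map_add, h1, add_zero]
      exact kill_edge R hg hmin hi hneg hni hψ (cm_mono le_rfl le_top h2)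
    rcases hr.1.pos_or_neg with h0 | h0
    · refine key (-sr i') (isRoot_sr cs h i').neg ?_ ?_ hm.2
      · rw [map_neg]
        change - -rep cs h x (sr i') ∈ PosJ cs h J
        rw [neg_neg]
        exact ⟨hr.1, h0, hr.2⟩
      · intro h3
        rw [map_neg] at h3
        have := RootsJ.neg h3
        rw [neg_neg] at this
        exact hβ this
    · exact key (sr i') (isRoot_sr cs h i') ⟨hr.1.neg, neg_nonneg.2 h0, (RootsJ.neg hr).2⟩ hβ hm.1

/-! ### the lower bound -/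

omit [Finite Y] [Finite W] [Fact p.Prime] [CharP k p] in
theorem prk_sup_le {f r : Submodule k V} {Φ : Submodule k (Module.Dual k V)} (hr : r ≤ Φ.dualCoannihilator) :
    prk (f ⊔ r) Φ ≤ prk f Φ := by
  have h1 : (f ⊔ r) ⊓ Φ.dualCoannihilator = (f ⊓ Φ.dualCoannihilator) ⊔ r := by
    rw [sup_comm f r, sup_inf_assoc_of_le f hr, sup_comm]
  have h2 := Submodule.finrank_sup_add_finrank_inf_eq f r
  have h3 := Submodule.finrank_sup_add_finrank_inf_eq (f ⊓ Φ.dualCoannihilator) r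
  have h4 : (f ⊓ Φ.dualCoannihilator) ⊓ r = f ⊓ r := by
    rw [inf_assoc, inf_eq_right.2 hr]
  rw [h4] at h3
  unfold prk
  rw [h1]
  omega

omit [Finite Y] [Finite W] [Fact p.Prime] [CharP k p] in
theorem prk_sub_le {f f' : Submodule k V} {Φ : Submodule k (Module.Dual k V)} {d : ℕ} (hf : f' ≤ f)
    (hd : Module.finrank k f ≤ Module.finrank k f' + d) : prk f Φ - d ≤ prk f' Φ := by
  have h1 : Module.finrank k (f' ⊓ Φ.dualCoannihilator : Submodule k V) ≤
      Module.finrank k (f ⊓ Φ.dualCoannihilator : Submodule k V) :=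
    Submodule.finrank_mono (inf_le_inf_right _ hf)
  unfold prk
  omega

/-- equality of generalised edges -/
def SameEdgeJ (cs : CoxeterSystem M W) (h : IsCartan M A) (J' : Set I) (w : W) (x : W) (i : I) (x' : W) (i' : I) :
    Prop :=
  (rep cs h (x⁻¹ * x') (sr i') = sr i ∨ rep cs h (x⁻¹ * x') (sr i') = -sr i) ∧
    (w⁻¹ * (x⁻¹ * x') * w ∈ WJ cs J' ∨ w⁻¹ * (cs.simple i * (x⁻¹ * x')) * w ∈ WJ cs J')

include R hirr hg hmin in
/-- **The generalised edges.** -/
theorem lrk_ge [Nontrivial V] {α β : Type*} [Fintype α] [Fintype β] (v : α → W) (hv : ∀ a, v a ∈ WJ cs J)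
    (hvv : ∀ a a', a ≠ a' → w⁻¹ * ((v a)⁻¹ * v a') * w ∉ WJ cs (Jx cs h X ρ)) (x : β → W)
    (hx : ∀ b, x b ∈ WJ cs J) (i : β → I) (hi : ∀ b, i b ∈ J)
    (he : ∀ b b', b ≠ b' → ¬ SameEdgeJ cs h (Jx cs h X ρ) w (x b) (i b) (x b') (i b')) :
    Fintype.card α * Module.finrank k (D cs h X ρ) +
      ∑ b, (lrk cs h T X ρ {i b} g - 2 * Module.finrank k (D cs h X ρ)) ≤ lrk cs h T X ρ J g := by
  choose y hy using fun w => exists_rp cs R.nsys w
  have hyL : ∀ {z}, z ∈ WJ cs J → y z ∈ LJ cs h T X J := fun hz => rp_mem_LJ R hz (hy _)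
  have hyg : ∀ a, Rp cs R.nsys (v a * w) (y (v a) * g) := fun a => (hy _).mul hg
  -- the vertices
  have h1 : ∀ a, ∀ z ∈ (D cs h X ρ).map (ρ (y (v a) * g)),
      (∀ φ ∈ (fx ((dualRep ρ :)) (UN cs h X)).map (dualRep ρ (y (v a) * g)), φ z = 0) → z = 0 := by
    rintro a _ ⟨z, hz, rfl⟩ h0
    by_contra hz0
    have hz0' : z ≠ 0 := fun h => hz0 (by rw [h, map_zero])
    obtain ⟨φ, hφ, hne⟩ := exists_pair_D R hirr hz hz0'
    apply hne
    have h2 := h0 _ ⟨φ, hφ, rfl⟩
    rwa [dualRep_apply, rho_inv_rho] at h2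
  have h2 : ∀ a a', a ≠ a' → ∀ φ ∈ (fx ((dualRep ρ :)) (UN cs h X)).map (dualRep ρ (y (v a) * g)),
      ∀ z ∈ (D cs h X ρ).map (ρ (y (v a') * g)), φ z = 0 := by
    intro a a' haa φ hφ z hz
    by_contra hne
    have h3 := vertex_pair R hirr (hyg a) (hyg a') hφ hz hne
    have e : (v a * w)⁻¹ * (v a' * w) = w⁻¹ * ((v a)⁻¹ * v a') * w := by group
    rw [e] at h3
    exact hvv a a' haa h3
  -- the interiors
  choose c hc hc1 hc2 using fun b => exists_compl (Ii cs h T X ρ J g (i b)) (Lp cs h T X ρ {i b} g)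
  have h3 : ∀ b, ∀ z ∈ (c b).map (ρ (y (x b))),
      (∀ φ ∈ (Lp cs h T X ρ {i b} g).map (dualRep ρ (y (x b))), φ z = 0) → z = 0 := by
    rintro b _ ⟨z, hz, rfl⟩ h0
    have h4 : z = 0 := by
      refine hc1 b z hz fun φ hφ => ?_
      have h2 := h0 _ ⟨φ, hφ, rfl⟩
      rwa [dualRep_apply, rho_inv_rho] at h2
    rw [h4, map_zero]
  have h4 : ∀ b b', b ≠ b' → ∀ φ ∈ (Lp cs h T X ρ {i b} g).map (dualRep ρ (y (x b))),
      ∀ z ∈ (c b').map (ρ (y (x b'))), φ z = 0 := by
    rintro b b' hbb _ ⟨ψ, hψ, rfl⟩ _ ⟨m, hm, rfl⟩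
    by_contra hne
    rw [dualRep_apply, ← rho_mul] at hne
    exact he b b' hbb (edge_pairJ R hirr hg hmin (mul_mem (inv_mem (hx b)) (hx b')) ((hy _).inv.mul (hy _)) (hi b)
      (hi b') (hc b' hm) hψ hne)
  have h5 : ∀ a b, ∀ φ ∈ (fx ((dualRep ρ :)) (UN cs h X)).map (dualRep ρ (y (v a) * g)),
      ∀ z ∈ (c b).map (ρ (y (x b))), φ z = 0 := by
    rintro a b _ ⟨ψ, hψ, rfl⟩ _ ⟨m, hm, rfl⟩
    rw [dualRep_apply, ← rho_mul]
    have e : (y (v a) * g)⁻¹ * y (x b) = g⁻¹ * ((y (v a))⁻¹ * y (x b)) := by group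
    rw [e]
    exact vertex_killJ R hg hmin (mul_mem (inv_mem (hv a)) (hx b)) ((hy _).inv.mul (hy _)) (hi b) (hc b hm) hψ
  have e1 := sum_le_of_sep h1 h2
  have e2 := sum_le_of_sep h3 h4
  set G₁ : Submodule k V := ⨆ a, (D cs h X ρ).map (ρ (y (v a) * g)) with hG₁
  set G₂ : Submodule k V := ⨆ b, (c b).map (ρ (y (x b))) with hG₂
  have h6 : ∀ a, ∀ φ ∈ (fx ((dualRep ρ :)) (UN cs h X)).map (dualRep ρ (y (v a) * g)), ∀ z ∈ G₂, φ z = 0 := by
    intro a φ hφ z hz
    have h7 : G₂ ≤ LinearMap.ker φ := iSup_le fun b y hy => h5 a b φ hφ y hy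
    exact h7 hz
  have hdis : G₁ ⊓ G₂ = ⊥ := by
    rw [eq_bot_iff]
    rintro z ⟨hz, hz'⟩
    rw [Submodule.mem_bot]
    exact eq_zero_of_sep h1 h2 hz fun a φ hφ => h6 a φ hφ z hz'
  have e3 := Submodule.finrank_sup_add_finrank_inf_eq G₁ G₂
  rw [hdis, finrank_bot, add_zero] at e3
  -- the total
  have hle : G₁ ⊔ G₂ ≤ Lf cs h T X ρ J g ⊔ Rd cs h T X ρ J g := by
    refine sup_le (iSup_le fun a => ?_) (iSup_le fun b => ?_)
    · rintro _ ⟨d, hd, rfl⟩
      refine Submodule.mem_sup_left ?_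
      rw [rho_mul]
      exact mem_Sp ρ (hyL (hv a)) ⟨d, hd, rfl⟩
    · rintro _ ⟨m, hm, rfl⟩
      have h7 : Fi cs h T X ρ J g (i b) ≤ Lf cs h T X ρ J g ⊔ Rd cs h T X ρ J g :=
        sup_le_sup_right (Sp_mono ρ (LJ_mono (Set.singleton_subset_iff.2 (hi b))) _) _
      exact Ivt_supJ (Ivt_Sp _ _) Ivt_Rd _ (hyL (hx b)) _ (h7 (Ii_le (hi b) (hc b hm)))
  have hsep : ∀ z ∈ G₁ ⊔ G₂, (∀ φ ∈ Lp cs h T X ρ J g, φ z = 0) → z = 0 := by
    intro z hz h0
    obtain ⟨z₁, hz₁, z₂, hz₂, rfl⟩ := Submodule.mem_sup.1 hz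
    have h7 : z₁ = 0 := by
      refine eq_zero_of_sep h1 h2 hz₁ fun a φ hφ => ?_
      have h8 := h0 φ (by
        obtain ⟨ψ, hψ, rfl⟩ := hφ
        rw [rho_mul]
        exact mem_Sp _ (hyL (hv a)) ⟨ψ, hψ, rfl⟩)
      rw [map_add, h6 a φ hφ z₂ hz₂, add_zero] at h8
      exact h8
    rw [h7, zero_add] at h0 ⊢
    refine eq_zero_of_sep h3 h4 hz₂ fun b φ hφ => h0 φ ?_
    obtain ⟨ψ, hψ, rfl⟩ := hφ
    exact Ivt_Sp (ρ := (dualRep ρ :)) _ _ _ (hyL (hx b)) _ (Sp_mono _ (LJ_mono (Set.singleton_subset_iff.2 (hi b))) _ hψ)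
  have e4 := (finrank_le_prk hle hsep).trans (prk_sup_le (f := Lf cs h T X ρ J g) (r := Rd cs h T X ρ J g) le_rfl)
  have e5 : ∑ b, (lrk cs h T X ρ {i b} g - 2 * Module.finrank k (D cs h X ρ)) ≤
      ∑ b, Module.finrank k ((c b).map (ρ (y (x b)))) := by
    refine Finset.sum_le_sum fun b _ => ?_
    rw [finrank_map, hc2]
    have h7 := prk_sub_le (Φ := Lp cs h T X ρ {i b} g) (Ii_le (hi b)) (finrank_Fi_le R hirr hg hmin (hi b))
    refine le_trans ?_ h7
    have h8 : lrk cs h T X ρ {i b} g ≤ prk (Fi cs h T X ρ J g (i b)) (Lp cs h T X ρ {i b} g) :=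
      prk_mono le_sup_left le_rfl
    omega
  have e6 : ∑ a, Module.finrank k ((D cs h X ρ).map (ρ (y (v a) * g))) =
      Fintype.card α * Module.finrank k (D cs h X ρ) := by
    simp only [finrank_map, Finset.sum_const, Finset.card_univ, smul_eq_mul]
  rw [e6] at e1
  unfold lrk at e5 ⊢
  omega

end

end Cfsg.Agent.H117.Levi
end

-- part: H762/Ppd/SpinB
section
/-!
# The last node in type `B_n`: the bound by the Levi subgroup of the last two long nodes (helper762, TEAM PPD)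

`a, b, c` the last three indices, `c ∉ J`. The vertices are the sign vectors. For `S` a set of indices without `a, b, c`:
the orbits of `W_{a, b}` of the sign vectors `S + (0, 1, 2, 3 signs)`.

* **`spin_bound`** : `2 ^ (n - 3) * (6 m - 4) ≤ dim V`, if `m ≤ lrk {b} (gu S * n c)` and
  `m ≤ lrk {a} (gu S * (n c * n b * n c))`.
-/

set_option autoImplicit false
set_option linter.unusedSectionVars false
set_option linter.style.haveILetI false

namespace Cfsg.Agent.H762.Ppd.Spin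

open CoxeterSystem Cfsg.Agent.ChevalleyStructure.CoxeterGeom Cfsg.Agent.Tits.Roots Cfsg.Agent.Tits.Core
  Cfsg.Agent.Nodes.Reps Cfsg.Agent.Nodes.BNOf Cfsg.Agent.Nodes.Bruhat Cfsg.Agent.Nodes.TypeC
  Cfsg.Agent.Omega.CR Cfsg.Agent.H905.Md Cfsg.Agent.H117.Levi
open Cfsg.Agent.H48.WittNeg (rf rf_last rf_up ee_rep fl)

variable {n : ℕ}

/-- the last three indices -/
structure Ls (a b c : Fin n) : Prop where
  ha : (a : ℕ) + 3 = n
  hb : (b : ℕ) + 2 = n
  hc : (c : ℕ) + 1 = n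

/-! ### the coordinates -/

section coord

variable {a b c : Fin n} (L : Ls a b c)
include L

theorem Ls.ab : a ≠ b := by
  intro h
  have h1 := L.ha
  have h2 := L.hb
  rw [h] at h1
  omega

theorem Ls.bc : b ≠ c := by
  intro h
  have h1 := L.hb
  have h2 := L.hc
  rw [h] at h1
  omega

theorem Ls.ac : a ≠ c := by
  intro h
  have h1 := L.ha
  have h2 := L.hc
  rw [h] at h1
  omega

theorem Ls.rfa (v : Fin n → ℤ) (k : Fin n) : rf a v k = if k = a then v b else if k = b then v a else v k := by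
  have hi : (a : ℕ) + 1 < n := by have := L.ha; omega
  rw [rf_up hi]
  have h1 : (⟨a + 1, hi⟩ : Fin n) = b := Fin.ext (by have := L.ha; have := L.hb; simp only; omega)
  rw [h1]

theorem Ls.rfb (v : Fin n → ℤ) (k : Fin n) : rf b v k = if k = b then v c else if k = c then v b else v k := by
  have hi : (b : ℕ) + 1 < n := by have := L.hb; omega
  rw [rf_up hi]
  have h1 : (⟨b + 1, hi⟩ : Fin n) = c := Fin.ext (by have := L.hb; have := L.hc; simp only; omega)
  rw [h1]

theorem Ls.rfc (v : Fin n → ℤ) (k : Fin n) : rf c v k = if k = c then - v c else v k := by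
  rw [rf_last (by have := L.hc; omega)]
  unfold fl
  by_cases h : k = c
  · subst h
    rw [if_pos (Finset.mem_singleton_self _), if_pos rfl]
  · rw [if_neg (by rw [Finset.mem_singleton]; exact h), if_neg h]

theorem Ls.bta (k : Fin n) : bt a k = if k = a then 1 else if k = b then -1 else 0 := by
  have hi : (a : ℕ) + 1 < n := by have := L.ha; omega
  have h2 : (k : ℕ) = a + 1 ↔ k = b := by
    rw [Fin.ext_iff]
    have := L.ha; have := L.hb; omega
  rw [bt_apply, if_pos hi]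
  simp only [h2, ← Fin.ext_iff]

theorem Ls.btb (k : Fin n) : bt b k = if k = b then 1 else if k = c then -1 else 0 := by
  have hi : (b : ℕ) + 1 < n := by have := L.hb; omega
  have h2 : (k : ℕ) = b + 1 ↔ k = c := by
    rw [Fin.ext_iff]
    have := L.hb; have := L.hc; omega
  rw [bt_apply, if_pos hi]
  simp only [h2, ← Fin.ext_iff]

theorem Ls.btc (k : Fin n) : bt c k = if k = c then 2 else 0 := by
  have hi : ¬ (c : ℕ) + 1 < n := by have := L.hc; omega
  rw [bt_apply, if_neg hi]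
  simp only [← Fin.ext_iff]

omit L in
/-- the sum of the coordinates -/
def Sm (v : Fin n → ℤ) : ℤ := ∑ k, v k

omit L in
theorem Sm_wt (x : Fin n × Bool) : Sm (wt x) = if x.2 then 1 else -1 := by
  unfold Sm
  rw [Finset.sum_eq_single x.1]
  · rw [wt_apply, if_pos rfl]
  · intro k _ hk
    rw [wt_apply, if_neg hk]
  · intro h
    exact absurd (Finset.mem_univ _) h

omit L in
theorem Sm_add (u v : Fin n → ℤ) : Sm (u + v) = Sm u + Sm v := by
  simp only [Sm, Pi.add_apply, Finset.sum_add_distrib]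

omit L in
theorem Sm_sub (u v : Fin n → ℤ) : Sm (u - v) = Sm u - Sm v := by
  simp only [Sm, Pi.sub_apply, Finset.sum_sub_distrib]

omit L in
theorem Sm_smul (r : ℤ) (v : Fin n → ℤ) : Sm (r • v) = r * Sm v := by
  simp only [Sm, Pi.smul_apply, smul_eq_mul, Finset.mul_sum]

omit L in
theorem Sm_bt (i : Fin n) : Sm (bt i) = if (i : ℕ) + 1 < n then 0 else 2 := by
  unfold bt nx
  rw [Sm_add, Sm_wt]
  by_cases h : (i : ℕ) + 1 < n
  · rw [dif_pos h, if_pos h, Sm_wt]
    simp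
  · rw [dif_neg h, if_neg h, Sm_wt]
    simp

omit L in
theorem Sm_rf (i : Fin n) (v : Fin n → ℤ) : Sm (rf i v) = Sm v - if (i : ℕ) + 1 < n then 0 else 2 * v i := by
  unfold rf
  rw [Sm_sub, Sm_smul, Sm_bt]
  by_cases h : (i : ℕ) + 1 < n
  · rw [if_pos h, if_pos h, mul_zero]
  · rw [if_neg h, if_neg h]
    unfold Cf
    rw [dif_neg h]
    ring

theorem Ls.Sma (v : Fin n → ℤ) : Sm (rf a v) = Sm v := by
  rw [Sm_rf, if_pos (by have := L.ha; omega), sub_zero]

theorem Ls.Smb (v : Fin n → ℤ) : Sm (rf b v) = Sm v := by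
  rw [Sm_rf, if_pos (by have := L.hb; omega), sub_zero]

theorem Ls.Smc (v : Fin n → ℤ) : Sm (rf c v) = Sm v - 2 * v c := by
  rw [Sm_rf, if_neg (by have := L.hc; omega)]

theorem Ls.Sm_ee (x : Fin n → ℤ) : Sm (ee x) = 2 * x c := by
  unfold ee Sm
  have h1 : ∀ k, (∑ j, x j • bt j) k = ∑ j, x j * bt j k := by
    intro k
    rw [Finset.sum_apply]
    rfl
  simp only [h1]
  rw [Finset.sum_comm]
  have h2 : ∀ j, ∑ k, x j * bt j k = x j * Sm (bt j) := fun j => (Finset.mul_sum _ _ _).symm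
  simp only [h2, Sm_bt]
  rw [Finset.sum_eq_single c]
  · rw [if_neg (by have := L.hc; omega)]
    ring
  · intro j _ hj
    have : (j : ℕ) + 1 < n := by
      have h3 : (j : ℕ) ≠ c := fun h => hj (Fin.ext h)
      have := L.hc; have := j.2; omega
    rw [if_pos this, mul_zero]
  · intro h
    exact absurd (Finset.mem_univ _) h

theorem Ls.fne {S : Finset (Fin n)} (hS : ∀ k ∈ S, (k : ℕ) + 3 < n) : a ∉ S ∧ b ∉ S ∧ c ∉ S := by
  refine ⟨fun h => ?_, fun h => ?_, fun h => ?_⟩ <;>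
  · have h1 := hS _ h
    have := L.ha; have := L.hb; have := L.hc
    omega

end coord

/-! ### the separation of the vertices -/

section W

variable {W : Type*} [Group W] (cs : CoxeterSystem (CoxeterMatrix.B n) W)

/-- the sign functional -/
def sv (w : W) (y : Fin n → ℤ) : ℤ := Sm (ee (rep cs (isCartan n) w⁻¹ y))

variable {cs}
variable {a b c : Fin n} (L : Ls a b c)
include L

theorem Ls.sv_eq {J : Set (Fin n)} (hc : c ∉ J) {w w' z : W} (h : w⁻¹ * z * w' ∈ WJ cs J) (y : Fin n → ℤ) :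
    sv cs w y = sv cs w' (rep cs (isCartan n) z⁻¹ y) := by
  unfold sv
  rw [L.Sm_ee, L.Sm_ee]
  congr 1
  have h1 := coord_of_mem_WJ (h := isCartan n) h (rep cs (isCartan n) w'⁻¹ (rep cs (isCartan n) z⁻¹ y)) hc
  rw [← h1, ← rep_mul_apply, ← rep_mul_apply]
  congr 3
  group

theorem Ls.sv_eq' {J : Set (Fin n)} (hc : c ∉ J) {w v v' : W} (h : w⁻¹ * (v⁻¹ * v') * w ∈ WJ cs J) (y : Fin n → ℤ) :
    sv cs (v * w) y = sv cs (v' * w) y := by
  have h1 : (v * w)⁻¹ * 1 * (v' * w) ∈ WJ cs J := by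
    have e : (v * w)⁻¹ * 1 * (v' * w) = w⁻¹ * (v⁻¹ * v') * w := by group
    rw [e]; exact h
  have h2 := L.sv_eq hc h1 y
  rwa [inv_one, map_one, Module.End.one_apply] at h2

omit L in
theorem rep_fix {A' : Set (Fin n)} {x : W} (hx : x ∈ WJ cs A') {y : Fin n → ℤ} (hy : ∀ i ∈ A', Cf i (ee y) = 0) :
    rep cs (isCartan n) x y = y := by
  unfold WJ at hx
  induction hx using Subgroup.closure_induction with
  | mem z hz =>
    obtain ⟨i, hi, rfl⟩ := hz
    apply ee_injective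
    rw [ee_rep]
    unfold rf
    rw [hy i hi, zero_smul, sub_zero]
  | one => rw [map_one, Module.End.one_apply]
  | mul x z _ _ hx hz => rw [rep_mul_apply, hz, hx]
  | inv x _ hx =>
    conv_lhs => rw [← hx]
    rw [rep_inv_apply]

theorem Ls.sv_mul (v w : W) (y : Fin n → ℤ) : sv cs (v * w) y = sv cs w (rep cs (isCartan n) v⁻¹ y) := by
  unfold sv
  rw [← rep_mul_apply, _root_.mul_inv_rev]

end W

/-! ### the elements -/

section elts

variable {W : Type*} [Group W] {cs : CoxeterSystem (CoxeterMatrix.B n) W}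
variable {a b c : Fin n} (L : Ls a b c)

/-- the minimal elements with 0, 1, 2, 3 signs -/
def wj (cs : CoxeterSystem (CoxeterMatrix.B n) W) (a b c : Fin n) (j : Fin 4) : W :=
  if j = 0 then 1 else if j = 1 then cs.simple c else if j = 2 then cs.simple c * cs.simple b * cs.simple c else
    cs.simple c * cs.simple b * cs.simple c * (cs.simple a * cs.simple b * cs.simple c)

variable (u : Finset (Fin n) → W) (hu : ∀ S x, ee (rep cs (isCartan n) (u S) x) = fl S (ee x))
include hu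

omit [Group W] hu in
theorem fl_fl (S : Finset (Fin n)) (v : Fin n → ℤ) : fl S (fl S v) = v := by
  funext k
  unfold fl
  by_cases h : k ∈ S
  · rw [if_pos h, if_pos h, neg_neg]
  · rw [if_neg h, if_neg h]

theorem ee_u_inv (S : Finset (Fin n)) (x : Fin n → ℤ) : ee (rep cs (isCartan n) (u S)⁻¹ x) = fl S (ee x) := by
  have h1 := hu S (rep cs (isCartan n) (u S)⁻¹ x)
  rw [rep_apply_inv] at h1
  rw [h1, fl_fl]

/-- the sign functional of the elements -/
def Fj (a b c : Fin n) (j : Fin 4) (v : Fin n → ℤ) : ℤ :=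
  Sm v - 2 * (if j = 0 then 0 else if j = 1 then v c else if j = 2 then v b + v c else v a + v b + v c)

include L

theorem Ls.sv_wj (S : Finset (Fin n)) (j : Fin 4) (y : Fin n → ℤ) :
    sv cs (u S * wj cs a b c j) y = Fj a b c j (fl S (ee y)) := by
  have hab := L.ab
  have hbc := L.bc
  have hac := L.ac
  unfold sv
  rw [_root_.mul_inv_rev, rep_mul_apply, ]
  rw [← ee_u_inv u hu]
  generalize rep cs (isCartan n) (u S)⁻¹ y = x
  unfold wj Fj
  fin_cases j
  · simp only [_root_.Fin.zero_eta, _root_.Fin.isValue, ↓ _root_.reduceIte, _root_.inv_one, _root_.map_one, _root_.Module.End.one_apply, _root_.MulZeroClass.mul_zero, _root_.sub_zero]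
  · simp only [Fin.isValue, Fin.reduceFinMk, Fin.reduceEq, if_false, if_true, inv_simple, ee_rep, L.Smc]
  · simp only [Fin.isValue, Fin.reduceFinMk, Fin.reduceEq, if_false, if_true, _root_.mul_inv_rev, inv_simple, rep_mul_apply, ee_rep,
      L.Smc, L.Smb, L.rfb, L.rfc]
    simp only [hbc, hbc.symm, if_false, if_true]
    ring
  · simp only [Fin.isValue, Fin.reduceFinMk, Fin.reduceEq, if_false, if_true, _root_.mul_inv_rev, inv_simple, rep_mul_apply, ee_rep,
      L.Smc, L.Smb, L.Sma, L.rfa, L.rfb, L.rfc]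
    simp only [hbc, hbc.symm, hab, hab.symm, hac, hac.symm, if_false, if_true]
    ring

omit hu in
theorem Ls.fl_bta {S : Finset (Fin n)} (hS : ∀ k ∈ S, (k : ℕ) + 3 < n) : fl S (bt a) = bt a := by
  obtain ⟨h1, h2, h3⟩ := L.fne hS
  funext k
  unfold fl
  by_cases hk : k ∈ S
  · have k1 : k ≠ a := fun h => h1 (h ▸ hk)
    have k2 : k ≠ b := fun h => h2 (h ▸ hk)
    rw [if_pos hk, L.bta, if_neg k1, if_neg k2, neg_zero]
  · rw [if_neg hk]

omit hu in
theorem Ls.fl_btb {S : Finset (Fin n)} (hS : ∀ k ∈ S, (k : ℕ) + 3 < n) : fl S (bt b) = bt b := by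
  obtain ⟨h1, h2, h3⟩ := L.fne hS
  funext k
  unfold fl
  by_cases hk : k ∈ S
  · have k1 : k ≠ b := fun h => h2 (h ▸ hk)
    have k2 : k ≠ c := fun h => h3 (h ▸ hk)
    rw [if_pos hk, L.btb, if_neg k1, if_neg k2, neg_zero]
  · rw [if_neg hk]

theorem Ls.wj_a {S : Finset (Fin n)} (hS : ∀ k ∈ S, (k : ℕ) + 3 < n) (j : Fin 4) :
    rep cs (isCartan n) (u S * wj cs a b c j)⁻¹ (sr a) =
      if j = 0 then sr a else if j = 1 then sr a else if j = 2 then sr a + sr b + sr c else sr b := by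
  have hab := L.ab
  have hbc := L.bc
  have hac := L.ac
  apply ee_injective
  have h1 : ee (rep cs (isCartan n) (u S)⁻¹ (sr a)) = bt a := by rw [ee_u_inv u hu, ee_sr, L.fl_bta hS]
  have h2 : rep cs (isCartan n) (u S)⁻¹ (sr a) = sr a := ee_injective (h1.trans (ee_sr a).symm)
  rw [_root_.mul_inv_rev, rep_mul_apply, h2]
  unfold wj
  funext k
  fin_cases j
  · simp only [_root_.Fin.zero_eta, _root_.Fin.isValue, ↓ _root_.reduceIte, _root_.inv_one, _root_.map_one, _root_.Module.End.one_apply]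
  · simp only [Fin.isValue, Fin.reduceFinMk, Fin.reduceEq, if_false, if_true, inv_simple, ee_rep, ee_sr, L.rfc, L.bta]
    simp only [hbc, hbc.symm, hab, hab.symm, hac, hac.symm, if_false, if_true]
    split_ifs with h <;> simp_all only [_root_.ne_eq, _root_.neg_zero, _root_.not_false_eq_true, _root_.Int.reduceNeg]
  · simp only [Fin.isValue, Fin.reduceFinMk, Fin.reduceEq, if_false, if_true, _root_.mul_inv_rev, inv_simple, rep_mul_apply, ee_rep,
      ee_add, ee_sr, Pi.add_apply, L.rfa, L.rfb, L.rfc, L.bta, L.btb, L.btc]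
    simp only [hbc, hbc.symm, hab, hab.symm, hac, hac.symm, if_false, if_true]
    split_ifs <;> simp_all only [_root_.ne_eq, _root_.Int.reduceNeg, _root_.neg_neg, _root_.zero_add, _root_.Int.reduceAdd, _root_.not_false_eq_true, _root_.neg_zero, _root_.neg_add_cancel, _root_.add_zero]
  · simp only [Fin.isValue, Fin.reduceFinMk, Fin.reduceEq, if_false, if_true, _root_.mul_inv_rev, inv_simple, rep_mul_apply, ee_rep,
      ee_add, ee_sr, Pi.add_apply, L.rfa, L.rfb, L.rfc, L.bta, L.btb, L.btc]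
    simp only [hbc, hbc.symm, hab, hab.symm, hac, hac.symm, if_false, if_true]
    split_ifs <;> simp_all only [_root_.ne_eq, _root_.Int.reduceNeg, _root_.not_false_eq_true, _root_.neg_neg, _root_.neg_zero]

theorem Ls.wj_b {S : Finset (Fin n)} (hS : ∀ k ∈ S, (k : ℕ) + 3 < n) (j : Fin 4) :
    rep cs (isCartan n) (u S * wj cs a b c j)⁻¹ (sr b) =
      if j = 0 then sr b else if j = 1 then sr b + sr c else if j = 2 then sr b else sr a := by
  have hab := L.ab
  have hbc := L.bc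
  have hac := L.ac
  apply ee_injective
  have h1 : ee (rep cs (isCartan n) (u S)⁻¹ (sr b)) = bt b := by rw [ee_u_inv u hu, ee_sr, L.fl_btb hS]
  have h2 : rep cs (isCartan n) (u S)⁻¹ (sr b) = sr b := ee_injective (h1.trans (ee_sr b).symm)
  rw [_root_.mul_inv_rev, rep_mul_apply, h2]
  unfold wj
  funext k
  fin_cases j
  · simp only [_root_.Fin.zero_eta, _root_.Fin.isValue, ↓ _root_.reduceIte, _root_.inv_one, _root_.map_one, _root_.Module.End.one_apply]
  · simp only [Fin.isValue, Fin.reduceFinMk, Fin.reduceEq, if_false, if_true, inv_simple, ee_rep, ee_add, ee_sr,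
      Pi.add_apply, L.rfc, L.btb, L.btc]
    simp only [hbc, hbc.symm, hab, hab.symm, hac, hac.symm, if_false, if_true]
    split_ifs <;> simp_all only [_root_.ne_eq, _root_.Int.reduceNeg, _root_.neg_neg, _root_.Int.reduceAdd, _root_.not_false_eq_true, _root_.add_zero]
  · simp only [Fin.isValue, Fin.reduceFinMk, Fin.reduceEq, if_false, if_true, _root_.mul_inv_rev, inv_simple, rep_mul_apply, ee_rep,
      ee_add, ee_sr, Pi.add_apply, L.rfa, L.rfb, L.rfc, L.bta, L.btb, L.btc]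
    simp only [hbc, hbc.symm, hab, hab.symm, hac, hac.symm, if_false, if_true]
    split_ifs <;> simp_all only [_root_.ne_eq, _root_.Int.reduceNeg, _root_.not_false_eq_true, _root_.neg_neg]
  · simp only [Fin.isValue, Fin.reduceFinMk, Fin.reduceEq, if_false, if_true, _root_.mul_inv_rev, inv_simple, rep_mul_apply, ee_rep,
      ee_add, ee_sr, Pi.add_apply, L.rfa, L.rfb, L.rfc, L.bta, L.btb, L.btc]
    simp only [hbc, hbc.symm, hab, hab.symm, hac, hac.symm, if_false, if_true]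
    split_ifs <;> simp_all only [_root_.ne_eq, _root_.neg_zero, _root_.not_false_eq_true, _root_.Int.reduceNeg, _root_.neg_neg]

theorem Ls.hmin {S : Finset (Fin n)} (hS : ∀ k ∈ S, (k : ℕ) + 3 < n) (j : Fin 4) :
    ∀ i ∈ ({a, b} : Set (Fin n)), 0 ≤ rep cs (isCartan n) (u S * wj cs a b c j)⁻¹ (sr i) := by
  rintro i (rfl | hi)
  · rw [L.wj_a u hu hS]
    split_ifs
    · exact sr_nonneg _
    · exact sr_nonneg _
    · exact add_nonneg (add_nonneg (sr_nonneg _) (sr_nonneg _)) (sr_nonneg _)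
    · exact sr_nonneg _
  · rw [Set.mem_singleton_iff] at hi
    subst hi
    rw [L.wj_b u hu hS]
    split_ifs
    · exact sr_nonneg _
    · exact add_nonneg (sr_nonneg _) (sr_nonneg _)
    · exact sr_nonneg _
    · exact sr_nonneg _

omit hu L in
/-- twice a coordinate vector -/
theorem exists_y (cs : CoxeterSystem (CoxeterMatrix.B n) W) (k : Fin n) : ∃ y : Fin n → ℤ, ee y = fun m => if m = k then 2 else 0 := by
  obtain ⟨y, hy⟩ := exists_long cs (k, true)
  refine ⟨y, ?_⟩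
  rw [hy]
  funext m
  rw [Pi.add_apply, wt_apply]
  by_cases h : m = k
  · simp [h]
  · simp [h]

omit hu L in
theorem Sm_single (k : Fin n) (r : ℤ) : Sm (fun m => if m = k then r else 0) = r := by
  unfold Sm
  simp only [_root_.Finset.sum_ite_eq', _root_.Finset.mem_univ, ↓ _root_.reduceIte]

omit hu in
/-- **separation of the orbits** -/
theorem Ls.sep {J : Set (Fin n)} (hc : c ∉ J) (hu : ∀ S x, ee (rep cs (isCartan n) (u S) x) = fl S (ee x))
    {S S' : Finset (Fin n)} (hS : ∀ k ∈ S, (k : ℕ) + 3 < n) (hS' : ∀ k ∈ S', (k : ℕ) + 3 < n) {j j' : Fin 4}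
    {x : W} (hx : x ∈ WJ cs ({a, b} : Set (Fin n)))
    (h : (u S * wj cs a b c j)⁻¹ * x * (u S' * wj cs a b c j') ∈ WJ cs J) : S = S' ∧ j = j' := by
  have hab := L.ab
  have hbc := L.bc
  have hac := L.ac
  obtain ⟨s1, s2, s3⟩ := L.fne hS
  obtain ⟨t1, t2, t3⟩ := L.fne hS'
  have key : ∀ y : Fin n → ℤ, Cf a (ee y) = 0 → Cf b (ee y) = 0 →
      Fj a b c j (fl S (ee y)) = Fj a b c j' (fl S' (ee y)) := by
    intro y h1 h2
    have h3 := L.sv_eq hc h y
    rw [rep_fix (inv_mem hx) (by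
      rintro i (rfl | hi)
      · exact h1
      · rw [Set.mem_singleton_iff] at hi; rw [hi]; exact h2), L.sv_wj u hu, L.sv_wj u hu] at h3
    exact h3
  have hCa : ∀ v : Fin n → ℤ, Cf a v = v a - v b := by
    intro v
    unfold Cf
    have hi : (a : ℕ) + 1 < n := by have := L.ha; omega
    rw [dif_pos hi]
    have h1 : (⟨a + 1, hi⟩ : Fin n) = b := Fin.ext (by have := L.ha; have := L.hb; simp only; omega)
    rw [h1]
  have hCb : ∀ v : Fin n → ℤ, Cf b v = v b - v c := by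
    intro v
    unfold Cf
    have hi : (b : ℕ) + 1 < n := by have := L.hb; omega
    rw [dif_pos hi]
    have h1 : (⟨b + 1, hi⟩ : Fin n) = c := Fin.ext (by have := L.hb; have := L.hc; simp only; omega)
    rw [h1]
  constructor
  · ext k
    by_cases hk : (k : ℕ) + 3 < n
    · have ka : k ≠ a := fun h => by have := L.ha; rw [h] at hk; omega
      have kb : k ≠ b := fun h => by have := L.hb; rw [h] at hk; omega
      have kc : k ≠ c := fun h => by have := L.hc; rw [h] at hk; omega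
      obtain ⟨y, hy⟩ := exists_y cs k
      have h1 := key y (by rw [hCa, hy]; simp [ka.symm, kb.symm]) (by rw [hCb, hy]; simp [kb.symm, kc.symm])
      have h2 : ∀ (S : Finset (Fin n)) (j : Fin 4), Fj a b c j (fl S (ee y)) = if k ∈ S then -2 else 2 := by
        intro S j
        have e1 : fl S (ee y) = fun m => if m = k then (if k ∈ S then -2 else 2) else 0 := by
          rw [hy]
          funext m
          unfold fl
          by_cases hm : m = k
          · subst hm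
            simp only [if_true]
          · simp [hm]
        rw [e1]
        unfold Fj
        rw [Sm_single]
        simp only [ka.symm, kb.symm, kc.symm, if_false]
        split_ifs <;> ring
      rw [h2, h2] at h1
      by_cases h3 : k ∈ S <;> by_cases h4 : k ∈ S' <;> simp_all only [_root_.mul_inv_rev, _root_.ne_eq, ↓ _root_.reduceIte, _root_.Int.reduceNeg, _root_.reduceCtorEq]
    · exact ⟨fun h => absurd (hS k h) hk, fun h => absurd (hS' k h) hk⟩
  · obtain ⟨ya, hya⟩ := exists_y cs a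
    obtain ⟨yb, hyb⟩ := exists_y cs b
    obtain ⟨yc, hyc⟩ := exists_y cs c
    have hy : ee (ya + yb + yc) = fun m => (if m = a then 2 else 0) + (if m = b then 2 else 0) + (if m = c then 2 else 0) := by
      rw [ee_add, ee_add, hya, hyb, hyc]
      rfl
    have h1 := key (ya + yb + yc) (by
      rw [hCa, hy]
      simp [hab, hab.symm, hac, hbc]) (by
      rw [hCb, hy]
      simp [hab.symm, hbc, hbc.symm, hac.symm])
    have h2 : ∀ (S : Finset (Fin n)) (j : Fin 4), a ∉ S → b ∉ S → c ∉ S →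
        Fj a b c j (fl S (ee (ya + yb + yc))) = 6 - 4 * (j : ℤ) := by
      intro S j h1 h2 h3
      have e1 : fl S (ee (ya + yb + yc)) = ee (ya + yb + yc) := by
        rw [hy]
        funext m
        unfold fl
        by_cases hm : m ∈ S
        · have ma : m ≠ a := fun h => h1 (h ▸ hm)
          have mb : m ≠ b := fun h => h2 (h ▸ hm)
          have mc : m ≠ c := fun h => h3 (h ▸ hm)
          simp [ma, mb, mc]
        · rw [if_neg hm]
      have e2 : Sm (ee (ya + yb + yc)) = 6 := by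
        rw [ee_add, ee_add, Sm_add, Sm_add, hya, hyb, hyc, Sm_single, Sm_single, Sm_single]
        norm_num
      rw [e1]
      unfold Fj
      rw [e2, hy]
      simp only [hbc, hbc.symm, hab, hab.symm, hac, hac.symm, if_false, if_true]
      (revert j; simp only [_root_.Fin.forall_fin_succ, Fin.isValue, _root_.add_zero, _root_.zero_add, Int.reduceAdd, _root_.mul_ite, _root_.MulZeroClass.mul_zero, Int.reduceMul, _root_.sub_right_inj, ↓reduceIte, _root_.Fin.coe_ofNat_eq_mod, _root_.Nat.zero_mod, _root_.CharP.cast_eq_zero, _root_.Fin.succ_ne_zero, _root_.Fin.val_succ, _root_.Nat.cast_add, _root_.Nat.cast_one, _root_.Fin.succ_zero_eq_one, _root_.mul_one, _root_.Fin.succ_one_eq_two, Fin.reduceEq, _root_.Fin.val_eq_zero, Fin.reduceSucc, _root_.IsEmpty.forall_iff, _root_.and_self])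
    rw [h2 S j s1 s2 s3, h2 S' j' t1 t2 t3] at h1
    apply Fin.ext
    omega

end elts

end Cfsg.Agent.H762.Ppd.Spin
end

-- part: H762/Ppd/SpinC
section
/-!
# The last node in type `B_n`: the bound (helper762, TEAM PPD)
-/

set_option autoImplicit false
set_option linter.unusedSectionVars false
set_option linter.style.haveILetI false

namespace Cfsg.Agent.H762.Ppd.Spin

open CoxeterSystem Cfsg.Agent.ChevalleyStructure.CoxeterGeom Cfsg.Agent.Tits.Roots Cfsg.Agent.Tits.Core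
  Cfsg.Agent.Nodes.Reps Cfsg.Agent.Nodes.BNOf Cfsg.Agent.Nodes.Bruhat Cfsg.Agent.Nodes.TypeC
  Cfsg.Agent.Omega.CR Cfsg.Agent.H905.Md Cfsg.Agent.H117.Levi
open Cfsg.Agent.H48.WittNeg (rf rf_last rf_up ee_rep fl)

variable {n : ℕ}

/-- twice a coordinate vector -/
def de (k : Fin n) : Fin n → ℤ := fun m => if m = k then 2 else 0

theorem smem {W : Type*} [Group W] {cs : CoxeterSystem (CoxeterMatrix.B n) W} {A' : Set (Fin n)} {i : Fin n}
    (hi : i ∈ A') : cs.simple i ∈ WJ cs A' := by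
  unfold WJ
  exact Subgroup.subset_closure ⟨i, hi, rfl⟩

section coord

variable {a b c : Fin n} (L : Ls a b c)
include L

theorem Ls.ra_a : rf a (de a) = de b := by
  have hab := L.ab
  funext m
  rw [L.rfa]
  unfold de
  split_ifs <;> simp_all

theorem Ls.ra_b : rf a (de b) = de a := by
  have hab := L.ab
  funext m
  rw [L.rfa]
  unfold de
  split_ifs <;> simp_all

theorem Ls.ra_c : rf a (de c) = de c := by
  have hab := L.ab
  have hbc := L.bc
  have hac := L.ac
  funext m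
  rw [L.rfa]
  unfold de
  split_ifs <;> simp_all

theorem Ls.rb_a : rf b (de a) = de a := by
  have hab := L.ab
  have hbc := L.bc
  have hac := L.ac
  funext m
  rw [L.rfb]
  unfold de
  split_ifs <;> simp_all

theorem Ls.rb_b : rf b (de b) = de c := by
  have hbc := L.bc
  funext m
  rw [L.rfb]
  unfold de
  split_ifs <;> simp_all

theorem Ls.rb_c : rf b (de c) = de b := by
  have hbc := L.bc
  funext m
  rw [L.rfb]
  unfold de
  split_ifs <;> simp_all

theorem Ls.fl_de {S : Finset (Fin n)} (hS : ∀ k ∈ S, (k : ℕ) + 3 < n) {k : Fin n} (hk : k = a ∨ k = b ∨ k = c) :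
    fl S (de k) = de k := by
  obtain ⟨h1, h2, h3⟩ := L.fne hS
  have hkS : k ∉ S := by rcases hk with rfl | rfl | rfl <;> assumption
  funext m
  unfold fl de
  by_cases hm : m ∈ S
  · have : m ≠ k := fun h => hkS (h ▸ hm)
    simp [this]
  · rw [if_neg hm]

theorem Ls.F1 {S : Finset (Fin n)} (hS : ∀ k ∈ S, (k : ℕ) + 3 < n) {k : Fin n} (hk : k = a ∨ k = b ∨ k = c) :
    Fj a b c 1 (fl S (de k)) = if k = c then -2 else 2 := by
  rw [L.fl_de hS hk]
  unfold Fj de
  rw [Sm_single]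
  have hab := L.ab
  have hbc := L.bc
  have hac := L.ac
  rcases hk with rfl | rfl | rfl
  · simp [hac, hac.symm]
  · simp [hbc, hbc.symm]
  · simp

theorem Ls.F2 {S : Finset (Fin n)} (hS : ∀ k ∈ S, (k : ℕ) + 3 < n) {k : Fin n} (hk : k = a ∨ k = b ∨ k = c) :
    Fj a b c 2 (fl S (de k)) = if k = a then 2 else -2 := by
  rw [L.fl_de hS hk]
  unfold Fj de
  rw [Sm_single]
  have hab := L.ab
  have hbc := L.bc
  have hac := L.ac
  rcases hk with rfl | rfl | rfl
  · simp [hab.symm, hac.symm]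
  · simp [hbc.symm, hab.symm]
  · simp [hbc, hac.symm]

end coord

section main

variable {W Y : Type*} [Group W] [Group Y] {cs : CoxeterSystem (CoxeterMatrix.B n) W} {p : ℕ} {T : Subgroup Y}
  {nn : Fin n → Y} {X : (Fin n → ℤ) → Subgroup Y} {k V : Type*} [Field k] [AddCommGroup V] [Module k V]
variable (R : RGD cs (isCartan n) p T nn X) [Finite Y] [Finite W] [Fact p.Prime] [CharP k p]
  {ρ : Y →* Module.End k V} [FiniteDimensional k V] [Nontrivial V]
  (hirr : ∀ L : Submodule k V, Ivt ρ (GG cs (isCartan n) T X) L → L = ⊥ ∨ L = ⊤)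
  (hD : Module.finrank k (D cs (isCartan n) X ρ) = 1)
  {a b c : Fin n} (L : Ls a b c) (hc : c ∉ Jx cs (isCartan n) X ρ)
  {u : Finset (Fin n) → W} (hu : ∀ S x, ee (rep cs (isCartan n) (u S) x) = fl S (ee x))
  {S : Finset (Fin n)} (hS : ∀ k ∈ S, (k : ℕ) + 3 < n)
include R hirr hD L hc hu hS

theorem Ls.lrk_one {g : Y} (hg : Rp cs R.nsys (u S * wj cs a b c 1) g) {m : ℕ}
    (hm : m ≤ lrk cs (isCartan n) T X ρ {b} g) : 3 + 3 * (m - 2) ≤ lrk cs (isCartan n) T X ρ {a, b} g := by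
  have hab := L.ab
  have hbc := L.bc
  have hac := L.ac
  have ha' : cs.simple a ∈ WJ cs ({a, b} : Set (Fin n)) := smem (by simp)
  have hb' : cs.simple b ∈ WJ cs ({a, b} : Set (Fin n)) := smem (by simp)
  have h1 := lrk_ge R hirr hg (L.hmin u hu hS 1) (α := Fin 3) (β := Fin 3)
    ![1, cs.simple b, cs.simple a * cs.simple b]
    (by intro x; fin_cases x; exacts [one_mem _, hb', mul_mem ha' hb'])
    (by
      obtain ⟨ya, hya⟩ := exists_y cs a
      obtain ⟨yb, hyb⟩ := exists_y cs b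
      obtain ⟨yc, hyc⟩ := exists_y cs c
      change ee ya = de a at hya
      change ee yb = de b at hyb
      change ee yc = de c at hyc
      have va : ∀ x : Fin 3, sv cs (![1, cs.simple b, cs.simple a * cs.simple b] x * (u S * wj cs a b c 1)) ya =
          ![2, 2, -2] x := by
        intro x
        rw [L.sv_mul, L.sv_wj u hu]
        fin_cases x
        · simp only [hya, L.F1 hS, hac, _root_.Fin.isValue, _root_.Nat.succ_eq_add_one, _root_.Nat.reduceAdd, _root_.Fin.zero_eta, _root_.Matrix.cons_val_zero, _root_.inv_one, _root_.map_one, _root_.Module.End.one_apply, _root_.or_false, _root_.true_or, ↓ _root_.reduceIte, _root_.Int.reduceNeg]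
        · simp only [Fin.isValue, Fin.mk_one, Matrix.cons_val_one, Matrix.cons_val_zero, inv_simple, ee_rep, hya, L.rb_a]
          simp [L.F1 hS, hac]
        · simp only [Fin.isValue, Fin.reduceFinMk, Matrix.cons_val, _root_.mul_inv_rev, inv_simple, rep_mul_apply, ee_rep,
            hya, L.ra_a, L.rb_b]
          simp [L.F1 hS]
      have vb : ∀ x : Fin 3, sv cs (![1, cs.simple b, cs.simple a * cs.simple b] x * (u S * wj cs a b c 1)) yb =
          ![2, -2, 2] x := by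
        intro x
        rw [L.sv_mul, L.sv_wj u hu]
        fin_cases x
        · simp only [hyb, L.F1 hS, hbc, _root_.Fin.isValue, _root_.Nat.succ_eq_add_one, _root_.Nat.reduceAdd, _root_.Fin.zero_eta, _root_.Matrix.cons_val_zero, _root_.inv_one, _root_.map_one, _root_.Module.End.one_apply, _root_.or_false, _root_.or_true, ↓ _root_.reduceIte, _root_.Int.reduceNeg]
        · simp only [Fin.isValue, Fin.mk_one, Matrix.cons_val_one, Matrix.cons_val_zero, inv_simple, ee_rep, hyb, L.rb_b]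
          simp [L.F1 hS]
        · simp only [Fin.isValue, Fin.reduceFinMk, Matrix.cons_val, _root_.mul_inv_rev, inv_simple, rep_mul_apply, ee_rep,
            hyb, L.ra_b, L.rb_a]
          simp [L.F1 hS, hac]
      have vc : ∀ x : Fin 3, sv cs (![1, cs.simple b, cs.simple a * cs.simple b] x * (u S * wj cs a b c 1)) yc =
          ![-2, 2, 2] x := by
        intro x
        rw [L.sv_mul, L.sv_wj u hu]
        fin_cases x
        · simp only [hyc, L.F1 hS, _root_.Fin.isValue, _root_.Nat.succ_eq_add_one, _root_.Nat.reduceAdd, _root_.Fin.zero_eta, _root_.Matrix.cons_val_zero, _root_.inv_one, _root_.map_one, _root_.Module.End.one_apply, _root_.or_true, ↓ _root_.reduceIte, _root_.Int.reduceNeg]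
        · simp only [Fin.isValue, Fin.mk_one, Matrix.cons_val_one, Matrix.cons_val_zero, inv_simple, ee_rep, hyc, L.rb_c]
          simp [L.F1 hS, hbc]
        · simp only [Fin.isValue, Fin.reduceFinMk, Matrix.cons_val, _root_.mul_inv_rev, inv_simple, rep_mul_apply, ee_rep,
            hyc, L.ra_c, L.rb_c]
          simp [L.F1 hS, hbc]
      intro x x' hxx h
      have e1 := L.sv_eq' hc h ya
      have e2 := L.sv_eq' hc h yb
      have e3 := L.sv_eq' hc h yc
      rw [va, va] at e1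
      rw [vb, vb] at e2
      rw [vc, vc] at e3
      clear va vb vc h
      revert x x'
      decide)
    ![1, cs.simple a, cs.simple b * cs.simple a]
    (by intro x; fin_cases x; exacts [one_mem _, ha', mul_mem hb' ha'])
    (fun _ => b) (fun _ => by simp)
    (by
      have v0 : ∀ x : Fin 3, ee (rep cs (isCartan n) (![1, cs.simple a, cs.simple b * cs.simple a] x) (sr b)) a = ![0, 1, 1] x := by
        intro x
        fin_cases x
        · simp [ee_sr, L.btb, hab, hac]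
        · simp only [Fin.isValue, Fin.mk_one, Matrix.cons_val_one, Matrix.cons_val_zero, ee_rep, ee_sr, L.rfa, L.btb]
          simp [hbc]
        · simp only [Fin.isValue, Fin.reduceFinMk, Matrix.cons_val, rep_mul_apply, ee_rep, ee_sr, L.rfa, L.rfb, L.btb]
          simp [hab, hab.symm, hac, hbc]
      have v1 : ∀ x : Fin 3, ee (rep cs (isCartan n) (![1, cs.simple a, cs.simple b * cs.simple a] x) (sr b)) b = ![1, 0, -1] x := by
        intro x
        fin_cases x
        · simp only [ee_sr, L.btb, _root_.Nat.succ_eq_add_one, _root_.Nat.reduceAdd, _root_.Fin.zero_eta, _root_.Fin.isValue, _root_.Matrix.cons_val_zero, _root_.map_one, _root_.Module.End.one_apply, ↓ _root_.reduceIte, _root_.Int.reduceNeg]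
        · simp only [Fin.isValue, Fin.mk_one, Matrix.cons_val_one, Matrix.cons_val_zero, ee_rep, ee_sr, L.rfa, L.btb]
          simp [hab, hab.symm, hac]
        · simp only [Fin.isValue, Fin.reduceFinMk, Matrix.cons_val, rep_mul_apply, ee_rep, ee_sr, L.rfa, L.rfb, L.btb]
          simp [hab, hab.symm, hac, hac.symm, hbc, hbc.symm]
      intro x x' hxx h
      have h2 : rep cs (isCartan n) (![1, cs.simple a, cs.simple b * cs.simple a] x') (sr b) =
          rep cs (isCartan n) (![1, cs.simple a, cs.simple b * cs.simple a] x) (sr b) ∨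
          rep cs (isCartan n) (![1, cs.simple a, cs.simple b * cs.simple a] x') (sr b) =
          - rep cs (isCartan n) (![1, cs.simple a, cs.simple b * cs.simple a] x) (sr b) := by
        rcases h.1 with h3 | h3
        · left
          have h4 := congrArg (rep cs (isCartan n) (![1, cs.simple a, cs.simple b * cs.simple a] x)) h3
          rw [rep_mul_apply, rep_apply_inv] at h4
          exact h4
        · right
          have h4 := congrArg (rep cs (isCartan n) (![1, cs.simple a, cs.simple b * cs.simple a] x)) h3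
          rw [rep_mul_apply, rep_apply_inv, map_neg] at h4
          exact h4
      rcases h2 with h2 | h2
      · have h3 := congrArg (fun y => ee y a) h2
        have h4 := congrArg (fun y => ee y b) h2
        simp only [v0, v1] at h3 h4
        clear v0 v1 h h2
        revert x x'
        decide
      · have h3 := congrArg (fun y => ee y a) h2
        have h4 := congrArg (fun y => ee y b) h2
        simp only [ee_neg, Pi.neg_apply, v0, v1] at h3 h4
        clear v0 v1 h h2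
        revert x x'
        decide)
  rw [hD] at h1
  simp only [Fintype.card_fin, Finset.sum_const, Finset.card_univ, smul_eq_mul] at h1
  omega

theorem Ls.lrk_two {g : Y} (hg : Rp cs R.nsys (u S * wj cs a b c 2) g) {m : ℕ}
    (hm : m ≤ lrk cs (isCartan n) T X ρ {a} g) : 3 + 3 * (m - 2) ≤ lrk cs (isCartan n) T X ρ {a, b} g := by
  have hab := L.ab
  have hbc := L.bc
  have hac := L.ac
  have ha' : cs.simple a ∈ WJ cs ({a, b} : Set (Fin n)) := smem (by simp)
  have hb' : cs.simple b ∈ WJ cs ({a, b} : Set (Fin n)) := smem (by simp)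
  have h1 := lrk_ge R hirr hg (L.hmin u hu hS 2) (α := Fin 3) (β := Fin 3)
    ![1, cs.simple a, cs.simple b * cs.simple a]
    (by intro x; fin_cases x; exacts [one_mem _, ha', mul_mem hb' ha'])
    (by
      obtain ⟨ya, hya⟩ := exists_y cs a
      obtain ⟨yb, hyb⟩ := exists_y cs b
      obtain ⟨yc, hyc⟩ := exists_y cs c
      change ee ya = de a at hya
      change ee yb = de b at hyb
      change ee yc = de c at hyc
      have va : ∀ x : Fin 3, sv cs (![1, cs.simple a, cs.simple b * cs.simple a] x * (u S * wj cs a b c 2)) ya =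
          ![2, -2, -2] x := by
        intro x
        rw [L.sv_mul, L.sv_wj u hu]
        fin_cases x
        · simp only [hya, L.F2 hS, _root_.Fin.isValue, _root_.Nat.succ_eq_add_one, _root_.Nat.reduceAdd, _root_.Fin.zero_eta, _root_.Matrix.cons_val_zero, _root_.inv_one, _root_.map_one, _root_.Module.End.one_apply, _root_.true_or, ↓ _root_.reduceIte, _root_.Int.reduceNeg]
        · simp only [Fin.isValue, Fin.mk_one, Matrix.cons_val_one, Matrix.cons_val_zero, inv_simple, ee_rep, hya, L.ra_a]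
          simp [L.F2 hS, hab.symm]
        · simp only [Fin.isValue, Fin.reduceFinMk, Matrix.cons_val, _root_.mul_inv_rev, inv_simple, rep_mul_apply, ee_rep,
            hya, L.rb_a, L.ra_a]
          simp [L.F2 hS, hab.symm]
      have vb : ∀ x : Fin 3, sv cs (![1, cs.simple a, cs.simple b * cs.simple a] x * (u S * wj cs a b c 2)) yb =
          ![-2, 2, -2] x := by
        intro x
        rw [L.sv_mul, L.sv_wj u hu]
        fin_cases x
        · simp only [hyb, L.F2 hS, hab.symm, _root_.Fin.isValue, _root_.Nat.succ_eq_add_one, _root_.Nat.reduceAdd, _root_.Fin.zero_eta, _root_.Matrix.cons_val_zero, _root_.inv_one, _root_.map_one, _root_.Module.End.one_apply, _root_.true_or, _root_.or_true, ↓ _root_.reduceIte, _root_.Int.reduceNeg]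
        · simp only [Fin.isValue, Fin.mk_one, Matrix.cons_val_one, Matrix.cons_val_zero, inv_simple, ee_rep, hyb, L.ra_b]
          simp [L.F2 hS]
        · simp only [Fin.isValue, Fin.reduceFinMk, Matrix.cons_val, _root_.mul_inv_rev, inv_simple, rep_mul_apply, ee_rep,
            hyb, L.rb_b, L.ra_c]
          simp [L.F2 hS, hac.symm]
      have vc : ∀ x : Fin 3, sv cs (![1, cs.simple a, cs.simple b * cs.simple a] x * (u S * wj cs a b c 2)) yc =
          ![-2, -2, 2] x := by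
        intro x
        rw [L.sv_mul, L.sv_wj u hu]
        fin_cases x
        · simp only [hyc, L.F2 hS, hac.symm, _root_.Fin.isValue, _root_.Nat.succ_eq_add_one, _root_.Nat.reduceAdd, _root_.Fin.zero_eta, _root_.Matrix.cons_val_zero, _root_.inv_one, _root_.map_one, _root_.Module.End.one_apply, _root_.or_true, ↓ _root_.reduceIte, _root_.Int.reduceNeg]
        · simp only [Fin.isValue, Fin.mk_one, Matrix.cons_val_one, Matrix.cons_val_zero, inv_simple, ee_rep, hyc, L.ra_c]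
          simp [L.F2 hS, hac.symm]
        · simp only [Fin.isValue, Fin.reduceFinMk, Matrix.cons_val, _root_.mul_inv_rev, inv_simple, rep_mul_apply, ee_rep,
            hyc, L.rb_c, L.ra_b]
          simp [L.F2 hS]
      intro x x' hxx h
      have e1 := L.sv_eq' hc h ya
      have e2 := L.sv_eq' hc h yb
      have e3 := L.sv_eq' hc h yc
      rw [va, va] at e1
      rw [vb, vb] at e2
      rw [vc, vc] at e3
      clear va vb vc h
      revert x x'
      decide)
    ![1, cs.simple b, cs.simple a * cs.simple b]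
    (by intro x; fin_cases x; exacts [one_mem _, hb', mul_mem ha' hb'])
    (fun _ => a) (fun _ => by simp)
    (by
      have v0 : ∀ x : Fin 3, ee (rep cs (isCartan n) (![1, cs.simple b, cs.simple a * cs.simple b] x) (sr a)) a = ![1, 1, 0] x := by
        intro x
        fin_cases x
        · simp [ee_sr, L.bta]
        · simp only [Fin.isValue, Fin.mk_one, Matrix.cons_val_one, Matrix.cons_val_zero, ee_rep, ee_sr, L.rfb, L.bta]
          simp [hab, hac]
        · simp only [Fin.isValue, Fin.reduceFinMk, Matrix.cons_val, rep_mul_apply, ee_rep, ee_sr, L.rfa, L.rfb, L.bta]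
          simp [hab, hab.symm, hac, hac.symm, hbc, hbc.symm]
      have v1 : ∀ x : Fin 3, ee (rep cs (isCartan n) (![1, cs.simple b, cs.simple a * cs.simple b] x) (sr a)) b = ![-1, 0, 1] x := by
        intro x
        fin_cases x
        · simp only [ee_sr, L.bta, hab.symm, _root_.Nat.succ_eq_add_one, _root_.Nat.reduceAdd, _root_.Fin.zero_eta, _root_.Fin.isValue, _root_.Matrix.cons_val_zero, _root_.map_one, _root_.Module.End.one_apply, ↓ _root_.reduceIte, _root_.Int.reduceNeg]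
        · simp only [Fin.isValue, Fin.mk_one, Matrix.cons_val_one, Matrix.cons_val_zero, ee_rep, ee_sr, L.rfb, L.bta]
          simp [hac.symm, hbc.symm]
        · simp only [Fin.isValue, Fin.reduceFinMk, Matrix.cons_val, rep_mul_apply, ee_rep, ee_sr, L.rfa, L.rfb, L.bta]
          simp [hab, hab.symm, hac, hac.symm, hbc, hbc.symm]
      intro x x' hxx h
      have h2 : rep cs (isCartan n) (![1, cs.simple b, cs.simple a * cs.simple b] x') (sr a) =
          rep cs (isCartan n) (![1, cs.simple b, cs.simple a * cs.simple b] x) (sr a) ∨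
          rep cs (isCartan n) (![1, cs.simple b, cs.simple a * cs.simple b] x') (sr a) =
          - rep cs (isCartan n) (![1, cs.simple b, cs.simple a * cs.simple b] x) (sr a) := by
        rcases h.1 with h3 | h3
        · left
          have h4 := congrArg (rep cs (isCartan n) (![1, cs.simple b, cs.simple a * cs.simple b] x)) h3
          rw [rep_mul_apply, rep_apply_inv] at h4
          exact h4
        · right
          have h4 := congrArg (rep cs (isCartan n) (![1, cs.simple b, cs.simple a * cs.simple b] x)) h3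
          rw [rep_mul_apply, rep_apply_inv, map_neg] at h4
          exact h4
      rcases h2 with h2 | h2
      · have h3 := congrArg (fun y => ee y a) h2
        have h4 := congrArg (fun y => ee y b) h2
        simp only [v0, v1] at h3 h4
        clear v0 v1 h h2
        revert x x'
        decide
      · have h3 := congrArg (fun y => ee y a) h2
        have h4 := congrArg (fun y => ee y b) h2
        simp only [ee_neg, Pi.neg_apply, v0, v1] at h3 h4
        clear v0 v1 h h2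
        revert x x'
        decide)
  rw [hD] at h1
  simp only [Fintype.card_fin, Finset.sum_const, Finset.card_univ, smul_eq_mul] at h1
  omega

end main

section bound

variable {W Y : Type*} [Group W] [Group Y] {cs : CoxeterSystem (CoxeterMatrix.B n) W} {p : ℕ} {T : Subgroup Y}
  {nn : Fin n → Y} {X : (Fin n → ℤ) → Subgroup Y} {k V : Type*} [Field k] [AddCommGroup V] [Module k V]
variable (R : RGD cs (isCartan n) p T nn X) [Finite Y] [Finite W] [Fact p.Prime] [CharP k p]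
  {ρ : Y →* Module.End k V} [FiniteDimensional k V] [Nontrivial V]
  (hirr : ∀ L : Submodule k V, Ivt ρ (GG cs (isCartan n) T X) L → L = ⊥ ∨ L = ⊤)
  (hD : Module.finrank k (D cs (isCartan n) X ρ) = 1)
  {a b c : Fin n} (L : Ls a b c) (hc : c ∉ Jx cs (isCartan n) X ρ)
  {u : Finset (Fin n) → W} (hu : ∀ S x, ee (rep cs (isCartan n) (u S) x) = fl S (ee x))
include R hirr hD L hc hu

/-- the representatives -/
def gj (nn : Fin n → Y) (a b c : Fin n) (j : Fin 4) : Y :=
  if j = 0 then 1 else if j = 1 then nn c else if j = 2 then nn c * nn b * nn c else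
    nn c * nn b * nn c * (nn a * nn b * nn c)

omit [Finite Y] [Finite W] [Fact p.Prime] [CharP k p] [FiniteDimensional k V] [Nontrivial V] hirr hD L hc hu in
theorem rp_gj (j : Fin 4) : Rp cs R.nsys (wj cs a b c j) (gj nn a b c j) := by
  unfold wj gj
  fin_cases j
  · exact rp_one
  · exact rp_simple cs R.nsys c
  · exact ((rp_simple cs R.nsys c).mul (rp_simple cs R.nsys b)).mul (rp_simple cs R.nsys c)
  · exact (((rp_simple cs R.nsys c).mul (rp_simple cs R.nsys b)).mul (rp_simple cs R.nsys c)).mul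
      (((rp_simple cs R.nsys a).mul (rp_simple cs R.nsys b)).mul (rp_simple cs R.nsys c))

/-- **The bound for the last node.** -/
theorem spin_bound {gu : Finset (Fin n) → Y} (hgu : ∀ S, Rp cs R.nsys (u S) (gu S)) {m : ℕ}
    (hm1 : ∀ S : Finset (Fin n), (∀ k ∈ S, (k : ℕ) + 3 < n) → m ≤ lrk cs (isCartan n) T X ρ {b} (gu S * nn c))
    (hm2 : ∀ S : Finset (Fin n), (∀ k ∈ S, (k : ℕ) + 3 < n) → m ≤ lrk cs (isCartan n) T X ρ {a} (gu S * (nn c * nn b * nn c))) :
    2 ^ (n - 3) * (2 + 2 * (3 + 3 * (m - 2))) ≤ Module.finrank k V := by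
  classical
  set P : Finset (Finset (Fin n)) := (Finset.univ.filter fun k : Fin n => (k : ℕ) + 3 < n).powerset with hP
  have hPS : ∀ S : P, ∀ k ∈ S.1, (k : ℕ) + 3 < n := by
    intro S k hk
    have h1 := Finset.mem_powerset.1 S.2 hk
    exact (Finset.mem_filter.1 h1).2
  have hcard : Fintype.card P = 2 ^ (n - 3) := by
    rw [Fintype.card_coe, hP, Finset.card_powerset]
    congr 1
    have h1 : (Finset.univ.filter fun k : Fin n => (k : ℕ) + 3 < n) = Finset.univ.filter fun k : Fin n => (k : ℕ) < n - 3 := by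
      ext k
      simp only [Finset.mem_filter, Finset.mem_univ, true_and]
      omega
    rw [h1, Fin.card_filter_val_lt]
    omega
  have h1 := dim_ge_levi R hirr ({a, b} : Set (Fin n)) (α := P × Fin 4) (fun x => u x.1 * wj cs a b c x.2)
    (fun x => gu x.1 * gj nn a b c x.2) (fun x => (hgu _).mul (rp_gj R x.2)) (fun x => L.hmin u hu (hPS x.1) x.2)
    (by
      rintro ⟨S, j⟩ ⟨S', j'⟩ hne x hx h
      obtain ⟨h2, h3⟩ := L.sep u hc hu (hPS S) (hPS S') hx h
      exact hne (Prod.ext (Subtype.ext h2) h3))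
  refine le_trans ?_ h1
  rw [Fintype.sum_prod_type]
  have h2 : ∀ S : P, 2 + 2 * (3 + 3 * (m - 2)) ≤
      ∑ j : Fin 4, lrk cs (isCartan n) T X ρ {a, b} (gu S * gj nn a b c j) := by
    intro S
    have e0 := one_le_lrk R hirr (ρ := ρ) ({a, b} : Set (Fin n)) (gu S * gj nn a b c 0)
    have e3 := one_le_lrk R hirr (ρ := ρ) ({a, b} : Set (Fin n)) (gu S * gj nn a b c 3)
    have e1 := L.lrk_one R hirr hD hc hu (hPS S) ((hgu S).mul (rp_gj R 1)) (hm1 S (hPS S))
    have e2 := L.lrk_two R hirr hD hc hu (hPS S) ((hgu S).mul (rp_gj R 2)) (hm2 S (hPS S))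
    rw [Fin.sum_univ_four]
    omega
  calc 2 ^ (n - 3) * (2 + 2 * (3 + 3 * (m - 2))) = ∑ _S : P, (2 + 2 * (3 + 3 * (m - 2))) := by
        rw [Finset.sum_const, Finset.card_univ, hcard, smul_eq_mul]
    _ ≤ _ := Finset.sum_le_sum fun S _ => h2 S

end bound

end Cfsg.Agent.H762.Ppd.Spin
end

-- part: H762/Ppd/Last
section
/-!
# `SU_N(K)`: the bound for the last node (helper762, TEAM PPD)

`C` : the covering group `M.I` of the core `P`, the last node `c` is the only node outside `J`, rank `n ≥ 3`.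

* `exists_flipI` : representatives of the sign changes in `M.I`;
* `fix_node` : the rank one group of a node in `J` fixes `V^U`;
* **`last_bound`** : `2 ^ (n - 3) * (6 * 4 ^ s - 4) ≤ |ι|`, `|F| = p ^ a`, `q = p ^ f`, `s * gcd a f = f`.
-/

set_option autoImplicit false
set_option linter.unusedSectionVars false
set_option linter.style.haveILetI false

namespace Cfsg.Agent.H762.Ppd

open CoxeterSystem Cfsg.Agent.ChevalleyStructure.CoxeterGeom Cfsg.Agent.Tits.Roots Cfsg.Agent.Tits.Core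
  Cfsg.Agent.Nodes.Reps Cfsg.Agent.Nodes.BNOf Cfsg.Agent.Nodes.Bruhat Cfsg.Agent.Nodes.RGDLib
open Cfsg.Agent.Nodes Cfsg.Agent.Nodes.WittRoot Cfsg.Agent.Nodes.WittRGD Cfsg.Agent.Nodes.WittAll Cfsg.Agent.Nodes.WittU
open Cfsg.Agent.Nodes.TypeC (isCartan sg sg_up sg_last sg_sg ng ng_ng ng_fst ee ee_injective ee_add)
open Cfsg.Agent.LieClassical.HermBasic Cfsg.Agent.LieClassical.HermSiegel
open Cfsg.Agent.TitsThree.Siegel Cfsg.Agent.TitsThree.SiegelGen Cfsg.Agent.TitsThree.WittFrame Cfsg.Agent.TitsThree.FrameCN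
  Cfsg.Agent.TitsThree.WBridge Cfsg.Agent.TitsThree.KSideU Cfsg.Agent.TitsThree.KSideUDesc Cfsg.Agent.TitsThree
open Cfsg.Agent.H915.LD Cfsg.Agent.H911 Cfsg.Agent.H905.Md Cfsg.Agent.H925.Nat Cfsg.Agent.Nodes.RGDLift
open Cfsg.Agent.H156.Ppd (Cov lrep exists_cov)
open Cfsg.Agent.Omega.CR Cfsg.Agent.Omega.FOne.Lift.Sd
open Cfsg.Agent.H948.Ppd Cfsg.Agent.H117.Levi
open Cfsg.Agent.H61.SUCross Cfsg.Agent.H48.NatSU
open Cfsg.Agent.H48.WittNeg (fl)
open Cfsg.Agent.H48.WittNeg renaming flip → fp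
open Cfsg.Agent.H911.SLTwo (U Lo hh ww)
open Cfsg.Agent.H62.FrameSL (phiS)
open Cfsg Cfsg.Geo
open scoped MatrixGroups Matrix

universe u v w

theorem fp_fp {n : ℕ} (S : Finset (Fin n)) (x : Fin n × Bool) : fp S (fp S x) = x := by
  unfold fp
  by_cases h : x.1 ∈ S
  · rw [if_pos h, if_pos (by rw [ng_fst]; exact h), ng_ng]
  · rw [if_neg h, if_neg h]

section flip

variable {K : Type} [Field K] [Finite K] {ν : Type} [Fintype ν] [DecidableEq ν]
  {H : HForm K (ν → K)} {n : ℕ} {Fr : Frame H (Fin n)} {T₀ : Type v} [Group T₀] {M : Model Fr T₀} {p : ℕ}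
  [hp : Fact p.Prime] [hKp : CharP K p] {hA : AmbT Fr p M.I} {p0 : Fr.Adm} (hp0 : p0.c ≠ 0)
  {W : Type*} [Group W] {cs : CoxeterSystem (CoxeterMatrix.B n) W} {T : Subgroup M.I} {X : (Fin n → ℤ) → Subgroup M.I}
  (R : RGD cs (isCartan n) p T (NB hA p0) X)
include hp0

theorem exists_flipI_single (d : ℕ) : ∀ i : Fin n, (i : ℕ) + d + 1 = n →
    ∃ (u : W) (g : M.I), Rp cs R.nsys u g ∧ Mono Fr g.1 (fp {i}) ∧
      ∀ x, ee (rep cs (isCartan n) u x) = fl {i} (ee x) := by
  induction d with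
  | zero =>
    intro i hi
    have hi' : ¬ (i : ℕ) + 1 < n := by omega
    exact ⟨cs.simple i, NB hA p0 i, rp_simple cs _ i,
      (mono_nn hp0 i).congr (H48.WittNeg.sg_flip_last hi'), fun x => by rw [H48.WittNeg.ee_rep, H48.WittNeg.rf_last hi']⟩
  | succ d ih =>
    intro i hi
    have hi' : (i : ℕ) + 1 < n := by omega
    obtain ⟨u, g, h1, h2, h3⟩ := ih ⟨i + 1, hi'⟩ (by simp only; omega)
    refine ⟨cs.simple i * u * cs.simple i, NB hA p0 i * g * NB hA p0 i, ?_, ?_, ?_⟩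
    · exact ((rp_simple cs R.nsys i).mul h1).mul (rp_simple cs R.nsys i)
    · exact (((mono_nn hp0 i).mul h2).mul (mono_nn hp0 i)).congr fun x => H48.WittNeg.sg_flip hi' x
    · intro x
      rw [map_mul, Module.End.mul_apply, map_mul, Module.End.mul_apply, H48.WittNeg.ee_rep, h3, H48.WittNeg.ee_rep,
        H48.WittNeg.rf_fl hi']

theorem exists_flipI (S : Finset (Fin n)) :
    ∃ (u : W) (g : M.I), Rp cs R.nsys u g ∧ Mono Fr g.1 (fp S) ∧
      ∀ x, ee (rep cs (isCartan n) u x) = fl S (ee x) := by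
  induction S using Finset.induction_on with
  | empty =>
    refine ⟨1, 1, rp_one, Mono.one.congr fun x => (H48.WittNeg.flip_empty x).symm, fun x => ?_⟩
    rw [map_one, H48.WittNeg.fl_empty]
    rfl
  | insert i S hi ih =>
    obtain ⟨u, g, h1, h2, h3⟩ := ih
    obtain ⟨u', g', h1', h2', h3'⟩ := exists_flipI_single hp0 R (n - 1 - i) i (by have := i.2; omega)
    refine ⟨u' * u, g' * g, h1'.mul h1, (h2'.mul h2).congr fun x => H48.WittNeg.flip_insert hi x, fun x => ?_⟩
    rw [map_mul, Module.End.mul_apply, h3', h3, H48.WittNeg.fl_insert hi]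

end flip

/-- the rank one group of a node in `J` fixes `V^U` -/
theorem fix_node {I W Y : Type*} [Fintype I] [DecidableEq I] [Group W] [Group Y] {M : CoxeterMatrix I}
    {cs : CoxeterSystem M W} {A : I → I → ℤ} {h : IsCartan M A} {T : Subgroup Y}
    {X : (I → ℤ) → Subgroup Y} {k V : Type*} [Field k] [AddCommGroup V] [Module k V] {ρ : Y →* Module.End k V}
    {E : Type*} [Field E] {i : I} {σ : SL(2, E) →* Y} (N : H650.Ppd.Nd T X i σ) (hi : i ∈ Jx cs h X ρ)
    (g : SL(2, E)) {v : V} (hv : v ∈ D cs h X ρ) : ρ (σ g) v = v := by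
  let S : Subgroup SL(2, E) :=
    { carrier := {g | ∀ v ∈ D cs h X ρ, ρ (σ g) v = v}
      one_mem' := fun v _ => by rw [map_one, rho_one]
      mul_mem' := by
        intro a b ha hb v hv
        rw [map_mul, rho_mul, hb v hv, ha v hv]
      inv_mem' := by
        intro a ha v hv
        rw [map_inv]
        conv_lhs => rw [← ha v hv]
        exact rho_inv_rho ρ (σ a) v }
  have h1 : g ∈ S := H650.Ppd.mem_of_UL (H := S) (fun t v hv => hv _ (RGD.le_Sup (S := RGD.Pos cs h) ⟨isRoot_sr cs h i, sr_nonneg i⟩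
    ((N.up _).2 ⟨t, rfl⟩))) (fun t v hv => hi _ ((N.lo _).2 ⟨t, rfl⟩) v hv) g
  exact h1 v hv

section main

variable {K : Type} [Field K] [Fintype K] {q N n : ℕ} {hK : Fintype.card K = q ^ 2} {hN : 3 ≤ N} {W : WFrame (PU hK N) n}
variable {F : Type u} [Field F] [Finite F] {ι : Type} [Fintype ι] [DecidableEq ι] {P : Subgroup (GL ι F)}
  {p : ℕ} [hp : Fact p.Prime] [hFp : CharP F p] [hKp : CharP K p] (hC : Core P)
  {hA : AmbT (toFrame W) p (modelSU hK hN W).I} {p0 : (toFrame W).Adm} (hp0 : p0.c ≠ 0)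
  {φ : (modelSU hK hN W).I →* GL ι F}
  (C : Cov (CoxeterMatrix.B n).toCoxeterSystem (isCartan n) p (TB (modelSU hK hN W)) (NB hA p0)
        (XB (modelSU hK hN W)) P (MonoidHom.id (modelSU hK hN W).I) φ (NB hA p0))

/-- the long nodes of the covering group -/
theorem exists_ndI (hp0 : p0.c ≠ 0) (C : Cov (CoxeterMatrix.B n).toCoxeterSystem (isCartan n) p (TB (modelSU hK hN W)) (NB hA p0)
        (XB (modelSU hK hN W)) P (MonoidHom.id (modelSU hK hN W).I) φ (NB hA p0)) {i : Fin n} (hi : (i : ℕ) + 1 < n) (hij : i ≠ ⟨i + 1, hi⟩) :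
    ∃ σ : SL(2, K) →* (modelSU hK hN W).I,
      (∀ g, (σ g : (Fin N → K) ≃ₗ[K] (Fin N → K)) = phiS (toFrame W) hij g) ∧
      H650.Ppd.Nd ((TB (modelSU hK hN W)).comap (MonoidHom.id (modelSU hK hN W).I))
        (fun x => lft p (MonoidHom.id (modelSU hK hN W).I) (XB (modelSU hK hN W) x)) i σ ∧
      Rp (CoxeterMatrix.B n).toCoxeterSystem C.rgd.nsys ((CoxeterMatrix.B n).toCoxeterSystem.simple i) (σ ww) := by
  have := finite_GL (K := K) (ν := Fin N)
  have hWf : Finite (CoxeterMatrix.B n).Group := TypeC.finite_W (CoxeterMatrix.B n).toCoxeterSystem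
  obtain ⟨σ, hσ, N'⟩ := nd_long' hA.rg_le hi hij
  have N₁ := N'.lift C.ker C.cop (rgdB hA hp0 (CoxeterMatrix.B n).toCoxeterSystem) (σ := σ) (fun _ => rfl)
  refine ⟨σ, hσ, ⟨N₁.up, N₁.lo, N₁.tor⟩, ?_⟩
  have h1 : σ ww * (NB hA p0 i)⁻¹ ∈ (TB (modelSU hK hN W)).comap (MonoidHom.id (modelSU hK hN W).I) := by
    have h2 : Mono (toFrame W) ((σ ww : (modelSU hK hN W).I) : (Fin N → K) ≃ₗ[K] (Fin N → K)) (_root_.Cfsg.Agent.Nodes.TypeC.sg i) := by
      rw [hσ]
      exact phiS_ww hi hij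
    exact (_root_.Cfsg.Agent.Nodes.WittAll.tor_of_mono (σ ww).2 (NB hA p0 i).2 h2 (mono_nn hp0 i) :
      ((σ ww * (NB hA p0 i)⁻¹ : (modelSU hK hN W).I) : (Fin N → K) ≃ₗ[K] (Fin N → K)) ∈
        Tor (toFrame W) (modelSU hK hN W).I)
  have h2 := (rp_of_mem (cs := (CoxeterMatrix.B n).toCoxeterSystem) (hN := C.rgd.nsys) h1).mul
    (rp_simple (CoxeterMatrix.B n).toCoxeterSystem C.rgd.nsys i)
  rwa [one_mul, inv_mul_cancel_right] at h2

include hC C hp0

/-- **The bound for the last node.** -/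
theorem last_bound (hT : ∀ s ∈ (TB (modelSU hK hN W)).comap (MonoidHom.id (modelSU hK hN W).I),
      ∀ t ∈ (TB (modelSU hK hN W)).comap (MonoidHom.id (modelSU hK hN W).I), s * t = t * s)
    (hn : 3 ≤ n) {c : Fin n} (hc1 : (c : ℕ) + 1 = n)
    (hc : c ∉ JB (modelSU hK hN W) p (MonoidHom.id (modelSU hK hN W).I) φ)
    (hJ : ∀ i, i ∉ JB (modelSU hK hN W) p (MonoidHom.id (modelSU hK hN W).I) φ → i = c)
    {a f s : ℕ} (hF : Nat.card F = p ^ a) (hq : q = p ^ f) (hs : s * Nat.gcd a f = f) :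
    2 ^ (n - 3) * (2 + 2 * (3 + 3 * (4 ^ s - 2))) ≤ Fintype.card ι := by
  have hWf : Finite (CoxeterMatrix.B n).Group := TypeC.finite_W (CoxeterMatrix.B n).toCoxeterSystem
  have := finite_GL (K := K) (ν := Fin N)
  have hne := hC.nonempty
  have hchar : CharP (AlgebraicClosure F) p := charP_of_injective_algebraMap (algebraMap F _).injective p
  obtain ⟨hirr, hD⟩ := irr_B hC C hT
  have hamb := amb_U hK W
  let a' : Fin n := ⟨n - 3, by omega⟩
  let b' : Fin n := ⟨n - 2, by omega⟩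
  have L : Spin.Ls a' b' c := ⟨by simp only [a']; omega, by simp only [b']; omega, hc1⟩
  have hab := L.ab
  have hbc := L.bc
  have hac := L.ac
  have haJ : a' ∈ JB (modelSU hK hN W) p (MonoidHom.id (modelSU hK hN W).I) φ := by
    by_contra h; exact hac (hJ _ h)
  have hbJ : b' ∈ JB (modelSU hK hN W) p (MonoidHom.id (modelSU hK hN W).I) φ := by
    by_contra h; exact hbc (hJ _ h)
  choose u g hg1 hg2 hg3 using exists_flipI hp0 C.rgd
  have ha1 : (a' : ℕ) + 1 < n := by simp only [a']; omega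
  have hb1 : (b' : ℕ) + 1 < n := by simp only [b']; omega
  have hab' : (⟨a' + 1, ha1⟩ : Fin n) = b' := Fin.ext (by simp only [a', b']; omega)
  have hbc' : (⟨b' + 1, hb1⟩ : Fin n) = c := Fin.ext (by simp only [b']; omega)
  obtain ⟨σa, hσa, Na, hwa⟩ := exists_ndI hp0 C ha1 (by rw [hab']; exact hab)
  obtain ⟨σb, hσb, Nb, hwb⟩ := exists_ndI hp0 C hb1 (by rw [hbc']; exact hbc)
  -- the torus elements
  have hva : ∀ t x, ((σa (_root_.Cfsg.Agent.H911.SLTwo.hh t) : (modelSU hK hN W).I) : (Fin N → K) ≃ₗ[K] (Fin N → K)) ((toFrame W).b x) =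
      ev (HU hK N) a' b' t x • (toFrame W).b x := by
    intro t x
    rw [hσa, phiS_b]
    congr 2
  have hvb : ∀ t x, ((σb (_root_.Cfsg.Agent.H911.SLTwo.hh t) : (modelSU hK hN W).I) : (Fin N → K) ≃ₗ[K] (Fin N → K)) ((toFrame W).b x) =
      ev (HU hK N) b' c t x • (toFrame W).b x := by
    intro t x
    rw [hσb, phiS_b]
    congr 2
  have hva0 : ∀ t, ∀ w ∈ (toFrame W).V0, ((σa (_root_.Cfsg.Agent.H911.SLTwo.hh t) : (modelSU hK hN W).I) : (Fin N → K) ≃ₗ[K] (Fin N → K)) w = w := by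
    intro t w hw
    rw [hσa, phiS_V0 _ _ hw]
  have hvb0 : ∀ t, ∀ w ∈ (toFrame W).V0, ((σb (_root_.Cfsg.Agent.H911.SLTwo.hh t) : (modelSU hK hN W).I) : (Fin N → K) ≃ₗ[K] (Fin N → K)) w = w := by
    intro t w hw
    rw [hσb, phiS_V0 _ _ hw]
  have hnorm : ∀ t : Kˣ, t ^ (q + 1) = 1 → (t : K) * (HU hK N).σ t = 1 := by
    intro t ht
    have h1 := congrArg Units.val ht
    rw [Units.val_pow_eq_pow_val, pow_succ, Units.val_one, mul_comm] at h1
    exact h1
  have hmc : Mono (toFrame W) ((NB hA p0 c : (modelSU hK hN W).I) : (Fin N → K) ≃ₗ[K] (Fin N → K)) (_root_.Cfsg.Agent.Nodes.TypeC.sg c) := mono_nn hp0 c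
  have hmb : Mono (toFrame W) ((NB hA p0 b' : (modelSU hK hN W).I) : (Fin N → K) ≃ₗ[K] (Fin N → K)) (_root_.Cfsg.Agent.Nodes.TypeC.sg b') := mono_nn hp0 b'
  have key := Spin.spin_bound C.rgd hirr hD L hc hg3 (gu := g) hg1 (m := 4 ^ s) ?_ ?_
  · rwa [Module.finrank_fintype_fun_eq_card] at key
  · intro S hS
    have hrp : Rp (CoxeterMatrix.B n).toCoxeterSystem C.rgd.nsys
        (u S * Spin.wj (CoxeterMatrix.B n).toCoxeterSystem a' b' c 1) (g S * NB hA p0 c) :=
      (hg1 S).mul (rp_simple _ C.rgd.nsys c)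
    have hm : Mono (toFrame W) ((g S * NB hA p0 c : (modelSU hK hN W).I) : (Fin N → K) ≃ₗ[K] (Fin N → K))
        (fun x => fp S (_root_.Cfsg.Agent.Nodes.TypeC.sg c x)) := (hg2 S).mul hmc
    refine four_le_lrk C.rgd C.hGG hT C.range hC.absIrred Nb hrp ?_ ?_ hwb hK hF hq hs ?_
    · exact L.hmin u hg3 hS 1 b' (by simp)
    · intro h
      obtain ⟨yb, hyb⟩ := Spin.exists_y (CoxeterMatrix.B n).toCoxeterSystem b'
      change ee yb = Spin.de b' at hyb
      have e1 := L.sv_eq' (w := u S * Spin.wj (CoxeterMatrix.B n).toCoxeterSystem a' b' c 1) (v := 1)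
        (v' := (CoxeterMatrix.B n).toCoxeterSystem.simple b') hc (by rw [inv_one, one_mul]; exact h) yb
      rw [L.sv_mul, L.sv_wj u hg3, L.sv_mul, L.sv_wj u hg3, inv_simple, H48.WittNeg.ee_rep, hyb, L.rb_b, inv_one,
        map_one, Module.End.one_apply, hyb, L.F1 hS (Or.inr (Or.inl rfl)), L.F1 hS (Or.inr (Or.inr rfl)), if_pos rfl,
        if_neg hbc] at e1
      omega
    · intro t ht v hv
      have e : (g S * NB hA p0 c)⁻¹ * σb (_root_.Cfsg.Agent.H911.SLTwo.hh t) * (g S * NB hA p0 c) = σb (_root_.Cfsg.Agent.H911.SLTwo.hh t) := by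
        apply Subtype.ext
        refine eq_of_fix hamb (fun x => ?_) (fun w hw => ?_)
        · refine (conj_b (hvb t) hm x).trans ?_
          rw [hvb, ev_one L.hb L.hc hS hbc (hnorm t ht)]
        · refine (conj_V0 hA (g S * NB hA p0 c).2 (hvb0 t) hm (ρ := fun x => _root_.Cfsg.Agent.Nodes.TypeC.sg c (fp S x)) (fun x => ?_) hw).trans
            (hvb0 t w hw).symm
          rw [sg_sg, fp_fp]
      rw [e]
      exact fix_node Nb hbJ _ hv
  · intro S hS
    have hrp : Rp (CoxeterMatrix.B n).toCoxeterSystem C.rgd.nsys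
        (u S * Spin.wj (CoxeterMatrix.B n).toCoxeterSystem a' b' c 2) (g S * (NB hA p0 c * NB hA p0 b' * NB hA p0 c)) :=
      (hg1 S).mul (((rp_simple _ C.rgd.nsys c).mul (rp_simple _ C.rgd.nsys b')).mul (rp_simple _ C.rgd.nsys c))
    have hm : Mono (toFrame W) ((g S * (NB hA p0 c * NB hA p0 b' * NB hA p0 c) : (modelSU hK hN W).I) :
        (Fin N → K) ≃ₗ[K] (Fin N → K)) (fun x => fp S (_root_.Cfsg.Agent.Nodes.TypeC.sg c (_root_.Cfsg.Agent.Nodes.TypeC.sg b' (_root_.Cfsg.Agent.Nodes.TypeC.sg c x)))) :=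
      (hg2 S).mul ((hmc.mul hmb).mul hmc)
    refine four_le_lrk C.rgd C.hGG hT C.range hC.absIrred Na hrp ?_ ?_ hwa hK hF hq hs ?_
    · exact L.hmin u hg3 hS 2 a' (by simp)
    · intro h
      obtain ⟨ya, hya⟩ := Spin.exists_y (CoxeterMatrix.B n).toCoxeterSystem a'
      change ee ya = Spin.de a' at hya
      have e1 := L.sv_eq' (w := u S * Spin.wj (CoxeterMatrix.B n).toCoxeterSystem a' b' c 2) (v := 1)
        (v' := (CoxeterMatrix.B n).toCoxeterSystem.simple a') hc (by rw [inv_one, one_mul]; exact h) ya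
      rw [L.sv_mul, L.sv_wj u hg3, L.sv_mul, L.sv_wj u hg3, inv_simple, H48.WittNeg.ee_rep, hya, L.ra_a, inv_one,
        map_one, Module.End.one_apply, hya, L.F2 hS (Or.inl rfl), L.F2 hS (Or.inr (Or.inl rfl)), if_pos rfl,
        if_neg (Ne.symm hab)] at e1
      omega
    · intro t ht v hv
      have e : (g S * (NB hA p0 c * NB hA p0 b' * NB hA p0 c))⁻¹ * σa (_root_.Cfsg.Agent.H911.SLTwo.hh t) *
          (g S * (NB hA p0 c * NB hA p0 b' * NB hA p0 c)) = σa (_root_.Cfsg.Agent.H911.SLTwo.hh t) * σb (_root_.Cfsg.Agent.H911.SLTwo.hh t) := by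
        apply Subtype.ext
        refine eq_of_fix hamb (fun x => ?_) (fun w hw => ?_)
        · refine (conj_b (hva t) hm x).trans ?_
          rw [ev_two L.ha L.hb L.hc hS hab hbc hac (hnorm t ht)]
          change _ = ((σa (_root_.Cfsg.Agent.H911.SLTwo.hh t) : (modelSU hK hN W).I) : (Fin N → K) ≃ₗ[K] (Fin N → K))
            (((σb (_root_.Cfsg.Agent.H911.SLTwo.hh t) : (modelSU hK hN W).I) : (Fin N → K) ≃ₗ[K] (Fin N → K)) ((toFrame W).b x))
          rw [hvb, map_smul, hva, smul_smul, mul_comm]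
        · refine (conj_V0 hA (g S * (NB hA p0 c * NB hA p0 b' * NB hA p0 c)).2 (hva0 t) hm
            (ρ := fun x => _root_.Cfsg.Agent.Nodes.TypeC.sg c (_root_.Cfsg.Agent.Nodes.TypeC.sg b' (_root_.Cfsg.Agent.Nodes.TypeC.sg c (fp S x)))) (fun x => ?_) hw).trans ?_
          · rw [sg_sg, sg_sg, sg_sg, fp_fp]
          · change w = ((σa (_root_.Cfsg.Agent.H911.SLTwo.hh t) : (modelSU hK hN W).I) : (Fin N → K) ≃ₗ[K] (Fin N → K))
              (((σb (_root_.Cfsg.Agent.H911.SLTwo.hh t) : (modelSU hK hN W).I) : (Fin N → K) ≃ₗ[K] (Fin N → K)) w)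
            rw [hvb0 t w hw, hva0 t w hw]
      rw [e, rho_mul, fix_node Nb hbJ _ hv]
      exact fix_node Na haJ _ hv

end main

end Cfsg.Agent.H762.Ppd
end

-- part: H762/Ppd/Mid
section
/-!
# Type `B_3`, the middle node (helper762, TEAM PPD)

`1 ∉ J`, `dim V^U = 1`. The 12 vertices `± e_i ± e_j` form 7 orbits of the Weyl group of `{0}`.

* `wl`, `gl` : the representatives of the orbits;
* **`mid_bound`** : `14 ≤ dim V`, if `4 ≤ lrk {0} (n_1 n_2 n_1)`.
-/

set_option autoImplicit false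
set_option linter.unusedSectionVars false
set_option linter.style.haveILetI false

namespace Cfsg.Agent.H762.Ppd.Mid

open CoxeterSystem Cfsg.Agent.ChevalleyStructure.CoxeterGeom Cfsg.Agent.Tits.Roots Cfsg.Agent.Tits.Core
  Cfsg.Agent.Nodes.Reps Cfsg.Agent.Nodes.BNOf Cfsg.Agent.Nodes.Bruhat Cfsg.Agent.Nodes.TypeC
  Cfsg.Agent.Omega.CR Cfsg.Agent.H905.Md Cfsg.Agent.H117.Levi
open Cfsg.Agent.H905.DC (co cf co_wordProd)
open Cfsg.Agent.H650.Ppd (co_eq_of_mem)

/-- the words of the representatives -/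
def wl : Fin 7 → List (Fin 3) :=
  ![[], [1], [2, 1], [1, 2, 1], [1, 2, 0, 1], [2, 1, 2, 0, 1], [1, 0, 2, 1, 2, 0, 1]]

/-- the action of a word -/
def ra (ω : List (Fin 3)) (v : Fin 3 → ℤ) : Fin 3 → ℤ :=
  ω.foldr (fun i v => fun k => v k - if k = i then ∑ m, A 3 i m * v m else 0) v

section comb

variable {W : Type*} [Group W] {cs : CoxeterSystem (CoxeterMatrix.B 3) W}

theorem mem_WJ_single {w : W} {i : Fin 3} (hw : w ∈ WJ cs {i}) : w = 1 ∨ w = cs.simple i := by
  unfold WJ at hw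
  induction hw using Subgroup.closure_induction with
  | mem x hx =>
    obtain ⟨j, hj, rfl⟩ := hx
    rw [Set.mem_singleton_iff] at hj
    rw [hj]
    exact Or.inr rfl
  | one => exact Or.inl rfl
  | mul x y _ _ hx hy =>
    rcases hx with rfl | rfl <;> rcases hy with rfl | rfl
    · left; rw [one_mul]
    · right; rw [one_mul]
    · right; rw [mul_one]
    · left; rw [cs.simple_mul_simple_self]
  | inv x _ hx =>
    rcases hx with rfl | rfl
    · left; rw [inv_one]
    · right; rw [inv_simple]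

theorem rep_wordProd (ω : List (Fin 3)) (v : Fin 3 → ℤ) : rep cs (isCartan 3) (cs.wordProd ω) v = ra ω v := by
  induction ω with
  | nil => rw [cs.wordProd_nil, map_one, Module.End.one_apply]; rfl
  | cons i ω ih =>
    rw [cs.wordProd_cons, rep_mul_apply, ih, rep_simple, refl_apply]
    funext k
    change _ = ra ω v k - if k = i then ∑ m, A 3 i m * ra ω v m else 0
    rw [Pi.sub_apply]
    congr 1
    by_cases hk : k = i
    · subst hk
      rw [if_pos rfl, Pi.single_eq_same]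
      rfl
    · rw [if_neg hk, Pi.single_eq_of_ne hk]

theorem wp_inv (ω : List (Fin 3)) : (cs.wordProd ω)⁻¹ = cs.wordProd ω.reverse := (cs.wordProd_reverse ω).symm

theorem co_inv (ω : List (Fin 3)) : co cs (isCartan 3) 1 (cs.wordProd ω)⁻¹ = cf (A 3) 1 ω.reverse := by
  rw [wp_inv, co_wordProd]

theorem co_inv' (i : Fin 3) (ω : List (Fin 3)) :
    co cs (isCartan 3) 1 (cs.simple i * cs.wordProd ω)⁻¹ = cf (A 3) 1 (i :: ω).reverse := by
  rw [← cs.wordProd_cons, wp_inv, co_wordProd]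

theorem hmin (a : Fin 7) : ∀ i ∈ ({0} : Set (Fin 3)), 0 ≤ rep cs (isCartan 3) (cs.wordProd (wl a))⁻¹ (sr i) := by
  intro i hi
  rw [Set.mem_singleton_iff] at hi
  subst hi
  rw [wp_inv, rep_wordProd]
  have h1 : ∀ a : Fin 7, ∀ k : Fin 3, 0 ≤ ra (wl a).reverse (fun k => if k = 0 then 1 else 0) k := by decide +kernel
  have h2 : (sr (0 : Fin 3) : Fin 3 → ℤ) = fun k => if k = 0 then 1 else 0 := by
    funext k
    by_cases hk : k = 0
    · subst hk; rw [sr_self, if_pos rfl]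
    · rw [sr_ne hk, if_neg hk]
  intro k
  rw [h2]
  exact h1 a k

theorem hsep {J : Set (Fin 3)} (hJ : (1 : Fin 3) ∉ J) (a a' : Fin 7) (haa : a ≠ a') (x : W)
    (hx : x ∈ WJ cs ({0} : Set (Fin 3))) : (cs.wordProd (wl a))⁻¹ * x * cs.wordProd (wl a') ∉ WJ cs J := by
  intro h
  rw [mul_assoc] at h
  have h1 := co_eq_of_mem (h := isCartan 3) hJ h
  have k1 : ∀ a a' : Fin 7, a ≠ a' → cf (A 3) 1 (wl a).reverse ≠ cf (A 3) 1 (wl a').reverse := by decide +kernel
  have k2 : ∀ a a' : Fin 7, a ≠ a' → cf (A 3) 1 (wl a).reverse ≠ cf (A 3) 1 (0 :: wl a').reverse := by decide +kernel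
  rcases mem_WJ_single hx with rfl | rfl
  · rw [one_mul, co_inv, co_inv] at h1
    exact k1 a a' haa h1
  · rw [co_inv, co_inv'] at h1
    exact k2 a a' haa h1

theorem hsep' {J : Set (Fin 3)} (hJ : (1 : Fin 3) ∉ J) (a : Fin 7) (ha : a = 1 ∨ a = 2 ∨ a = 3 ∨ a = 4 ∨ a = 5) :
    (cs.wordProd (wl a))⁻¹ * cs.simple 0 * cs.wordProd (wl a) ∉ WJ cs J := by
  intro h
  rw [mul_assoc] at h
  have h1 := co_eq_of_mem (h := isCartan 3) hJ h
  have k2 : ∀ a : Fin 7, a = 1 ∨ a = 2 ∨ a = 3 ∨ a = 4 ∨ a = 5 → cf (A 3) 1 (wl a).reverse ≠ cf (A 3) 1 (0 :: wl a).reverse := by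
    decide +kernel
  rw [co_inv, co_inv'] at h1
  exact k2 a ha h1

end comb

section main

variable {W Y : Type*} [Group W] [Group Y] {cs : CoxeterSystem (CoxeterMatrix.B 3) W} {p : ℕ} {T : Subgroup Y}
  {nn : Fin 3 → Y} {X : (Fin 3 → ℤ) → Subgroup Y} {k V : Type*} [Field k] [AddCommGroup V] [Module k V]
variable (R : RGD cs (isCartan 3) p T nn X) [Finite Y] [Finite W] [Fact p.Prime] [CharP k p]
  {ρ : Y →* Module.End k V} [FiniteDimensional k V] [Nontrivial V]
  (hirr : ∀ L : Submodule k V, Ivt ρ (GG cs (isCartan 3) T X) L → L = ⊥ ∨ L = ⊤)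
  (hD : Module.finrank k (D cs (isCartan 3) X ρ) = 1)

/-- the representatives -/
def gl (nn : Fin 3 → Y) (ω : List (Fin 3)) : Y := (ω.map nn).prod

omit [Finite Y] [Finite W] [Fact p.Prime] [CharP k p] [FiniteDimensional k V] [Nontrivial V] in
theorem rp_gl (ω : List (Fin 3)) : Rp cs R.nsys (cs.wordProd ω) (gl nn ω) := by
  induction ω with
  | nil => rw [cs.wordProd_nil]; exact rp_one
  | cons i ω ih =>
    rw [cs.wordProd_cons]
    unfold gl
    rw [List.map_cons, List.prod_cons]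
    exact (rp_simple cs R.nsys i).mul ih

include R hirr hD

theorem mid_bound (h1 : (1 : Fin 3) ∉ Jx cs (isCartan 3) X ρ)
    (hm : 4 ≤ lrk cs (isCartan 3) T X ρ {0} (nn 1 * nn 2 * nn 1)) : 14 ≤ Module.finrank k V := by
  have hg := fun a : Fin 7 => rp_gl R (wl a)
  have key := dim_ge_levi R hirr ({0} : Set (Fin 3)) (α := Fin 7) (fun a => cs.wordProd (wl a)) (fun a => gl nn (wl a))
    hg hmin (hsep h1)
  have e1 : ∀ a : Fin 7, 1 ≤ lrk cs (isCartan 3) T X ρ {0} (gl nn (wl a)) := fun a => one_le_lrk R hirr _ _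
  have e2 : ∀ a : Fin 7, a = 1 ∨ a = 2 ∨ a = 3 ∨ a = 4 ∨ a = 5 → 2 ≤ lrk cs (isCartan 3) T X ρ {0} (gl nn (wl a)) := by
    intro a ha
    have hs := hsep' (cs := cs) h1 a ha
    have h2 := lrk_ge R hirr (hg a) (hmin a) (α := Fin 2) (β := Fin 0) ![1, cs.simple 0]
      (by
        have hm' : cs.simple 0 ∈ WJ cs ({0} : Set (Fin 3)) := by
          unfold WJ
          exact Subgroup.subset_closure ⟨0, rfl, rfl⟩
        intro x; fin_cases x; exacts [one_mem _, hm'])
      (by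
        intro x x' hxx h
        fin_cases x <;> fin_cases x'
        · exact hxx rfl
        · apply hs
          simpa only [mul_assoc, _root_.Fin.isValue, _root_.Fin.zero_eta, _root_.Matrix.cons_val_zero, _root_.inv_one, _root_.Fin.mk_one, _root_.Matrix.cons_val_one, _root_.Matrix.cons_val_fin_one, _root_.one_mul] using h
        · apply hs
          simpa only [mul_assoc, _root_.Fin.isValue, _root_.Fin.mk_one, _root_.Matrix.cons_val_one, _root_.Matrix.cons_val_fin_one, _root_.CoxeterSystem.inv_simple, _root_.Fin.zero_eta, _root_.Matrix.cons_val_zero, _root_.mul_one] using h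
        · exact hxx rfl)
      Fin.elim0 (fun b => b.elim0) Fin.elim0 (fun b => b.elim0) (fun b => b.elim0)
    rw [hD] at h2
    simpa only [_root_.Fin.isValue, _root_.ge_iff_le, _root_.Fintype.card_fin, _root_.mul_one, _root_.Finset.univ_eq_empty, _root_.Finset.sum_empty, _root_.add_zero] using h2
  have e3 : gl nn (wl 3) = nn 1 * nn 2 * nn 1 := by
    simp [gl, wl, mul_assoc]
  have e4 : 4 ≤ lrk cs (isCartan 3) T X ρ {0} (gl nn (wl 3)) := by rw [e3]; exact hm
  have a0 := e1 0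
  have a1 := e2 1 (by simp)
  have a2 := e2 2 (by simp)
  have a4 := e2 4 (by simp)
  have a5 := e2 5 (by simp)
  have a6 := e1 6
  simp only [Fin.sum_univ_succ, Fin.sum_univ_zero, Fin.isValue] at key
  change lrk cs (isCartan 3) T X ρ {0} (gl nn (wl 0)) + (lrk cs (isCartan 3) T X ρ {0} (gl nn (wl 1)) +
    (lrk cs (isCartan 3) T X ρ {0} (gl nn (wl 2)) + (lrk cs (isCartan 3) T X ρ {0} (gl nn (wl 3)) +
    (lrk cs (isCartan 3) T X ρ {0} (gl nn (wl 4)) + (lrk cs (isCartan 3) T X ρ {0} (gl nn (wl 5)) +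
    (lrk cs (isCartan 3) T X ρ {0} (gl nn (wl 6)) + 0)))))) ≤ _ at key
  omega

end main

end Cfsg.Agent.H762.Ppd.Mid
end

-- part: H762/Ppd/MidSu
section
/-!
# `SU_N(K)` of rank 3: the bound for the middle node (helper762, TEAM PPD)

**`mid_bound_su`** : `N = 6, 7`, the node `1` is the only node outside `J`: `14 ≤ |ι|`.
-/

set_option autoImplicit false
set_option linter.unusedSectionVars false
set_option linter.style.haveILetI false

namespace Cfsg.Agent.H762.Ppd

open CoxeterSystem Cfsg.Agent.ChevalleyStructure.CoxeterGeom Cfsg.Agent.Tits.Roots Cfsg.Agent.Tits.Core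
  Cfsg.Agent.Nodes.Reps Cfsg.Agent.Nodes.BNOf Cfsg.Agent.Nodes.Bruhat Cfsg.Agent.Nodes.RGDLib
open Cfsg.Agent.Nodes Cfsg.Agent.Nodes.WittRoot Cfsg.Agent.Nodes.WittRGD Cfsg.Agent.Nodes.WittAll Cfsg.Agent.Nodes.WittU
open Cfsg.Agent.Nodes.TypeC (isCartan sg sg_up sg_down sg_last sg_of_ne sg_sg ng ng_ng ng_fst ee ee_injective ee_add)
open Cfsg.Agent.LieClassical.HermBasic Cfsg.Agent.LieClassical.HermSiegel
open Cfsg.Agent.TitsThree.Siegel Cfsg.Agent.TitsThree.SiegelGen Cfsg.Agent.TitsThree.WittFrame Cfsg.Agent.TitsThree.FrameCN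
  Cfsg.Agent.TitsThree.WBridge Cfsg.Agent.TitsThree.KSideU Cfsg.Agent.TitsThree.KSideUDesc Cfsg.Agent.TitsThree
open Cfsg.Agent.H915.LD Cfsg.Agent.H911 Cfsg.Agent.H905.Md Cfsg.Agent.H925.Nat Cfsg.Agent.Nodes.RGDLift
open Cfsg.Agent.H156.Ppd (Cov lrep exists_cov)
open Cfsg.Agent.Omega.CR Cfsg.Agent.Omega.FOne.Lift.Sd
open Cfsg.Agent.H948.Ppd Cfsg.Agent.H117.Levi
open Cfsg.Agent.H61.SUCross Cfsg.Agent.H48.NatSU
open Cfsg.Agent.H911.SLTwo (U Lo hh ww)
open Cfsg.Agent.H62.FrameSL (phiS)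
open Cfsg Cfsg.Geo
open scoped MatrixGroups Matrix

universe u v w

theorem ev_three {F : Type*} [Field F] {V : Type*} [AddCommGroup V] [Module F V] {H : HForm F V} {t : Fˣ}
    (ht : (t : F) * H.σ t = 1) (x : Fin 3 × Bool) :
    ev H 0 1 t (_root_.Cfsg.Agent.Nodes.TypeC.sg 1 (_root_.Cfsg.Agent.Nodes.TypeC.sg 2 (_root_.Cfsg.Agent.Nodes.TypeC.sg 1 x))) = ev H 0 1 t x := by
  have h1 : ∀ s, _root_.Cfsg.Agent.Nodes.TypeC.sg (1 : Fin 3) (1, s) = (2, s) := by decide
  have h2 : ∀ s, _root_.Cfsg.Agent.Nodes.TypeC.sg (1 : Fin 3) (2, s) = (1, s) := by decide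
  have h3 : ∀ s, _root_.Cfsg.Agent.Nodes.TypeC.sg (1 : Fin 3) (0, s) = (0, s) := by decide
  have h4 : ∀ s, _root_.Cfsg.Agent.Nodes.TypeC.sg (2 : Fin 3) (2, s) = (2, !s) := by decide
  have h5 : ∀ s, _root_.Cfsg.Agent.Nodes.TypeC.sg (2 : Fin 3) (0, s) = (0, s) := by decide
  have h6 : ∀ s, _root_.Cfsg.Agent.Nodes.TypeC.sg (2 : Fin 3) (1, s) = (1, s) := by decide
  obtain ⟨k, s⟩ := x
  fin_cases k
  · change ev H 0 1 t (_root_.Cfsg.Agent.Nodes.TypeC.sg 1 (_root_.Cfsg.Agent.Nodes.TypeC.sg 2 (_root_.Cfsg.Agent.Nodes.TypeC.sg 1 (0, s)))) = ev H 0 1 t (0, s)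
    rw [h3, h5, h3]
  · change ev H 0 1 t (_root_.Cfsg.Agent.Nodes.TypeC.sg 1 (_root_.Cfsg.Agent.Nodes.TypeC.sg 2 (_root_.Cfsg.Agent.Nodes.TypeC.sg 1 (1, s)))) = ev H 0 1 t (1, s)
    rw [h1, h4, h2, ev_j (by decide), ev_j (by decide), sig_eq ht]
    cases s <;> rfl
  · change ev H 0 1 t (_root_.Cfsg.Agent.Nodes.TypeC.sg 1 (_root_.Cfsg.Agent.Nodes.TypeC.sg 2 (_root_.Cfsg.Agent.Nodes.TypeC.sg 1 (2, s)))) = ev H 0 1 t (2, s)
    rw [h2, h6, h1]

variable {K : Type} [Field K] [Fintype K] {q N : ℕ} {hK : Fintype.card K = q ^ 2} {hN : 3 ≤ N} {W : WFrame (PU hK N) 3}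
variable {F : Type u} [Field F] [Finite F] {ι : Type} [Fintype ι] [DecidableEq ι] {P : Subgroup (GL ι F)}
  {p : ℕ} [hp : Fact p.Prime] [hFp : CharP F p] [hKp : CharP K p] (hC : Core P)
  {hA : AmbT (toFrame W) p (modelSU hK hN W).I} {p0 : (toFrame W).Adm} (hp0 : p0.c ≠ 0)
  {φ : (modelSU hK hN W).I →* GL ι F}
  (C : Cov (CoxeterMatrix.B 3).toCoxeterSystem (isCartan 3) p (TB (modelSU hK hN W)) (NB hA p0)
        (XB (modelSU hK hN W)) P (MonoidHom.id (modelSU hK hN W).I) φ (NB hA p0))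
include hC C hp0

theorem mid_bound_su (hT : ∀ s ∈ (TB (modelSU hK hN W)).comap (MonoidHom.id (modelSU hK hN W).I),
      ∀ t ∈ (TB (modelSU hK hN W)).comap (MonoidHom.id (modelSU hK hN W).I), s * t = t * s)
    (h1 : (1 : Fin 3) ∉ JB (modelSU hK hN W) p (MonoidHom.id (modelSU hK hN W).I) φ)
    (h0 : (0 : Fin 3) ∈ JB (modelSU hK hN W) p (MonoidHom.id (modelSU hK hN W).I) φ)
    {a f : ℕ} (hF : Nat.card F = p ^ a) (hq : q = p ^ f) (hs : Nat.gcd a f = f) :
    14 ≤ Fintype.card ι := by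
  have hWf : Finite (CoxeterMatrix.B 3).Group := TypeC.finite_W (CoxeterMatrix.B 3).toCoxeterSystem
  have := finite_GL (K := K) (ν := Fin N)
  have hne := hC.nonempty
  have hchar : CharP (AlgebraicClosure F) p := charP_of_injective_algebraMap (algebraMap F _).injective p
  obtain ⟨hirr, hD⟩ := irr_B hC C hT
  have hamb := amb_U hK W
  have h01 : (⟨((0 : Fin 3) : ℕ) + 1, by norm_num⟩ : Fin 3) = 1 := rfl
  obtain ⟨σ, hσ, N₀, hw⟩ := exists_ndI hp0 C (i := (0 : Fin 3)) (by norm_num) (by rw [h01]; decide)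
  have hv : ∀ t x, ((σ (_root_.Cfsg.Agent.H911.SLTwo.hh t) : (modelSU hK hN W).I) : (Fin N → K) ≃ₗ[K] (Fin N → K)) ((toFrame W).b x) =
      ev (HU hK N) 0 1 t x • (toFrame W).b x := by
    intro t x
    rw [hσ, phiS_b]
    rfl
  have hv0 : ∀ t, ∀ w ∈ (toFrame W).V0, ((σ (_root_.Cfsg.Agent.H911.SLTwo.hh t) : (modelSU hK hN W).I) : (Fin N → K) ≃ₗ[K] (Fin N → K)) w = w := by
    intro t w hw
    rw [hσ, phiS_V0 _ _ hw]
  have hnorm : ∀ t : Kˣ, t ^ (q + 1) = 1 → (t : K) * (HU hK N).σ t = 1 := by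
    intro t ht
    have h1 := congrArg Units.val ht
    rw [Units.val_pow_eq_pow_val, pow_succ, Units.val_one, mul_comm] at h1
    exact h1
  have hm1 : Mono (toFrame W) ((NB hA p0 1 : (modelSU hK hN W).I) : (Fin N → K) ≃ₗ[K] (Fin N → K)) (_root_.Cfsg.Agent.Nodes.TypeC.sg 1) := mono_nn hp0 1
  have hm2 : Mono (toFrame W) ((NB hA p0 2 : (modelSU hK hN W).I) : (Fin N → K) ≃ₗ[K] (Fin N → K)) (_root_.Cfsg.Agent.Nodes.TypeC.sg 2) := mono_nn hp0 2
  have hm : Mono (toFrame W) ((NB hA p0 1 * NB hA p0 2 * NB hA p0 1 : (modelSU hK hN W).I) :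
      (Fin N → K) ≃ₗ[K] (Fin N → K)) (fun x => _root_.Cfsg.Agent.Nodes.TypeC.sg 1 (_root_.Cfsg.Agent.Nodes.TypeC.sg 2 (_root_.Cfsg.Agent.Nodes.TypeC.sg 1 x))) := (hm1.mul hm2).mul hm1
  have hrp : Rp (CoxeterMatrix.B 3).toCoxeterSystem C.rgd.nsys
      ((CoxeterMatrix.B 3).toCoxeterSystem.wordProd (Mid.wl 3)) (NB hA p0 1 * NB hA p0 2 * NB hA p0 1) := by
    have h2 := Mid.rp_gl C.rgd (Mid.wl 3)
    have h3 : Mid.gl (NB hA p0) (Mid.wl 3) = NB hA p0 1 * NB hA p0 2 * NB hA p0 1 := by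
      simp [Mid.gl, Mid.wl, mul_assoc]
    rwa [h3] at h2
  obtain ⟨g, hgd⟩ : ∃ g, g = NB hA p0 1 * NB hA p0 2 * NB hA p0 1 := ⟨_, rfl⟩
  rw [← hgd] at hm hrp
  have key := Mid.mid_bound C.rgd hirr hD h1 ?_
  · rwa [Module.finrank_fintype_fun_eq_card] at key
  · rw [← hgd]
    have h4 := four_le_lrk C.rgd C.hGG hT C.range hC.absIrred N₀ hrp (Mid.hmin 3 0 rfl)
      (Mid.hsep' h1 3 (by simp)) hw hK hF hq (s := 1) (by rw [one_mul]; exact hs) (fun t ht v hvD => by
        have e : g⁻¹ * σ (_root_.Cfsg.Agent.H911.SLTwo.hh t) * g = σ (_root_.Cfsg.Agent.H911.SLTwo.hh t) := by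
          apply Subtype.ext
          refine eq_of_fix hamb (fun x => ?_) (fun w hw => ?_)
          · refine (conj_b (hv t) hm x).trans ?_
            rw [hv, ev_three (hnorm t ht)]
          · refine (conj_V0 hA g.2 (hv0 t) hm
              (ρ := fun x => _root_.Cfsg.Agent.Nodes.TypeC.sg 1 (_root_.Cfsg.Agent.Nodes.TypeC.sg 2 (_root_.Cfsg.Agent.Nodes.TypeC.sg 1 x))) (fun x => ?_) hw).trans (hv0 t w hw).symm
            rw [sg_sg, sg_sg, sg_sg]
        rw [e]
        exact fix_node N₀ h0 _ hvD)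
    rwa [pow_one] at h4

end Cfsg.Agent.H762.Ppd
end

-- part: H762/Ppd/Low
section
/-!
# Types `B_3`, `B_4`: counting with words (helper762, TEAM PPD)

* `b3_mid` : type `B_3`, `1 ∉ J`: `12 dim V^U + 24 dim Io 1 ≤ dim V`;
* `b3_01`, `b3_02`, `b4_03` : two nodes outside `J`.
-/

set_option autoImplicit false
set_option linter.unusedSectionVars false
set_option linter.style.haveILetI false

namespace Cfsg.Agent.H762.Ppd.Low

open CoxeterSystem Cfsg.Agent.ChevalleyStructure.CoxeterGeom Cfsg.Agent.Tits.Roots Cfsg.Agent.Tits.Core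
  Cfsg.Agent.Nodes.Reps Cfsg.Agent.Nodes.BNOf Cfsg.Agent.Nodes.Bruhat Cfsg.Agent.Nodes.TypeC
  Cfsg.Agent.Omega.CR Cfsg.Agent.H905.Md
open Cfsg.Agent.H905.DC (co cf co_wordProd)
open Cfsg.Agent.H650.Ppd (mf dim_ge_list dim_ge_list_two)

/-- the vertices -/
def vl : List (List (Fin 3)) :=
  [[], [1], [1, 0], [1, 2], [1, 0, 2], [1, 2, 1], [1, 0, 2, 1], [1, 2, 1, 0], [1, 0, 2, 1, 0], [1, 0, 2, 1, 2],
    [1, 0, 2, 1, 0, 2], [1, 0, 2, 1, 0, 2, 1]]

/-- the edges -/
def el : List (List (Fin 3)) :=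
  [[], [0], [2], [0, 1], [0, 2], [2, 1], [0, 1, 2], [0, 2, 1], [2, 1, 0], [2, 1, 2], [0, 1, 2, 1], [0, 2, 1, 0],
    [0, 2, 1, 2], [2, 1, 0, 2], [0, 1, 2, 1, 0], [0, 1, 2, 1, 2], [0, 2, 1, 0, 2], [2, 1, 0, 2, 1], [0, 1, 2,
    1, 0, 2], [0, 2, 1, 0, 2, 1], [2, 1, 0, 2, 1, 2], [0, 1, 2, 1, 0, 2, 1], [0, 2, 1, 0, 2, 1, 2], [0, 1, 2,
    1, 0, 2, 1, 2]]

/-- vertices for the nodes `0, 1` -/
def l01 : List (List (Fin 3)) :=
  [[], [0], [1], [0, 1], [1, 0], [1, 2], [0, 1, 0], [0, 1, 2], [1, 0, 2], [1, 2, 1], [0, 1, 0, 2], [0, 1, 2, 1],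
    [1, 0, 2, 1], [1, 2, 1, 0]]

/-- vertices for the nodes `0, 2` -/
def l02 : List (List (Fin 3)) :=
  [[], [0], [2], [0, 1], [0, 2], [2, 1], [0, 1, 2], [0, 2, 1], [2, 1, 0], [2, 1, 2], [0, 1, 2, 1], [0, 2, 1, 0],
    [0, 2, 1, 2], [2, 1, 0, 2]]

/-- vertices for the nodes `0, 3` -/
def l03 : List (List (Fin 4)) :=
  [[], [0], [3], [0, 1], [0, 3], [3, 2], [0, 1, 2], [0, 1, 3], [0, 3, 2], [3, 2, 1], [3, 2, 3], [0, 1, 2, 3],
    [0, 1, 3, 2], [0, 3, 2, 1], [0, 3, 2, 3], [3, 2, 1, 0], [3, 2, 1, 3], [0, 1, 2, 3, 2]]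

theorem vl_nodup : (vl.map (cf (A 3) 1)).Nodup := by decide +kernel

theorem el_nodup : (el.map (mf (A 3) 1)).Nodup := by decide +kernel

theorem l01_nodup : (l01.map fun ω => (cf (A 3) 0 ω, cf (A 3) 1 ω)).Nodup := by decide +kernel

theorem l02_nodup : (l02.map fun ω => (cf (A 3) 0 ω, cf (A 3) 2 ω)).Nodup := by decide +kernel

theorem l03_nodup : (l03.map fun ω => (cf (A 4) 0 ω, cf (A 4) 3 ω)).Nodup := by decide +kernel

variable {W Y : Type*} [Group W] [Group Y] {n : ℕ} {cs : CoxeterSystem (CoxeterMatrix.B n) W} {p : ℕ} {T : Subgroup Y}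
  {nn : Fin n → Y} {X : (Fin n → ℤ) → Subgroup Y} {k V : Type*} [Field k] [AddCommGroup V] [Module k V]
variable (R : RGD cs (isCartan n) p T nn X) [Finite Y] [Finite W] [Fact p.Prime] [CharP k p]
  {ρ : Y →* Module.End k V} [FiniteDimensional k V] [Nontrivial V]
  (hirr : ∀ L : Submodule k V, Ivt ρ (GG cs (isCartan n) T X) L → L = ⊥ ∨ L = ⊤)
include R hirr

theorem b3_mid (hn : n = 3) {i : Fin n} (hi : (i : ℕ) = 1) (h1 : i ∉ Jx cs (isCartan n) X ρ) :
    12 * Module.finrank k (D cs (isCartan n) X ρ) + 24 * Module.finrank k (Io cs (isCartan n) T X ρ i) ≤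
      Module.finrank k V := by
  subst hn
  obtain rfl : i = 1 := Fin.ext hi
  exact dim_ge_list R hirr h1 vl el vl_nodup el_nodup

theorem b3_01 (hn : n = 3) {i j : Fin n} (hi : (i : ℕ) = 0) (hj : (j : ℕ) = 1) (h1 : i ∉ Jx cs (isCartan n) X ρ)
    (h2 : j ∉ Jx cs (isCartan n) X ρ) : 14 * Module.finrank k (D cs (isCartan n) X ρ) ≤ Module.finrank k V := by
  subst hn
  obtain rfl : i = 0 := Fin.ext hi
  obtain rfl : j = 1 := Fin.ext hj
  have := dim_ge_list_two R hirr h1 h2 (by decide) l01 [] [] l01_nodup (by simp) (by simp)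
  simpa only [l01, _root_.ge_iff_le, _root_.Fin.isValue, _root_.List.length_cons, _root_.List.length_nil, _root_.zero_add, _root_.Nat.reduceAdd, _root_.MulZeroClass.zero_mul, _root_.add_zero] using this

theorem b3_02 (hn : n = 3) {i j : Fin n} (hi : (i : ℕ) = 0) (hj : (j : ℕ) = 2) (h1 : i ∉ Jx cs (isCartan n) X ρ)
    (h2 : j ∉ Jx cs (isCartan n) X ρ) : 14 * Module.finrank k (D cs (isCartan n) X ρ) ≤ Module.finrank k V := by
  subst hn
  obtain rfl : i = 0 := Fin.ext hi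
  obtain rfl : j = 2 := Fin.ext hj
  have := dim_ge_list_two R hirr h1 h2 (by decide) l02 [] [] l02_nodup (by simp) (by simp)
  simpa only [l02, _root_.ge_iff_le, _root_.Fin.isValue, _root_.List.length_cons, _root_.List.length_nil, _root_.zero_add, _root_.Nat.reduceAdd, _root_.MulZeroClass.zero_mul, _root_.add_zero] using this

theorem b4_03 (hn : n = 4) {i j : Fin n} (hi : (i : ℕ) = 0) (hj : (j : ℕ) = 3) (h1 : i ∉ Jx cs (isCartan n) X ρ)
    (h2 : j ∉ Jx cs (isCartan n) X ρ) : 18 * Module.finrank k (D cs (isCartan n) X ρ) ≤ Module.finrank k V := by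
  subst hn
  obtain rfl : i = 0 := Fin.ext hi
  obtain rfl : j = 3 := Fin.ext hj
  have := dim_ge_list_two R hirr h1 h2 (by decide) l03 [] [] l03_nodup (by simp) (by simp)
  simpa only [l03, _root_.ge_iff_le, _root_.Fin.isValue, _root_.List.length_cons, _root_.List.length_nil, _root_.zero_add, _root_.Nat.reduceAdd, _root_.MulZeroClass.zero_mul, _root_.add_zero] using this

end Cfsg.Agent.H762.Ppd.Low
end

-- part: H762/Ppd/Bridge
section
/-!
# The covering group `M.I` and the group `SU_N(K)` (helper762, TEAM PPD)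

* `exists_covSU'` : the covering group, with `φ = φ₀ ∘ M.φ`, `φ₀ : SU_N(K) → GL(ι, F)`;
* **`not_mem_witt`** : a node outside `J` for `φ` is outside `J` for `φ₀`.
-/

set_option autoImplicit false
set_option linter.unusedSectionVars false
set_option linter.style.haveILetI false

namespace Cfsg.Agent.H762.Ppd

open CoxeterSystem Cfsg.Agent.ChevalleyStructure.CoxeterGeom Cfsg.Agent.Tits.Roots Cfsg.Agent.Tits.Core
  Cfsg.Agent.Nodes.Reps Cfsg.Agent.Nodes.BNOf Cfsg.Agent.Nodes.Bruhat Cfsg.Agent.Nodes.RGDLib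
open Cfsg.Agent.Nodes Cfsg.Agent.Nodes.WittRoot Cfsg.Agent.Nodes.WittRGD Cfsg.Agent.Nodes.WittAll Cfsg.Agent.Nodes.WittU
open Cfsg.Agent.Nodes.TypeC (isCartan)
open Cfsg.Agent.LieClassical.HermBasic Cfsg.Agent.LieClassical.HermSiegel
open Cfsg.Agent.TitsThree.Siegel Cfsg.Agent.TitsThree.SiegelGen Cfsg.Agent.TitsThree.WittFrame Cfsg.Agent.TitsThree.FrameCN
  Cfsg.Agent.TitsThree.WBridge Cfsg.Agent.TitsThree.KSideU Cfsg.Agent.TitsThree.KSideUDesc Cfsg.Agent.TitsThree
open Cfsg.Agent.H915.LD Cfsg.Agent.H911 Cfsg.Agent.H905.Md Cfsg.Agent.H925.Nat Cfsg.Agent.Nodes.RGDLift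
open Cfsg.Agent.H156.Ppd (Cov lrep exists_cov)
open Cfsg.Agent.Omega.CR Cfsg.Agent.Omega.FOne.Lift.Sd
open Cfsg.Agent.H948.Ppd
open Cfsg.Agent.H61.SUCross Cfsg.Agent.H48.NatSU
open Cfsg Cfsg.Geo
open scoped MatrixGroups Matrix

universe u v w

variable {K : Type} [Field K] [Fintype K] {q N n : ℕ} {hK : Fintype.card K = q ^ 2} {hN : 3 ≤ N} {W : WFrame (PU hK N) n}
  {F : Type u} [Field F] [Finite F] {ι : Type} [Fintype ι] [DecidableEq ι] {P : Subgroup (GL ι F)}
  {p : ℕ} [hp : Fact p.Prime] [hFp : CharP F p] [hKp : CharP K p]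

theorem exists_covSU' (hC : Core P) (h32 : ¬ (N = 3 ∧ q = 2)) (hn : 0 < n)
    {hA : AmbT (toFrame W) p (modelSU hK hN W).I} {p0 : (toFrame W).Adm} (hp0 : p0.c ≠ 0)
    (e : Soc P ≃* PSU N K q) :
    ∃ φ₀ : SU N K q →* GL ι F, φ₀.range = P ∧
      Cov (CoxeterMatrix.B n).toCoxeterSystem (isCartan n) p (TB (modelSU hK hN W)) (NB hA p0)
        (XB (modelSU hK hN W)) P (MonoidHom.id (modelSU hK hN W).I) (φ₀.comp (modelSU hK hN W).φ) (NB hA p0) := by
  have hperf := perfect_I (hN := hN) (W := W) h32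
  have hWf : Finite (CoxeterMatrix.B n).Group := TypeC.finite_W (CoxeterMatrix.B n).toCoxeterSystem
  have := finite_GL (K := K) (ν := Fin N)
  have R := rgdB hA hp0 (CoxeterMatrix.B n).toCoxeterSystem (M := modelSU hK hN W)
  have hG := genB hA hn hperf (CoxeterMatrix.B n).toCoxeterSystem
  obtain ⟨φ, hφ, -, -⟩ := psu_cover p hK hN h32 hC.perfect e
  have hker : (MonoidHom.id (modelSU hK hN W).I).ker = ⊥ := by
    rw [MonoidHom.ker_eq_bot_iff]
    exact fun _ _ h => h
  have h1 : (MonoidHom.id (modelSU hK hN W).I).ker ≤ Subgroup.center _ := by rw [hker]; exact bot_le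
  have h2 : (Nat.card (MonoidHom.id (modelSU hK hN W).I).ker).Coprime p := by
    rw [hker, Subgroup.card_bot]; exact Nat.coprime_one_left _
  obtain ⟨n₁, hn₁, R₁, hG₁⟩ := H905.DC.exists_rgd_lift hperf h1 h2 Function.surjective_id R hG
  obtain rfl : n₁ = NB hA p0 := funext hn₁
  refine ⟨φ, hφ, Function.surjective_id, h1, h2, hn₁, R₁, hG₁, ?_⟩
  rw [MonoidHom.range_comp]
  have h3 : (modelSU hK hN W).φ.range = ⊤ := MonoidHom.range_eq_top.2 (ofRange K q N).surjective
  rw [h3, ← MonoidHom.range_eq_map, hφ]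

theorem not_mem_witt (hC : Core P) {hA : AmbT (toFrame W) p (modelSU hK hN W).I} {p0 : (toFrame W).Adm}
    (hp0 : p0.c ≠ 0) {φ₀ : SU N K q →* GL ι F}
    (C : Cov (CoxeterMatrix.B n).toCoxeterSystem (isCartan n) p (TB (modelSU hK hN W)) (NB hA p0)
        (XB (modelSU hK hN W)) P (MonoidHom.id (modelSU hK hN W).I) (φ₀.comp (modelSU hK hN W).φ) (NB hA p0))
    (hT : ∀ s ∈ (TB (modelSU hK hN W)).comap (MonoidHom.id (modelSU hK hN W).I),
      ∀ t ∈ (TB (modelSU hK hN W)).comap (MonoidHom.id (modelSU hK hN W).I), s * t = t * s)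
    {i : Fin n} (hi : i ∉ JB (modelSU hK hN W) p (MonoidHom.id (modelSU hK hN W).I) (φ₀.comp (modelSU hK hN W).φ)) :
    i ∉ Jx (CoxeterMatrix.B n).toCoxeterSystem (isCartan n) (WittModel.X (modelSU hK hN W)) (lrep φ₀) := by
  have hWf : Finite (CoxeterMatrix.B n).Group := TypeC.finite_W (CoxeterMatrix.B n).toCoxeterSystem
  have := finite_GL (K := K) (ν := Fin N)
  have hne := hC.nonempty
  have R := rgdB hA hp0 (CoxeterMatrix.B n).toCoxeterSystem (M := modelSU hK hN W)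
  intro h
  apply hi
  rw [← jx_iff C.rgd C.hGG hT C.range hC.absIrred]
  intro x hx v hv
  have hPi := R.pgrp' (isRoot_sr (CoxeterMatrix.B n).toCoxeterSystem (isCartan n) i).neg
  have hx1 := ((mem_lft C.ker hPi).1 hx).1
  refine h ((modelSU hK hN W).φ x) ⟨x, hx1, rfl⟩ v ?_
  let S : Subgroup (SU N K q) :=
    { carrier := {u | lrep φ₀ u v = v}
      one_mem' := rho_one _ v
      mul_mem' := by
        intro a b (ha : lrep φ₀ a v = v) (hb : lrep φ₀ b v = v)
        change lrep φ₀ (a * b) v = v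
        rw [rho_mul, hb, ha]
      inv_mem' := by
        intro a (ha : lrep φ₀ a v = v)
        change lrep φ₀ a⁻¹ v = v
        conv_lhs => rw [← ha]
        exact rho_inv_rho _ a v }
  have hS : RGD.Sup (WittModel.X (modelSU hK hN W)) (RGD.Pos (CoxeterMatrix.B n).toCoxeterSystem (isCartan n)) ≤ S := by
    refine RGD.Sup_le fun y hy => ?_
    rintro _ ⟨u, hu, rfl⟩
    have hPy := R.pgrp' hy.1
    obtain ⟨k, hk⟩ := hPy ⟨u, hu⟩
    have h3 : u ∈ lft p (MonoidHom.id (modelSU hK hN W).I) (XB (modelSU hK hN W) y) :=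
      (mem_lft C.ker hPy).2 ⟨hu, k, congrArg Subtype.val hk⟩
    exact hv u (RGD.le_Sup hy h3)
  exact fun u hu => hS hu

end Cfsg.Agent.H762.Ppd
end

-- part: H762/Ppd/Arith
section
/-!
# Arithmetic for the unitary row (helper762, TEAM PPD)

`j ≥ 1`, `r ≥ 3` the rank, `No = 2 r - 1` or `2 r + 1`, `n < 2 j No`.
-/

set_option autoImplicit false

namespace Cfsg.Agent.H762.Ppd.Ar

theorem two_mul_le_pow {j : ℕ} (hj : 1 ≤ j) : 2 * j ≤ 2 ^ j := by
  induction j, hj using Nat.le_induction with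
  | base => norm_num
  | succ j hj ih => rw [pow_succ]; omega

theorem le_pow {d j : ℕ} (h : ∃ m, 2 ≤ m ∧ d = m ^ j) : 2 ^ j ≤ d := by
  obtain ⟨m, hm, rfl⟩ := h
  exact Nat.pow_le_pow_left hm j

/-- the first node -/
theorem first {r j n d ε : ℕ} (hr : 3 ≤ r) (hj : 1 ≤ j) (hn : n < 2 * (j * (2 * r + 1)))
    (hd : ∃ m, 2 ≤ m ∧ d = m ^ j) (hε : d ≤ ε + 2) (h : 2 * r + 2 * r * (r - 1) * ε ≤ n) : j = 1 ∧ d ≤ 2 := by
  have h1 := le_pow hd
  have h2 := two_mul_le_pow hj
  obtain ⟨s, rfl⟩ := Nat.exists_eq_add_of_le hr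
  have h3 : 2 * (3 + s) * 2 * ε ≤ 2 * (3 + s) * (3 + s - 1) * ε :=
    Nat.mul_le_mul_right _ (Nat.mul_le_mul_left _ (by omega))
  have hj1 : j = 1 := by
    by_contra hj1
    have hj2 : 2 ≤ j := by omega
    have h4 : 2 * j - 2 ≤ ε := by omega
    obtain ⟨i, rfl⟩ := Nat.exists_eq_add_of_le hj2
    have h5 : 2 * (3 + s) * 2 * (2 + 2 * i) ≤ 2 * (3 + s) * 2 * ε := Nat.mul_le_mul_left _ (by omega)
    nlinarith only [h, h3, hn, h5]
  subst hj1
  refine ⟨rfl, ?_⟩
  by_contra hd2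
  have h4 : 1 ≤ ε := by omega
  have h5 : 2 * (3 + s) * (3 + s - 1) * 1 ≤ 2 * (3 + s) * (3 + s - 1) * ε := Nat.mul_le_mul_left _ h4
  have h6 : 3 + s - 1 = 2 + s := by omega
  rw [h6] at h5 h
  nlinarith only [h, hn, h5]

theorem le_choose {n k : ℕ} (h1 : 1 ≤ k) (h2 : k < n) : n ≤ n.choose k := by
  induction n generalizing k with
  | zero => omega
  | succ n ih =>
    obtain ⟨k, rfl⟩ := Nat.exists_eq_add_of_le' h1
    rw [Nat.choose_succ_succ, Nat.succ_eq_add_one]
    by_cases h3 : k + 1 = n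
    · rw [h3, Nat.choose_self]
      have : n.choose k = n := by
        rw [← h3, Nat.choose_succ_self_right]
      omega
    · have h4 := ih (k := k + 1) (by omega) (by omega)
      have h5 : 1 ≤ n.choose k := Nat.choose_pos (by omega)
      omega

theorem six_mul_le {n k : ℕ} (hn : 4 ≤ n) (h1 : 2 ≤ k) (h2 : k < n) : 6 * n ≤ n.choose k * 2 ^ k := by
  rcases Nat.lt_or_ge 2 k with h3 | h3
  · have h4 := le_choose (by omega : 1 ≤ k) h2
    have h5 : 2 ^ 3 ≤ 2 ^ k := Nat.pow_le_pow_right (by norm_num) h3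
    calc 6 * n ≤ n * 2 ^ 3 := by omega
      _ ≤ n.choose k * 2 ^ k := Nat.mul_le_mul h4 h5
  · obtain rfl : k = 2 := by omega
    have h4 := Nat.triangle_succ (n - 1)
    have h5 : n - 1 + 1 = n := by omega
    have h6 : n.choose 2 * 2 = n * (n - 1) := by
      rw [Nat.choose_two_right]
      apply Nat.div_mul_cancel
      exact (Nat.even_mul_pred_self n).two_dvd
    have h7 : n * 3 ≤ n * (n - 1) := Nat.mul_le_mul_left _ (by omega)
    have h8 : (2 : ℕ) ^ 2 = 4 := by norm_num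
    rw [h8]
    omega

/-- the nodes `1 ≤ i`, `i + 1 < r`, `r ≥ 4` -/
theorem mid {r j n d i : ℕ} (hr : 4 ≤ r) (hj : 1 ≤ j) (hn : n < 2 * (j * (2 * r + 1)))
    (hd : ∃ m, 2 ≤ m ∧ d = m ^ j) (hi : 1 ≤ i) (hi' : i + 1 < r)
    (h : (r.choose (i + 1) * 2 ^ (i + 1)) * d ≤ 2 * n) : False := by
  have h1 := le_pow hd
  have h2 := two_mul_le_pow hj
  have h3 := six_mul_le hr (by omega : 2 ≤ i + 1) hi'
  have h4 : 6 * r * (2 * j) ≤ 2 * n := (Nat.mul_le_mul h3 (h2.trans h1)).trans h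
  nlinarith only [hr, hn, h4]

/-- `B_3`, the middle node, `N = 6` -/
theorem mid_six {j n d : ℕ} (hj : 1 ≤ j) (hn : n < 2 * (j * 5)) (hd : ∃ m, 2 ≤ m ∧ d = m ^ j)
    (h : 12 * d ≤ 2 * n) : False := by
  have h1 := le_pow hd
  have h2 := two_mul_le_pow hj
  omega

theorem three_le {j : ℕ} (hj : 3 ≤ j) : 8 * j ≤ 3 * 2 ^ j := by
  induction j, hj using Nat.le_induction with
  | base => norm_num
  | succ j hj ih => rw [pow_succ]; omega

/-- `B_3`, the middle node, `N = 7` -/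
theorem mid_seven {j n d ε : ℕ} (hj : 1 ≤ j) (hn : n < 2 * (j * 7)) (hd : ∃ m, 2 ≤ m ∧ d = m ^ j)
    (h : 12 * d ≤ 2 * n) (hε : d ≤ ε + 2) (h' : 12 + 24 * ε ≤ n) : j = 1 := by
  have h1 := le_pow hd
  by_contra hj1
  rcases Nat.lt_or_ge 2 j with h3 | h3
  · have := three_le h3
    omega
  · obtain rfl : j = 2 := by omega
    omega

theorem pow_ge {j : ℕ} (hj : 3 ≤ j) : 14 * j + 4 ≤ 6 * 2 ^ j := by
  induction j, hj using Nat.le_induction with
  | base => norm_num
  | succ j hj ih => rw [pow_succ]; omega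

theorem rank_ge {r : ℕ} (hr : 3 ≤ r) : 4 * r + 2 ≤ 14 * 2 ^ (r - 3) := by
  obtain ⟨s, rfl⟩ := Nat.exists_eq_add_of_le hr
  have h1 : 3 + s - 3 = s := by omega
  rw [h1]
  induction s with
  | zero => norm_num
  | succ s ih => rw [pow_succ]; have := ih (by omega) (by omega); omega

theorem pow_five {r : ℕ} (hr : 5 ≤ r) : 4 * r + 2 ≤ 2 ^ r := by
  induction r, hr using Nat.le_induction with
  | base => norm_num
  | succ r hr ih => rw [pow_succ]; omega

/-- the last node: `X = 4 ^ s ≥ 2 ^ j` -/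
theorem last {r j n s No : ℕ} (hr : 3 ≤ r) (hj : 1 ≤ j) (hNo : No = 2 * r - 1 ∨ No = 2 * r + 1) (hn : n < 2 * (j * No)) (hs : j ≤ 2 * s)
    (h : 2 ^ (r - 3) * (2 + 2 * (3 + 3 * (4 ^ s - 2))) ≤ n) : r = 3 ∧ No = 7 ∧ j = 2 := by
  have h4 : 2 ^ j ≤ 4 ^ s := by
    calc 2 ^ j ≤ 2 ^ (2 * s) := Nat.pow_le_pow_right (by norm_num) hs
      _ = 4 ^ s := by rw [pow_mul]; norm_num
  have h4' : 4 ≤ 4 ^ s := by
    calc 4 = 4 ^ 1 := by norm_num
      _ ≤ 4 ^ s := Nat.pow_le_pow_right (by norm_num) (by omega)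
  have hr' := rank_ge hr
  have hR : 1 ≤ 2 ^ (r - 3) := Nat.one_le_two_pow
  set R := 2 ^ (r - 3) with hRdef
  set X := 4 ^ s with hX
  rcases Nat.lt_or_ge 2 j with h3 | h3
  · exfalso
    have h5 := pow_ge h3
    have h6 : 14 * j ≤ 2 + 2 * (3 + 3 * (X - 2)) := by omega
    have h7 : R * (14 * j) ≤ n := (Nat.mul_le_mul_left _ h6).trans h
    have h8 : j * No ≤ j * (2 * r + 1) := Nat.mul_le_mul_left _ (by omega)
    have h9 : j * (4 * r + 2) ≤ j * (14 * R) := Nat.mul_le_mul_left _ hr'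
    linarith only [hn, h7, h8, h9]
  · have h6 : 20 ≤ 2 + 2 * (3 + 3 * (X - 2)) := by omega
    have h7 : R * 20 ≤ n := (Nat.mul_le_mul_left _ h6).trans h
    rcases Nat.lt_or_ge 1 j with h8 | h8
    · obtain rfl : j = 2 := by omega
      rcases Nat.lt_or_ge 3 r with h9 | h9
      · exfalso
        -- `r ≥ 4`
        have h10 : 2 * r + 1 ≤ 5 * R := by
          rw [hRdef]
          obtain ⟨t, rfl⟩ := Nat.exists_eq_add_of_le h9
          have e : 3 + 1 + t - 3 = t + 1 := by omega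
          rw [e]
          clear * -
          induction t with
          | zero => norm_num
          | succ t ih => rw [pow_succ]; omega
        omega
      · obtain rfl : r = 3 := by omega
        have h10 : R = 1 := by rw [hRdef]; norm_num
        rw [h10] at h7
        refine ⟨rfl, ?_, rfl⟩
        omega
    · obtain rfl : j = 1 := by omega
      exfalso
      omega

end Cfsg.Agent.H762.Ppd.Ar
end

private theorem dce_d0b1829544f9 : _root_.True := by
  try have : _root_.True := by simp only [_root_.Cfsg.Agent.H762.Ppd.Low.l01.eq_1]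
  try have : _root_.True := by simp only [_root_.Cfsg.Agent.H762.Ppd.Low.l02.eq_1]
  try have : _root_.True := by simp only [_root_.Cfsg.Agent.H762.Ppd.Mid.wl.eq_1]
  try have : _root_.True := by simp only [_root_.Cfsg.Agent.H948.Ppd.NB.congr_simp]
  try have : _root_.True := by simp only [_root_.Cfsg.Agent.H762.Ppd.Low.l03.eq_1]
  try have : _root_.True := by simp only [_root_.Cfsg.Agent.H762.Ppd.Spin.Sm.eq_1]
  try have : _root_.True := by simp only [_root_.Cfsg.Agent.H117.Levi.lrk.congr_simp]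
  try have : _root_.True := by simp only [_root_.Cfsg.Agent.H762.Ppd.Mid.gl.eq_1]
  exact _root_.True.intro
end

-- part: H762/Ppd/PsuAux
section
prune_inst 0x31307504356202000018051220003e22aa000092006b8800e1a00a440cc1ed03a8030720be300002018230e45038006811000019421000000a003000011f01a0800310001000a104260089800080000000000000000000000000000000000000000000000
set_option linter.all false
open scoped Cfsg.Agent.FastGrp

-- part: H762/Ppd/Nat
section
/-!
# The natural case of the unitary rows (helper762, TEAM PPD)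

* `conjE` : the automorphism `x ↦ x ^ q` of a field of order `q ^ 2`; `conjE_ne`;
* `span_IU` : the matrices of `SU_N(K)` span the matrix algebra, `N ≥ 3`;
* **`nat_of_ident`** : if `P` is `SU_N(K)` up to an isomorphism of the fields and a change of the basis, then `Nat' P`.
-/

set_option autoImplicit false
set_option linter.unusedSectionVars false
set_option linter.style.haveILetI false

namespace Cfsg.Agent.H762.Ppd

open Cfsg.Agent.LieClassical.HermBasic
open Cfsg.Agent.TitsThree Cfsg.Agent.TitsThree.KSideU Cfsg.Agent.TitsThree.KSideUDesc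
open Cfsg.Agent.H915.LD Cfsg.Agent.H925.Nat
open Cfsg.Agent.H100.Ppd (Nat')
open Cfsg Cfsg.Geo Matrix
open scoped MatrixGroups Matrix

universe u v w

section conj

variable {F : Type u} [Field F] [Fintype F] {q : ℕ} (hF : Fintype.card F = q ^ 2)

/-- the automorphism `x ↦ x ^ q` -/
def conjE : F ≃+* F := RingEquiv.ofRingHom (LieClassical.HermBasic.conj hF) (LieClassical.HermBasic.conj hF)
  (RingHom.ext fun x => by
    change (x ^ q) ^ q = x
    exact pow_q_pow_q hF x)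
  (RingHom.ext fun x => by
    change (x ^ q) ^ q = x
    exact pow_q_pow_q hF x)

theorem conjE_apply (x : F) : conjE hF x = x ^ q := rfl

include hF in
theorem two_le_q : 2 ≤ q := by
  have h1 := Fintype.one_lt_card (α := F)
  rw [hF] at h1
  by_contra h
  have h2 : q = 0 ∨ q = 1 := by omega
  rcases h2 with rfl | rfl <;> simp at h1

theorem conjE_ne : conjE hF ≠ RingEquiv.refl F := by
  intro h
  have hq := two_le_q hF
  have h1 : ∀ x : F, x ^ q = x := fun x => by
    rw [← conjE_apply hF, h]; rfl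
  classical
  have h2 : (Finset.univ : Finset F) ⊆ (Polynomial.X ^ q - Polynomial.X : Polynomial F).roots.toFinset := by
    intro x _
    rw [Multiset.mem_toFinset, Polynomial.mem_roots (FiniteField.X_pow_card_sub_X_ne_zero F (by omega))]
    simp [h1 x]
  have h3 := Finset.card_le_card h2
  rw [Finset.card_univ, hF] at h3
  have h4 := (Polynomial.X ^ q - Polynomial.X : Polynomial F).roots.toFinset_card_le
  have h5 := Polynomial.card_roots' (Polynomial.X ^ q - Polynomial.X : Polynomial F)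
  rw [FiniteField.X_pow_card_sub_X_natDegree_eq F (by omega)] at h5
  have h6 : q * 2 ≤ q ^ 2 := by rw [sq]; exact Nat.mul_le_mul_left _ hq
  omega

end conj

section span

variable {K : Type} [Field K] [Fintype K] {q N : ℕ}

theorem span_IU (hK : Fintype.card K = q ^ 2) (hN : 3 ≤ N) :
    Submodule.span K (Set.range (mt (IU K q N))) = ⊤ := by
  refine span_of_absIrr ?_ (H918.SUg_absIrreducible (n := N) hK hN)
  rintro _ ⟨A, hA, rfl⟩
  obtain ⟨g, rfl⟩ := H918.exists_suHom hA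
  refine ⟨⟨toLin K q N g, g, rfl⟩, ?_⟩
  apply Matrix.toLin'.injective
  refine LinearMap.ext fun v => ?_
  rw [Matrix.toLin'_apply, Matrix.toLin'_apply, mt_mulVec]
  rfl

end span

section main

variable {n : ℕ} {F : Type u} [Field F] [Finite F] {P : Subgroup (GL (Fin n) F)}
  {K : Type} [Field K] [Fintype K] {q N : ℕ}

theorem herm_map (τ : K ≃+* F) (u v : Fin N → K) :
    hermForm N F q (fun i => τ (u i)) (fun i => τ (v i)) = τ (hermForm N K q u v) := by
  unfold hermForm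
  rw [map_sum]
  refine Finset.sum_congr rfl fun i _ => ?_
  rw [map_mul, map_pow]

/-- **The natural case.** -/
theorem nat_of_ident (hK : Fintype.card K = q ^ 2) (τ : K ≃+* F) (θ : (Fin N → F) ≃ₗ[F] (Fin n → F))
    (hθ : ∀ A : GL (Fin n) F, A ∈ P ↔ ∃ g : IU K q N, ∀ v, θ (((mt (IU K q N) g).map (τ : K →+* F)) *ᵥ v) =
      (A : Matrix (Fin n) (Fin n) F) *ᵥ θ v) : Nat' P := by
  have := Fintype.ofFinite F
  have hF : Fintype.card F = q ^ 2 := by rw [← hK]; exact Fintype.card_congr τ.symm.toEquiv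
  have hf := H930.hermForm_isUnitaryFormPow hF N
  right; right; left
  refine ⟨conjE hF, fun u v => hermForm N F q (θ.symm u) (θ.symm v), ⟨conjE_ne hF, fun a => ?_, fun x y v => ?_,
    fun c x v => ?_, fun v w => ?_, ?_⟩, ?_⟩
  · rw [conjE_apply, conjE_apply, pow_q_pow_q hF]
  · change hermForm N F q (θ.symm (x + y)) _ = _
    rw [map_add, hf.add_left]
  · change hermForm N F q (θ.symm (c • x)) _ = _
    rw [map_smul, hf.smul_left]
  · rw [conjE_apply]
    exact hf.herm _ _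
  · intro v hv
    obtain ⟨⟨x, hx⟩, ⟨y, hy⟩⟩ := hf.nondegenerate (θ.symm v) fun h0 => hv ((LinearEquiv.map_eq_zero_iff θ.symm).1 h0)
    refine ⟨⟨θ x, ?_⟩, ⟨θ y, ?_⟩⟩
    · dsimp only
      rw [LinearEquiv.symm_apply_apply]
      exact hx
    · dsimp only
      rw [LinearEquiv.symm_apply_apply]
      exact hy
  · intro A hA hdet
    rw [hθ]
    -- the matrix on `F^N`
    let B : Matrix (Fin N) (Fin N) F := LinearMap.toMatrix'
      ((θ.symm : (Fin n → F) →ₗ[F] (Fin N → F)) ∘ₗ (Matrix.toLin' (A : Matrix (Fin n) (Fin n) F)) ∘ₗ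
        (θ : (Fin N → F) →ₗ[F] (Fin n → F)))
    have hB : ∀ v, B *ᵥ v = θ.symm ((A : Matrix (Fin n) (Fin n) F) *ᵥ θ v) := by
      intro v
      rw [← Matrix.toLin'_apply, Matrix.toLin'_toMatrix']
      rfl
    have hBd : B.det = 1 := by
      have h1 : B.det = LinearMap.det ((θ.symm : (Fin n → F) →ₗ[F] (Fin N → F)) ∘ₗ
          (Matrix.toLin' (A : Matrix (Fin n) (Fin n) F)) ∘ₗ (θ : (Fin N → F) →ₗ[F] (Fin n → F))) :=
        LinearMap.det_toMatrix' _
      have h2 := LinearMap.det_conj (Matrix.toLin' (A : Matrix (Fin n) (Fin n) F)) θ.symm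
      rw [LinearEquiv.symm_symm] at h2
      rw [h1, h2, LinearMap.det_toLin']
      have h3 := congrArg Units.val hdet
      exact h3
    have hBf : ∀ u v, hermForm N F q (B *ᵥ u) (B *ᵥ v) = hermForm N F q u v := by
      intro u v
      have h1 := hA _ (Set.mem_singleton _) (θ u) (θ v)
      simp only [LinearEquiv.symm_apply_apply] at h1
      rw [hB, hB, h1]
    -- the matrix over `K`
    let C : Matrix (Fin N) (Fin N) K := B.map τ.symm
    have hCB : C.map τ = B := by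
      ext i j
      simp [C]
    have hCd : C.det = 1 := by
      have h1 : C.det = τ.symm B.det := by
        have := RingHom.map_det (τ.symm : F →+* K) B
        exact this.symm
      rw [h1, hBd, map_one]
    have hCv : ∀ v : Fin N → K, (fun i => τ ((C *ᵥ v) i)) = B *ᵥ (fun i => τ (v i)) := by
      intro v
      rw [← hCB]
      funext i
      exact RingHom.map_mulVec (τ : K →+* F) C v i
    let g : SU N K q := ⟨⟨C, hCd⟩, fun u v => by
      change hermForm N K q (C *ᵥ u) (C *ᵥ v) = hermForm N K q u v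
      apply τ.injective
      rw [← herm_map τ, ← herm_map τ, hCv, hCv, hBf]⟩
    refine ⟨⟨toLin K q N g, g, rfl⟩, fun v => ?_⟩
    have h1 : mt (IU K q N) ⟨toLin K q N g, g, rfl⟩ = C := by
      apply Matrix.toLin'.injective
      refine LinearMap.ext fun v => ?_
      rw [Matrix.toLin'_apply, Matrix.toLin'_apply, mt_mulVec]
      rfl
    rw [h1]
    have h2 : C.map (τ : K →+* F) = B := hCB
    rw [h2, hB, LinearEquiv.apply_symm_apply]

end main

end Cfsg.Agent.H762.Ppd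
end

-- part: H762/Ppd/PsuAux
section
/-!
# TEAM PPD (S5948): `PSU_N(q₀)`, `N ≥ 6`, in its own characteristic (helper762)

**`nat_psu_aux`** : `Row k m P`, `Soc P ≃ PSU_N(q₀)`, `N ≥ 6`, `char K = char F` imply `Nat' P`, given the bound for `k`
and the bound for `N = 7`, `|F| = q₀`.
-/

set_option autoImplicit false
set_option linter.unusedSectionVars false
set_option linter.style.haveILetI false

namespace Cfsg.Agent.H762.Ppd

open CoxeterSystem Cfsg.Agent.ChevalleyStructure.CoxeterGeom Cfsg.Agent.Tits.Roots Cfsg.Agent.Tits.Core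
  Cfsg.Agent.Nodes.Reps Cfsg.Agent.Nodes.BNOf Cfsg.Agent.Nodes.Bruhat Cfsg.Agent.Nodes.RGDLib
open Cfsg.Agent.Nodes Cfsg.Agent.Nodes.WittRoot Cfsg.Agent.Nodes.WittRGD Cfsg.Agent.Nodes.WittAll Cfsg.Agent.Nodes.WittU
open Cfsg.Agent.Nodes.TypeC (isCartan)
open Cfsg.Agent.LieClassical.HermBasic Cfsg.Agent.LieClassical.HermSiegel
open Cfsg.Agent.TitsThree.Siegel Cfsg.Agent.TitsThree.SiegelGen Cfsg.Agent.TitsThree.WittFrame Cfsg.Agent.TitsThree.FrameCN
  Cfsg.Agent.TitsThree.WBridge Cfsg.Agent.TitsThree.KSideU Cfsg.Agent.TitsThree.KSideUDesc Cfsg.Agent.TitsThree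
open Cfsg.Agent.H915.LD Cfsg.Agent.H911 Cfsg.Agent.H905.Md Cfsg.Agent.H925.Nat Cfsg.Agent.Nodes.RGDLift
open Cfsg.Agent.H156.Ppd (Cov lrep exists_cov)
open Cfsg.Agent.Omega.CR Cfsg.Agent.Omega.FOne.Lift.Sd
open Cfsg.Agent.H948.Ppd
open Cfsg.Agent.H61.SUCross Cfsg.Agent.H48.NatSU
open Cfsg.Agent.H100.Ppd (Row Num Nat')
open Cfsg Cfsg.Geo
open scoped MatrixGroups Matrix

universe u v w

variable {n : ℕ} {F : Type u} [Field F] [Finite F] {k m : ℕ} {P : Subgroup (GL (Fin n) F)}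
  {K : Type} [Field K] [Fintype K] {N q : ℕ} (p : ℕ) [hp : Fact p.Prime] [hFp : CharP F p] [hKp : CharP K p]
include hp hFp hKp

theorem nat_psu_aux (h : Row k m P) (hN : 6 ≤ N) (hK : Fintype.card K = q ^ 2) (e : Soc P ≃* PSU N K q)
    (hkle : ∀ j, 1 ≤ j → Nat.card F ^ j = q ^ 2 → k ≤ j * (2 * ((N - 1) / 2) + 1))
    (hseven : ∀ (hN : 3 ≤ N) (W : WFrame (PU hK N) 3) (d : Fin N → K), N = 7 → hermForm N K q d d = 1 →
      W.V0 = Submodule.span K {d} → ∀ φ₀ : SU N K q →* GL (Fin n) F, φ₀.range = P → Nat.card F ^ 2 = q ^ 2 →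
      (2 : Fin 3) ∉ Jx (CoxeterMatrix.B 3).toCoxeterSystem (isCartan 3) (WittModel.X (modelSU hK hN W)) (lrep φ₀) →
      56 ≤ n) : Nat' P := by
  have hC := h.core
  have hN3 : 3 ≤ N := by omega
  obtain ⟨r, hr⟩ : ∃ r, N = 2 * r ∨ N = 2 * r + 1 := ⟨N / 2, by omega⟩
  have hr3 : 3 ≤ r := by omega
  have hNo : 2 * ((N - 1) / 2) + 1 = 2 * r - 1 ∨ 2 * ((N - 1) / 2) + 1 = 2 * r + 1 := by omega
  obtain ⟨W, hW, hW'⟩ : ∃ W : WFrame (PU hK N) r, Kind W ∧
      (N = 2 * r + 1 → ∃ d : Fin N → K, hermForm N K q d d = 1 ∧ W.V0 = Submodule.span K {d}) := by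
    rcases hr with hr | hr
    · obtain ⟨W, hW⟩ := exists_wframe_even hK hr
      exact ⟨W, Or.inl hW, fun h => by omega⟩
    · obtain ⟨W, d, hd, hW⟩ := exists_wframe_odd hK hr
      exact ⟨W, Or.inr ⟨d, hd, hW⟩, fun _ => ⟨d, hd, hW⟩⟩
  have hWf : Finite (CoxeterMatrix.B r).Group := TypeC.finite_W (CoxeterMatrix.B r).toCoxeterSystem
  have := finite_GL (K := K) (ν := Fin N)
  obtain ⟨p0, hp0, -⟩ := exists_adm hK W
  have hA : AmbT (toFrame W) p (modelSU hK hN3 W).I := AmbT.of_amb (amb_U hK W) p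
  obtain ⟨φ₀, hφ₀, C⟩ := exists_covSU' (hN := hN3) (W := W) hC (by omega) (by omega) (hA := hA) hp0 e
  have hT : ∀ s ∈ (TB (modelSU hK hN3 W)).comap (MonoidHom.id (modelSU hK hN3 W).I),
      ∀ t ∈ (TB (modelSU hK hN3 W)).comap (MonoidHom.id (modelSU hK hN3 W).I), s * t = t * s :=
    fun s hs t ht => comm_SU hW s hs t ht
  have hpow : ∀ t ∈ (TB (modelSU hK hN3 W)).comap (MonoidHom.id (modelSU hK hN3 W).I), t ^ Nat.card K = t :=
    fun t ht => pow_SU hW t ht
  -- the order of the field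
  obtain ⟨c, -, hc⟩ := FiniteField.card K p
  rw [← Nat.card_eq_fintype_card] at hc
  obtain ⟨j, hj, hjK⟩ := C.exists_j hC hT (a := c) c.ne_zero (by rw [← hc]; exact hpow)
  rw [← hc] at hjK
  have hjq : Nat.card F ^ j = q ^ 2 := by rw [hjK, Nat.card_eq_fintype_card, hK]
  have hk := hkle j hj hjq
  have hnlt : n < 2 * (j * (2 * ((N - 1) / 2) + 1)) := by
    have := h.num.nlt
    omega
  have hnlt' : n < 2 * (j * (2 * r + 1)) := by
    refine hnlt.trans_le (Nat.mul_le_mul_left _ (Nat.mul_le_mul_left _ (by omega)))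
  obtain ⟨hirr, hD⟩ := irr_B hC C hT
  have hne := hC.nonempty
  have hchar : CharP (AlgebraicClosure F) p := charP_of_injective_algebraMap (algebraMap F _).injective p
  -- the edges
  have hedge : ∀ i : Fin r, (i : ℕ) + 1 < r →
      i ∉ JB (modelSU hK hN3 W) p (MonoidHom.id (modelSU hK hN3 W).I) (φ₀.comp (modelSU hK hN3 W).φ) →
      ∃ m, 2 ≤ m ∧ dB (modelSU hK hN3 W) p (MonoidHom.id (modelSU hK hN3 W).I) (φ₀.comp (modelSU hK hN3 W).φ) i = m ^ j := by
    intro i hi hiJ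
    obtain ⟨σ, -, N₁, -⟩ := exists_ndI hp0 C hi (by
      intro e
      have := congrArg Fin.val e
      simp only at this
      omega)
    exact edge_pow_B hC C hT hiJ (⟨N₁.up, N₁.lo, N₁.tor⟩ : Nd _ _ i σ) hjK.symm
  by_cases hmid : ∃ i : Fin r, i ∉ JB (modelSU hK hN3 W) p (MonoidHom.id (modelSU hK hN3 W).I)
      (φ₀.comp (modelSU hK hN3 W).φ) ∧ 1 ≤ (i : ℕ) ∧ (i : ℕ) + 1 < r
  · exfalso
    obtain ⟨i, hi, hi1, hi2⟩ := hmid
    have hd := hedge i hi2 hi
    have hb := bound_all hC C hT hi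
    rw [Fintype.card_fin] at hb
    rcases Nat.lt_or_ge 3 r with hr4 | hr4
    · exact Ar.mid hr4 hj hnlt' hd hi1 hi2 hb
    · obtain rfl : r = 3 := by omega
      have hi1' : (i : ℕ) = 1 := by omega
      rw [hi1'] at hb
      have hb' : 12 * dB (modelSU hK hN3 W) p (MonoidHom.id (modelSU hK hN3 W).I) (φ₀.comp (modelSU hK hN3 W).φ) i ≤
          2 * n := by
        have e1 : Nat.choose 3 (1 + 1) * 2 ^ (1 + 1) = 12 := by decide
        rwa [e1] at hb
      rcases hr with hr | hr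
      · have e2 : 2 * ((N - 1) / 2) + 1 = 5 := by omega
        rw [e2] at hnlt
        exact Ar.mid_six hj hnlt hd hb'
      · have e2 : 2 * ((N - 1) / 2) + 1 = 7 := by omega
        rw [e2] at hnlt
        have h3 := Low.b3_mid C.rgd hirr rfl hi1' hi
        have h4 := finrank_Io C.rgd hirr i
        rw [hD, Module.finrank_fintype_fun_eq_card, Fintype.card_fin, mul_one] at h3
        rw [hD] at h4
        have hj1 := Ar.mid_seven hj hnlt hd hb' h4 h3
        subst hj1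
        by_cases h0 : (0 : Fin 3) ∈ JB (modelSU hK hN3 W) p (MonoidHom.id (modelSU hK hN3 W).I)
          (φ₀.comp (modelSU hK hN3 W).φ)
        · obtain rfl : i = 1 := Fin.ext hi1'
          obtain ⟨p', f, hp', hch, hqf, hf⟩ := LieClassical.HermBasic.exists_prime_pow hK
          obtain rfl : p' = p := CharP.eq K hch ‹_›
          have hF : Nat.card F = p' ^ (2 * f) := by
            rw [← pow_one (Nat.card F), hjq, hqf, ← pow_mul, mul_comm]
          have h5 := mid_bound_su hC hp0 C hT hi h0 hF hqf (Nat.gcd_eq_right (Dvd.intro_left 2 rfl))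
          rw [Fintype.card_fin] at h5
          omega
        · have h5 := Low.b3_01 C.rgd hirr rfl (i := 0) (j := i) rfl hi1' h0 hi
          rw [hD, Module.finrank_fintype_fun_eq_card, Fintype.card_fin] at h5
          omega
  have hends : ∀ i : Fin r, i ∉ JB (modelSU hK hN3 W) p (MonoidHom.id (modelSU hK hN3 W).I)
      (φ₀.comp (modelSU hK hN3 W).φ) → (i : ℕ) = 0 ∨ (i : ℕ) + 1 = r := by
    intro i hi
    by_contra hcon
    have := i.2
    exact hmid ⟨i, hi, by omega, by omega⟩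
  by_cases h0 : (⟨0, by omega⟩ : Fin r) ∈ JB (modelSU hK hN3 W) p (MonoidHom.id (modelSU hK hN3 W).I)
      (φ₀.comp (modelSU hK hN3 W).φ)
  · -- the last node
    exfalso
    have hJ : ∀ i, i ∉ JB (modelSU hK hN3 W) p (MonoidHom.id (modelSU hK hN3 W).I)
        (φ₀.comp (modelSU hK hN3 W).φ) → i = ⟨r - 1, by omega⟩ := by
      intro i hi
      rcases hends i hi with h1 | h1
      · exact absurd h0 (by
          have : i = ⟨0, by omega⟩ := Fin.ext h1
          rwa [this] at hi)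
      · exact Fin.ext (by simp only; omega)
    obtain ⟨i, hi⟩ := exists_node hC C hT
    have hi' := hJ i hi
    rw [hi'] at hi
    obtain ⟨p', f, hp', hch, hqf, hf⟩ := LieClassical.HermBasic.exists_prime_pow hK
    obtain rfl : p' = p := CharP.eq K hch ‹_›
    have := Fintype.ofFinite F
    obtain ⟨a, -, ha⟩ := FiniteField.card F p'
    rw [← Nat.card_eq_fintype_card] at ha
    have hs : f / Nat.gcd a f * Nat.gcd a f = f := Nat.div_mul_cancel (Nat.gcd_dvd_right _ _)
    set s := f / Nat.gcd a f with hsdef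
    have haj : (a : ℕ) * j = 2 * f := by
      have h1 : p' ^ ((a : ℕ) * j) = p' ^ (2 * f) := by
        rw [pow_mul, ← ha, hjq, hqf, ← pow_mul, mul_comm]
      exact Nat.pow_right_injective hp'.two_le h1
    have hjs : j ≤ 2 * s := by
      have h1 : Nat.gcd a f ≤ a := Nat.gcd_le_left _ a.pos
      have h2 : (a : ℕ) * j ≤ a * (2 * s) := by
        rw [haj]
        calc 2 * f = 2 * (s * Nat.gcd a f) := by rw [hs]
          _ ≤ 2 * (s * a) := Nat.mul_le_mul_left _ (Nat.mul_le_mul_left _ h1)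
          _ = a * (2 * s) := by ring
      exact Nat.le_of_mul_le_mul_left h2 a.pos
    have h5 := last_bound hC hp0 C hT hr3 (by simp only; omega) hi hJ ha hqf hs
    rw [Fintype.card_fin] at h5
    obtain ⟨h6, h7, h8⟩ := Ar.last hr3 hj hNo hnlt hjs h5
    subst h6
    obtain ⟨d, hd, hV0⟩ := hW' (by omega)
    have h9 := hseven hN3 W d (by omega) hd hV0 φ₀ hφ₀ (by rw [h8] at hjq; exact hjq) (not_mem_witt hC hp0 C hT hi)
    rw [h7, h8] at hnlt
    omega
  · -- the first node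
    obtain ⟨ε, hε, h3⟩ := bound_first hC C hT (by omega) rfl h0
    rw [Fintype.card_fin] at h3
    obtain ⟨hj1, hd2⟩ := Ar.first hr3 hj hnlt' (hedge _ (by simp only; omega) h0) hε h3
    subst hj1
    by_cases hl : (⟨r - 1, by omega⟩ : Fin r) ∈ JB (modelSU hK hN3 W) p (MonoidHom.id (modelSU hK hN3 W).I)
      (φ₀.comp (modelSU hK hN3 W).φ)
    · obtain ⟨τ, θ, hθ⟩ := identify_B hC hA hp0 (by omega) (span_IU hK hN3) C hT (o := ⟨0, by omega⟩) rfl
        (fun i hi => by
          rcases hends i hi with h1 | h1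
          · exact Fin.ext h1
          · exact absurd hl (by
              have : i = ⟨r - 1, by omega⟩ := Fin.ext (by simp only; omega)
              rwa [this] at hi)) hd2
      exact nat_of_ident hK τ θ hθ
    · exfalso
      rcases Nat.lt_or_ge 4 r with hr5 | hr5
      · obtain ⟨ε', -, h4⟩ := bound_last hC C hT (i := ⟨r - 1, by omega⟩) (by simp only; omega) hl
        rw [Fintype.card_fin] at h4
        have h5 := Ar.pow_five hr5
        omega
      · rcases Nat.lt_or_ge 3 r with hr4 | hr4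
        · obtain rfl : r = 4 := by omega
          have h5 := Low.b4_03 C.rgd hirr rfl (i := ⟨0, by omega⟩) (j := ⟨4 - 1, by omega⟩) rfl rfl h0 hl
          rw [hD, Module.finrank_fintype_fun_eq_card, Fintype.card_fin] at h5
          omega
        · obtain rfl : r = 3 := by omega
          have h5 := Low.b3_02 C.rgd hirr rfl (i := ⟨0, by omega⟩) (j := ⟨3 - 1, by omega⟩) rfl rfl h0 hl
          rw [hD, Module.finrank_fintype_fun_eq_card, Fintype.card_fin] at h5
          omega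

end Cfsg.Agent.H762.Ppd
end
end

-- part: H156/Ppd/DMain
section
prune_inst 0x11300140156202000000059223000024280004020040080091a00d02080652228d42200148001c10080a00800800002000100080000000000a00000000050120800840000300010426008f803082000000000000000000000000000000041004000000000
set_option linter.all false
open scoped Cfsg.Agent.FastGrp

-- part: H156/Ppd/DSg
section
/-!
# The Weyl group of type `D_{n+2}` as signed permutations (helper156, TEAM PPD)

* `Act w π` : `w` acts on the signed indices as `π`;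
* `exists_perm`, `exists_flip` : permutations, sign changes (up to the sign of one index);
* `exists_two` : transitivity on pairs of signed indices;
* `Cc i k`, `sep` : cosets of `W_J`, `i ∉ J`, are separated by `± Cc i`.
-/

set_option autoImplicit false
set_option linter.unusedSectionVars false
set_option linter.unusedSimpArgs false

namespace Cfsg.Agent.H156.Ppd.DSg

open CoxeterSystem Cfsg.Agent.ChevalleyStructure.CoxeterGeom Cfsg.Agent.Tits.Roots Cfsg.Agent.Tits.Core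
  Cfsg.Agent.Nodes.TypeD Cfsg.Agent.H905.Md
open Cfsg.Agent.Nodes.TypeC (wt ng wt_apply wt_ng ng_ng ng_fst ng_snd wt_injective)

variable {n : ℕ}

/-- the linear extension of a map of signed indices -/
def Lp (π : Fin (n + 2) × Bool → Fin (n + 2) × Bool) (u : Fin (n + 2) → ℤ) : Fin (n + 2) → ℤ :=
  ∑ k, u k • wt (π (k, true))

theorem Lp_add (π : Fin (n + 2) × Bool → Fin (n + 2) × Bool) (u v : Fin (n + 2) → ℤ) :
    Lp π (u + v) = Lp π u + Lp π v := by
  simp only [Lp, Pi.add_apply, add_smul, Finset.sum_add_distrib]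

theorem Lp_smul (π : Fin (n + 2) × Bool → Fin (n + 2) × Bool) (c : ℤ) (u : Fin (n + 2) → ℤ) :
    Lp π (c • u) = c • Lp π u := by
  simp only [Lp, Pi.smul_apply, smul_eq_mul, mul_smul, Finset.smul_sum]

theorem Lp_sum (π : Fin (n + 2) × Bool → Fin (n + 2) × Bool) (f : Fin (n + 2) → Fin (n + 2) → ℤ) :
    Lp π (∑ k, f k) = ∑ k, Lp π (f k) := by
  simp only [Lp, Finset.sum_apply, Finset.sum_smul]
  exact Finset.sum_comm

theorem Lp_wt {π : Fin (n + 2) × Bool → Fin (n + 2) × Bool} (hπ : ∀ x, π (ng x) = ng (π x))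
    (y : Fin (n + 2) × Bool) : Lp π (wt y) = wt (π y) := by
  obtain ⟨j, s⟩ := y
  unfold Lp
  rw [Finset.sum_eq_single j]
  · rw [wt_apply, if_pos rfl]
    cases s
    · have h1 : ((j, false) : Fin (n + 2) × Bool) = ng (j, true) := rfl
      rw [h1, hπ, wt_ng]
      simp
    · simp
  · intro k _ hk
    rw [wt_apply, if_neg hk, zero_smul]
  · intro h
    exact absurd (Finset.mem_univ j) h

theorem Lp_id (u : Fin (n + 2) → ℤ) : Lp id u = u := by
  funext m
  unfold Lp
  rw [Finset.sum_apply, Finset.sum_eq_single m]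
  · simp [wt_apply]
  · intro k _ hk
    simp [wt_apply, Ne.symm hk]
  · intro h
    exact absurd (Finset.mem_univ m) h

section

variable {W : Type*} [Group W] (cs : CoxeterSystem (M n) W)

/-- `w` acts on the signed indices as `π` -/
def Act (w : W) (π : Equiv.Perm (Fin (n + 2) × Bool)) : Prop :=
  (∀ x, π (ng x) = ng (π x)) ∧ ∀ x : Fin (n + 2) → ℤ, ee (rep cs (isCartan n) w x) = Lp π (ee x)

variable {cs}

theorem Act.one : Act cs 1 1 :=
  ⟨fun _ => rfl, fun x => by rw [map_one, Module.End.one_apply]; exact (Lp_id _).symm⟩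

theorem Lp_Lp {π ρ : Fin (n + 2) × Bool → Fin (n + 2) × Bool} (hπ : ∀ x, π (ng x) = ng (π x)) (u : Fin (n + 2) → ℤ) :
    Lp π (Lp ρ u) = Lp (π ∘ ρ) u := by
  conv_lhs => unfold Lp
  change Lp π (∑ k, u k • wt (ρ (k, true))) = _
  rw [Lp_sum]
  unfold Lp
  refine Finset.sum_congr rfl fun k _ => ?_
  change Lp π (u k • wt (ρ (k, true))) = _
  rw [Lp_smul, Lp_wt hπ]
  rfl

theorem Act.mul {v w : W} {π ρ : Equiv.Perm (Fin (n + 2) × Bool)} (hv : Act cs v π) (hw : Act cs w ρ) :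
    Act cs (v * w) (π * ρ) := by
  refine ⟨fun x => ?_, fun x => ?_⟩
  · rw [Equiv.Perm.mul_apply, Equiv.Perm.mul_apply, hw.1, hv.1]
  · rw [rep_mul_apply, hv.2, hw.2, Lp_Lp hv.1]
    rfl

theorem Act.inv {w : W} {π : Equiv.Perm (Fin (n + 2) × Bool)} (hw : Act cs w π) : Act cs w⁻¹ π⁻¹ := by
  have h1 : ∀ x, π⁻¹ (ng x) = ng (π⁻¹ x) := by
    intro x
    apply π.injective
    rw [hw.1]
    simp
  refine ⟨h1, fun x => ?_⟩
  have h2 : ee x = Lp π (ee (rep cs (isCartan n) w⁻¹ x)) := by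
    rw [← hw.2, rep_apply_inv]
  rw [h2, Lp_Lp h1]
  have h3 : (⇑π⁻¹ ∘ ⇑π : Fin (n + 2) × Bool → Fin (n + 2) × Bool) = id := by
    funext x
    simp
  rw [h3, Lp_id]

/-- the simple reflections -/
def sgE (i : Fin (n + 2)) : Equiv.Perm (Fin (n + 2) × Bool) := (show Function.Involutive (sg i) from sg_sg i).toPerm

theorem sgE_apply (i : Fin (n + 2)) (x : Fin (n + 2) × Bool) : sgE i x = sg i x := rfl

theorem act_simple (i : Fin (n + 2)) : Act cs (cs.simple i) (sgE i) := by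
  refine ⟨fun x => sg_ng i x, fun x => ?_⟩
  rw [rep_simple, ee_refl]
  have h1 : Lp (sgE i) (ee x) = ∑ k, ee x k • (wt (k, true) - Cf i (wt (k, true)) • bt i) := by
    unfold Lp
    refine Finset.sum_congr rfl fun k _ => ?_
    rw [sgE_apply, wt_sg]
  have h2 : ee x = ∑ k, ee x k • wt (k, true) := (Lp_id (ee x)).symm
  rw [h1]
  simp only [smul_sub, Finset.sum_sub_distrib, smul_smul, ← Finset.sum_smul]
  rw [← h2]
  congr 2
  conv_lhs => rw [h2]
  rw [Cf_sum]
  exact Finset.sum_congr rfl fun k _ => by rw [Cf_smul]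

/-! ### permutations -/

/-- a permutation of the indices -/
def pe (σ : Equiv.Perm (Fin (n + 2))) : Equiv.Perm (Fin (n + 2) × Bool) := Equiv.prodCongr σ (Equiv.refl Bool)

theorem pe_apply (σ : Equiv.Perm (Fin (n + 2))) (x : Fin (n + 2) × Bool) : pe σ x = (σ x.1, x.2) := rfl

theorem exists_perm (σ : Equiv.Perm (Fin (n + 2))) : ∃ w : W, Act cs w (pe σ) := by
  have h1 : σ ∈ Submonoid.closure (Set.range fun i : Fin (n + 1) => Equiv.swap i.castSucc i.succ) := by
    rw [Equiv.Perm.mclosure_swap_castSucc_succ]; trivial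
  induction h1 using Submonoid.closure_induction with
  | mem x hx =>
    obtain ⟨i, rfl⟩ := hx
    refine ⟨cs.simple i.castSucc, ?_⟩
    have h2 : pe (Equiv.swap i.castSucc i.succ) = sgE i.castSucc := by
      ext1 x
      rw [pe_apply, sgE_apply]
      obtain ⟨k, s⟩ := x
      have hi := i.2
      have h3 : ((i.castSucc : Fin (n + 2)) : ℕ) + 1 < n + 2 := by
        simp only [Fin.val_castSucc]; omega
      unfold sg
      rw [dif_pos h3]
      have h4 : (⟨(i.castSucc : Fin (n + 2)) + 1, h3⟩ : Fin (n + 2)) = i.succ := by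
        ext; simp
      simp only [h4, Equiv.swap_apply_def]
      split_ifs <;> rfl
    rw [h2]
    exact act_simple _
  | one =>
    exact ⟨1, by
      have : pe (1 : Equiv.Perm (Fin (n + 2))) = 1 := by ext1 x; rfl
      rw [this]; exact Act.one⟩
  | mul x y _ _ hx hy =>
    obtain ⟨w, hw⟩ := hx
    obtain ⟨w', hw'⟩ := hy
    exact ⟨_, by
      have : pe (x * y) = pe x * pe y := by ext1 x; rfl
      rw [this]; exact hw.mul hw'⟩

/-! ### sign changes -/

/-- the sign change on `B` -/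
def fl (B : Finset (Fin (n + 2))) : Equiv.Perm (Fin (n + 2) × Bool) :=
  (show Function.Involutive (fun x : Fin (n + 2) × Bool => (x.1, xor x.2 (decide (x.1 ∈ B)))) from fun x => by
    simp).toPerm

theorem fl_apply (B : Finset (Fin (n + 2))) (x : Fin (n + 2) × Bool) : fl B x = (x.1, xor x.2 (decide (x.1 ∈ B))) := rfl

theorem fl_inv (B : Finset (Fin (n + 2))) : (fl B)⁻¹ = fl B := by
  rw [inv_eq_iff_mul_eq_one]
  ext1 x
  rw [Equiv.Perm.mul_apply, fl_apply, fl_apply]
  simp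

theorem fl_mul (B B' : Finset (Fin (n + 2))) : fl B * fl B' = fl (symmDiff B B') := by
  ext1 x
  rw [Equiv.Perm.mul_apply, fl_apply, fl_apply, fl_apply]
  simp only [Finset.mem_symmDiff]
  by_cases h1 : x.1 ∈ B <;> by_cases h2 : x.1 ∈ B' <;> simp [h1, h2]

theorem exists_flip_pair {a b : Fin (n + 2)} (hab : a ≠ b) : ∃ w : W, Act cs w (fl {a, b}) := by
  have hne : (pd n : Fin (n + 2)) ≠ Fin.last (n + 1) := by
    intro h
    have := congrArg Fin.val h
    simp [pd] at this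
  obtain ⟨σ, h1, h2⟩ := exists_perm_pair hne hab
  obtain ⟨w, hw⟩ := exists_perm (cs := cs) σ
  have h3 : Act cs (w * (cs.simple (Fin.last (n + 1)) * cs.simple (pd n)) * w⁻¹)
      (pe σ * (sgE (Fin.last (n + 1)) * sgE (pd n)) * (pe σ)⁻¹) :=
    (hw.mul ((act_simple _).mul (act_simple _))).mul hw.inv
  have h4 : fl {a, b} = pe σ * (sgE (Fin.last (n + 1)) * sgE (pd n)) * (pe σ)⁻¹ := by
    rw [eq_mul_inv_iff_mul_eq]
    ext1 x
    obtain ⟨k, s⟩ := x
    rw [Equiv.Perm.mul_apply, Equiv.Perm.mul_apply, Equiv.Perm.mul_apply, pe_apply, fl_apply, sgE_apply, sgE_apply,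
      pe_apply]
    have h5 : sg (Fin.last (n + 1)) (sg (pd n) (k, s)) =
        (k, xor s (decide (k = pd n ∨ k = Fin.last (n + 1)))) := by
      have hp : ((pd n : Fin (n + 2)) : ℕ) + 1 < n + 2 := by simp [pd]
      have hl : ¬ ((Fin.last (n + 1) : Fin (n + 2)) : ℕ) + 1 < n + 2 := by simp
      have hpl : (⟨((pd n : Fin (n + 2)) : ℕ) + 1, hp⟩ : Fin (n + 2)) = Fin.last (n + 1) := by
        ext; simp [pd]
      unfold sg
      rw [dif_pos hp, dif_neg hl]
      simp only [hpl]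
      by_cases hk1 : k = pd n
      · subst hk1
        simp
      · by_cases hk2 : k = Fin.last (n + 1)
        · subst hk2
          simp [hne, Ne.symm hne]
        · simp [hk1, hk2]
    rw [h5]
    simp only
    congr 2
    rw [decide_eq_decide, Finset.mem_insert, Finset.mem_singleton, ← h1, ← h2, σ.injective.eq_iff, σ.injective.eq_iff]
  rw [← h4] at h3
  exact ⟨_, h3⟩

/-- sign changes, up to the sign of the index `z` -/
theorem exists_flip (z : Fin (n + 2)) (B' : Finset (Fin (n + 2))) :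
    ∃ (w : W) (B : Finset (Fin (n + 2))), Act cs w (fl B) ∧ ∀ b, b ≠ z → (b ∈ B ↔ b ∈ B') := by
  classical
  induction B' using Finset.induction_on with
  | empty => exact ⟨1, ∅, by
      have : fl (∅ : Finset (Fin (n + 2))) = 1 := by ext1 x; rw [fl_apply]; simp
      rw [this]; exact Act.one, fun b _ => Iff.rfl⟩
  | insert a S ha ih =>
    obtain ⟨w, B, hw, hB⟩ := ih
    by_cases haz : a = z
    · refine ⟨w, B, hw, fun b hb => ?_⟩
      rw [hB b hb, Finset.mem_insert, haz]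
      simp [hb]
    · obtain ⟨w', hw'⟩ := exists_flip_pair (cs := cs) haz
      refine ⟨w' * w, symmDiff {a, z} B, ?_, fun b hb => ?_⟩
      · rw [← fl_mul]
        exact hw'.mul hw
      · rw [Finset.mem_symmDiff, hB b hb, Finset.mem_insert, Finset.mem_singleton, Finset.mem_insert]
        by_cases hba : b = a
        · subst hba
          simp [ha]
        · simp [hba, hb]

/-- transitivity on pairs of signed indices -/
theorem exists_two (hn : 1 ≤ n) {x y : Fin (n + 2) × Bool} (hxy : x.1 ≠ y.1) :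
    ∃ (w : W) (π : Equiv.Perm (Fin (n + 2) × Bool)), Act cs w π ∧ π (0, true) = x ∧ π (1, true) = y := by
  classical
  have h01 : (0 : Fin (n + 2)) ≠ 1 := by
    intro h
    have := congrArg Fin.val h
    simp at this
  obtain ⟨σ, h1, h2⟩ := exists_perm_pair h01 hxy
  obtain ⟨w, hw⟩ := exists_perm (cs := cs) σ
  obtain ⟨z, hz⟩ : ∃ z : Fin (n + 2), z ∉ ({x.1, y.1} : Finset (Fin (n + 2))) := by
    by_contra hcon
    push Not at hcon
    have h3 : (Finset.univ : Finset (Fin (n + 2))) ⊆ {x.1, y.1} := fun z _ => hcon z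
    have h4 := Finset.card_le_card h3
    have h5 := Finset.card_le_two (a := x.1) (b := y.1)
    rw [Finset.card_univ, Fintype.card_fin] at h4
    omega
  rw [Finset.mem_insert, Finset.mem_singleton, not_or] at hz
  obtain ⟨w', B, hw', hB⟩ := exists_flip (cs := cs) z
    ((if x.2 then ∅ else {x.1}) ∪ (if y.2 then ∅ else {y.1}))
  refine ⟨w' * w, fl B * pe σ, hw'.mul hw, ?_, ?_⟩
  · rw [Equiv.Perm.mul_apply, pe_apply, fl_apply]
    simp only [h1]
    have h3 := hB x.1 (Ne.symm hz.1)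
    have h4 : x.1 ∈ ((if x.2 then ∅ else {x.1}) ∪ (if y.2 then ∅ else {y.1}) : Finset (Fin (n + 2))) ↔ x.2 = false := by
      obtain ⟨a, s⟩ := x
      obtain ⟨b, t⟩ := y
      cases s <;> cases t <;> simp_all only [_root_.ne_eq, _root_.zero_ne_one, _root_.not_false_eq_true, _root_.Bool.false_eq_true, ↓ _root_.reduceIte, _root_.Finset.singleton_union, _root_.Finset.mem_insert, _root_.Finset.mem_singleton, _root_.or_false, _root_.iff_true, _root_.Finset.union_empty, _root_.Finset.empty_union, _root_.iff_false, _root_.Bool.true_eq_false, _root_.Finset.union_idempotent, _root_.Finset.notMem_empty]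
    rw [h4] at h3
    obtain ⟨a, s⟩ := x
    cases s <;> simp_all only [_root_.ne_eq, _root_.zero_ne_one, _root_.not_false_eq_true, _root_.Bool.false_eq_true, ↓ _root_.reduceIte, _root_.Finset.singleton_union, _root_.Finset.mem_insert, _root_.iff_true, _root_.true_or, _root_.decide_true, _root_.bne_self_eq_false, _root_.Finset.empty_union, _root_.Bool.true_eq_false, _root_.iff_false, _root_.decide_false, _root_.Bool.bne_false]
  · rw [Equiv.Perm.mul_apply, pe_apply, fl_apply]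
    simp only [h2]
    have h3 := hB y.1 (Ne.symm hz.2)
    have h4 : y.1 ∈ ((if x.2 then ∅ else {x.1}) ∪ (if y.2 then ∅ else {y.1}) : Finset (Fin (n + 2))) ↔ y.2 = false := by
      obtain ⟨a, s⟩ := x
      obtain ⟨b, t⟩ := y
      cases s <;> cases t <;> simp_all only [eq_comm, _root_.ne_eq, _root_.zero_ne_one, _root_.not_false_eq_true, _root_.eq_comm, _root_.EmbeddingLike.apply_eq_iff_eq, _root_.Bool.false_eq_true, ↓ _root_.reduceIte, _root_.Finset.singleton_union, _root_.Finset.mem_insert, _root_.Finset.mem_singleton, _root_.or_true, _root_.Finset.union_empty, _root_.Finset.empty_union, _root_.Finset.union_idempotent, _root_.Finset.notMem_empty, _root_.iff_false]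
    rw [h4] at h3
    obtain ⟨a, s⟩ := y
    cases s <;> simp_all only [_root_.ne_eq, _root_.zero_ne_one, _root_.not_false_eq_true, _root_.Bool.false_eq_true, ↓ _root_.reduceIte, _root_.Finset.union_singleton, _root_.Finset.mem_insert, _root_.iff_true, _root_.true_or, _root_.decide_true, _root_.bne_self_eq_false, _root_.Finset.union_empty, _root_.Bool.true_eq_false, _root_.iff_false, _root_.decide_false, _root_.Bool.bne_false]

theorem exists_two' (hn : 1 ≤ n) {u v x y : Fin (n + 2) × Bool} (huv : u.1 ≠ v.1) (hxy : x.1 ≠ y.1) :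
    ∃ (w : W) (π : Equiv.Perm (Fin (n + 2) × Bool)), Act cs w π ∧ π u = x ∧ π v = y := by
  obtain ⟨w, π, hw, h1, h2⟩ := exists_two (cs := cs) hn huv
  obtain ⟨w', π', hw', h1', h2'⟩ := exists_two (cs := cs) hn hxy
  refine ⟨w' * w⁻¹, π' * π⁻¹, hw'.mul hw.inv, ?_, ?_⟩
  · rw [Equiv.Perm.mul_apply, ← h1]
    change π' (π.symm (π (0, true))) = x
    rw [Equiv.symm_apply_apply, h1']
  · rw [Equiv.Perm.mul_apply, ← h2]
    change π' (π.symm (π (1, true))) = y
    rw [Equiv.symm_apply_apply, h2']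

/-! ### separation of cosets -/

/-- the `i`-th fundamental weight -/
def Cc (i k : Fin (n + 2)) : ℤ :=
  if (i : ℕ) < n then (if k ≤ i then 1 else 0) else if (i : ℕ) = n then (if (k : ℕ) ≤ n then 1 else -1) else 1

/-- the sign of a Boolean -/
def bs (s : Bool) : ℤ := if s then 1 else -1

/-- the `i`-th coordinate in terms of `ee` -/
def Sf (i : Fin (n + 2)) (u : Fin (n + 2) → ℤ) : ℤ := ∑ k, Cc i k * u k

theorem Sf_wt (i : Fin (n + 2)) (b : Fin (n + 2) × Bool) : Sf i (wt b) = bs b.2 * Cc i b.1 := by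
  unfold Sf
  rw [Finset.sum_eq_single b.1]
  · rw [wt_apply, if_pos rfl, mul_comm]; rfl
  · intro k _ hk
    rw [wt_apply, if_neg hk, mul_zero]
  · intro h
    exact absurd (Finset.mem_univ _) h

theorem Sf_add (i : Fin (n + 2)) (u v : Fin (n + 2) → ℤ) : Sf i (u + v) = Sf i u + Sf i v := by
  simp only [Sf, Pi.add_apply, mul_add, Finset.sum_add_distrib]

theorem Sf_smul (i : Fin (n + 2)) (c : ℤ) (u : Fin (n + 2) → ℤ) : Sf i (c • u) = c * Sf i u := by
  simp only [Sf, Pi.smul_apply, smul_eq_mul, Finset.mul_sum]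
  exact Finset.sum_congr rfl fun k _ => by ring

theorem Sf_sum (i : Fin (n + 2)) (f : Fin (n + 2) → Fin (n + 2) → ℤ) : Sf i (∑ k, f k) = ∑ k, Sf i (f k) := by
  simp only [Sf, Finset.sum_apply, Finset.mul_sum]
  exact Finset.sum_comm

theorem Sf_bt (i j : Fin (n + 2)) : Sf i (bt j) = if i = j then (if (i : ℕ) < n then 1 else 2) else 0 := by
  have hi := i.2
  have hj := j.2
  unfold bt
  rw [Sf_add, Sf_wt, Sf_wt]
  by_cases hj' : (j : ℕ) + 1 < n + 2
  · have h1 : nx j = (⟨j + 1, hj'⟩, false) := by unfold nx; rw [dif_pos hj']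
    rw [h1]
    simp only [bs, Cc, Fin.le_def, Fin.ext_iff, if_true, Bool.false_eq_true, if_false]
    split_ifs <;> omega
  · have h1 : nx j = (pd n, true) := by unfold nx; rw [dif_neg hj']
    rw [h1]
    simp only [bs, Cc, Fin.le_def, Fin.ext_iff, if_true, pd]
    split_ifs <;> omega

/-- the `i`-th coordinate in terms of `ee` -/
theorem Sf_ee (i : Fin (n + 2)) (x : Fin (n + 2) → ℤ) : Sf i (ee x) = (if (i : ℕ) < n then 1 else 2) * x i := by
  unfold ee
  rw [Sf_sum, Finset.sum_eq_single i]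
  · rw [Sf_smul, Sf_bt, if_pos rfl, mul_comm]
  · intro j _ hj
    rw [Sf_smul, Sf_bt, if_neg (Ne.symm hj), mul_zero]
  · intro h
    exact absurd (Finset.mem_univ _) h

/-- **Separation.** -/
theorem sep {J : Set (Fin (n + 2))} {i : Fin (n + 2)} (hi : i ∉ J) {w w' : W}
    {π π' : Equiv.Perm (Fin (n + 2) × Bool)} (hw : Act cs w π) (hw' : Act cs w' π') (hmem : w⁻¹ * w' ∈ WJ cs J)
    (a : Fin (n + 2) × Bool) : bs (π⁻¹ a).2 * Cc i (π⁻¹ a).1 = bs (π'⁻¹ a).2 * Cc i (π'⁻¹ a).1 := by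
  obtain ⟨y, hy⟩ := exists_long cs a
  have h1 := coord_of_mem_WJ (h := isCartan n) hmem (rep cs (isCartan n) w'⁻¹ y) hi
  rw [rep_mul_apply, rep_apply_inv] at h1
  have h2 : ∀ {v : W} {ρ : Equiv.Perm (Fin (n + 2) × Bool)}, Act cs v ρ →
      Sf i (ee (rep cs (isCartan n) v⁻¹ y)) = 2 * (bs (ρ⁻¹ a).2 * Cc i (ρ⁻¹ a).1) := by
    intro v ρ hv
    rw [hv.inv.2, hy, Lp_add, Lp_wt hv.inv.1, Sf_add, Sf_wt]
    ring
  have h3 := h2 hw
  have h4 := h2 hw'
  rw [Sf_ee, h1] at h3
  rw [Sf_ee] at h4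
  linarith

end

end Cfsg.Agent.H156.Ppd.DSg
end

-- part: H156/Ppd/DBound
section
/-!
# Lower bounds for modules of type `D_l`, `l = n + 2` (helper156, TEAM PPD)

`i ∉ J`, `δ = dim V^U`, `c = dim Io i` (the interior of an edge of type `i`).

* `dim_V` : `1 ≤ i < n`: `4 C(l, i + 1) δ + 2 C(l, 2) c ≤ dim V`;
* `dim_H` : `n ≤ i`: `2 ^ (l - 1) δ + 2 C(l, 2) c ≤ dim V`;
* `dim_O` : `i = 0`: `2 l δ + 4 C(l, 2) c ≤ dim V`.
-/

set_option autoImplicit false
set_option linter.unusedSectionVars false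
set_option linter.unusedSimpArgs false

namespace Cfsg.Agent.H156.Ppd.DSg

open CoxeterSystem Cfsg.Agent.ChevalleyStructure.CoxeterGeom Cfsg.Agent.Tits.Roots Cfsg.Agent.Tits.Core
  Cfsg.Agent.Tits.Exchange Cfsg.Agent.Nodes.Reps Cfsg.Agent.Nodes.BNOf Cfsg.Agent.Nodes.StabComb
  Cfsg.Agent.Nodes.Bruhat Cfsg.Agent.Nodes.OppDec Cfsg.Agent.Nodes.LeviDec Cfsg.Agent.KFacts.RgdOpp
  Cfsg.Agent.Omega.CR Cfsg.Agent.Omega.FOne.Lift.Sd Cfsg.Agent.H905.Md Cfsg.Agent.Nodes.TypeD
open Cfsg.Agent.Nodes.TypeC (wt ng wt_apply wt_ng ng_ng ng_fst ng_snd wt_injective)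

variable {n : ℕ}

section comb

variable {W : Type*} [Group W] {cs : CoxeterSystem (Nodes.TypeD.M n) W}

theorem ee_edge {w : W} {π : Equiv.Perm (Fin (n + 2) × Bool)} (hw : Act cs w π) (i : Fin (n + 2)) :
    ee (rep cs (isCartan n) w (sr i)) = wt (π (i, true)) + wt (π (nx i)) := by
  rw [hw.2, ee_sr]
  unfold bt
  rw [Lp_add, Lp_wt hw.1, Lp_wt hw.1]

/-- ordered pairs of indices with a sign -/
abbrev Pr (l : ℕ) := {q : Fin l × Fin l // q.1 < q.2} × Bool

theorem exists_edge (hn : 1 ≤ n) (i : Fin (n + 2)) (q : Pr (n + 2)) :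
    ∃ (w : W) (π : Equiv.Perm (Fin (n + 2) × Bool)), Act cs w π ∧ π (i, true) = (q.1.1.1, true) ∧
      π (nx i) = (q.1.1.2, q.2) :=
  exists_two' hn (ok_nx i) (ne_of_lt q.1.2)

/-- different pairs give different edges -/
theorem edge_sep {J : Set (Fin (n + 2))} {i : Fin (n + 2)} {w w' : W} {π π' : Equiv.Perm (Fin (n + 2) × Bool)}
    (hw : Act cs w π) (hw' : Act cs w' π') {q q' : Pr (n + 2)} (h1 : π (i, true) = (q.1.1.1, true))
    (h2 : π (nx i) = (q.1.1.2, q.2)) (h1' : π' (i, true) = (q'.1.1.1, true)) (h2' : π' (nx i) = (q'.1.1.2, q'.2))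
    (he : SameEdge cs (isCartan n) J w i w' i) : q = q' := by
  have e1 := ee_edge hw i
  have e2 := ee_edge hw' i
  rw [h1, h2] at e1
  rw [h1', h2'] at e2
  have hq := q.1.2
  have hq' := q'.1.2
  obtain ⟨⟨⟨a, b⟩, hab⟩, s⟩ := q
  obtain ⟨⟨⟨a', b'⟩, hab'⟩, s'⟩ := q'
  simp only at *
  rcases he with ⟨h3, -⟩ | ⟨h3, -⟩
  · rw [h3, e2] at e1
    rcases wt_add_eq (a := (a', true)) (b := (b', s')) (c := (a, true)) (d := (b, s)) (ne_of_lt hab')
      (ne_of_lt hab) e1 with ⟨h4, h5⟩ | ⟨h4, h5⟩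
    · rw [Prod.mk.injEq] at h4 h5
      obtain ⟨rfl, -⟩ := h4
      obtain ⟨rfl, rfl⟩ := h5
      rfl
    · rw [Prod.mk.injEq] at h4 h5
      obtain ⟨rfl, -⟩ := h4
      obtain ⟨rfl, -⟩ := h5
      exact absurd hab (not_lt_of_gt hab')
  · rw [h3, ee_neg, e2, neg_add, ← wt_ng, ← wt_ng] at e1
    rcases wt_add_eq (a := ng (a', true)) (b := ng (b', s')) (c := (a, true)) (d := (b, s)) (ne_of_lt hab')
      (ne_of_lt hab) e1 with ⟨h4, h5⟩ | ⟨h4, h5⟩
    · rw [ng, Prod.mk.injEq] at h4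
      exact absurd h4.2 (by simp)
    · rw [ng, Prod.mk.injEq] at h4 h5
      obtain ⟨rfl, -⟩ := h4
      obtain ⟨rfl, -⟩ := h5
      exact absurd hab (not_lt_of_gt hab')

theorem card_Pr (l : ℕ) : Fintype.card (Pr l) = l.choose 2 * 2 := by
  rw [Fintype.card_prod, card_pairs, Fintype.card_bool]

/-- the value of `sep` for `fl B * pe σ` -/
theorem inv_apply (B : Finset (Fin (n + 2))) (σ : Equiv.Perm (Fin (n + 2))) (c : Fin (n + 2)) :
    (fl B * pe σ)⁻¹ (c, true) = (σ⁻¹ c, !(decide (c ∈ B))) := by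
  rw [mul_inv_rev, Equiv.Perm.mul_apply, fl_inv, fl_apply]
  change (pe σ).symm _ = _
  rw [Equiv.symm_apply_eq, pe_apply]
  simp

end comb

section bounds

variable {W Y : Type*} [Group W] [Group Y] {cs : CoxeterSystem (Nodes.TypeD.M n) W} {p : ℕ} {T : Subgroup Y}
  {m : Fin (n + 2) → Y} {X : (Fin (n + 2) → ℤ) → Subgroup Y} {k V : Type*} [Field k] [AddCommGroup V] [Module k V]
  (R : RGD cs (isCartan n) p T m X) [Finite Y] [Finite W] [Fact p.Prime] [CharP k p]
  {ρ : Y →* Module.End k V} [FiniteDimensional k V] [Nontrivial V]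
  (hirr : ∀ L : Submodule k V, Ivt ρ (GG cs (isCartan n) T X) L → L = ⊥ ∨ L = ⊤)
include R hirr

theorem dim_E (hn : 1 ≤ n) (i : Fin (n + 2)) {α : Type*} [Fintype α] (v : α → W)
    (hv : ∀ a a', a ≠ a' → (v a)⁻¹ * v a' ∉ WJ cs (Jx cs (isCartan n) X ρ)) :
    Fintype.card α * Module.finrank k (D cs (isCartan n) X ρ) +
      ((n + 2).choose 2 * 2) * Module.finrank k (Io cs (isCartan n) T X ρ i) ≤ Module.finrank k V := by
  choose w π hw h1 h2 using exists_edge (cs := cs) hn i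
  have h3 := dim_ge R hirr (α := α) (β := Pr (n + 2)) v hv w (fun _ => i) (fun q q' hqq he =>
    hqq (edge_sep (hw q) (hw q') (h1 q) (h2 q) (h1 q') (h2 q') he))
  rw [Finset.sum_const, Finset.card_univ, card_Pr, smul_eq_mul] at h3
  exact h3

/-- **the nodes in the middle** -/
theorem dim_V {i : Fin (n + 2)} (hi : i ∉ Jx cs (isCartan n) X ρ) (h1i : 1 ≤ (i : ℕ)) (hin : (i : ℕ) < n) :
    ((n + 2).choose ((i : ℕ) + 1) * 4) * Module.finrank k (D cs (isCartan n) X ρ) +
      ((n + 2).choose 2 * 2) * Module.finrank k (Io cs (isCartan n) T X ρ i) ≤ Module.finrank k V := by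
  classical
  have hS : ∀ S : {S : Finset (Fin (n + 2)) // S.card = (i : ℕ) + 1}, ∃ (σ : Equiv.Perm (Fin (n + 2)))
      (u v z : Fin (n + 2)), (∀ a, (σ⁻¹ a).val ≤ i.val ↔ a ∈ S.1) ∧ u ∈ S.1 ∧ v ∈ S.1 ∧ u ≠ v ∧ z ∉ S.1 := by
    intro S
    obtain ⟨σ, hσ⟩ := exists_perm_set (⟨i, by omega⟩ : Fin (n + 1)) S.1 S.2
    obtain ⟨u, hu, v, hv, huv⟩ := Finset.one_lt_card.1 (show 1 < S.1.card by rw [S.2]; omega)
    obtain ⟨z, hz⟩ : ∃ z : Fin (n + 2), z ∉ S.1 := by
      by_contra hcon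
      push Not at hcon
      have h3 := Finset.card_le_card (fun z _ => hcon z : (Finset.univ : Finset (Fin (n + 2))) ⊆ S.1)
      rw [Finset.card_univ, Fintype.card_fin, S.2] at h3
      omega
    exact ⟨σ, u, v, z, hσ, hu, hv, huv, hz⟩
  choose σ u v z hσ hu hv huv hz using hS
  have hw0 : ∀ q : {S : Finset (Fin (n + 2)) // S.card = (i : ℕ) + 1} × Bool × Bool,
      ∃ (w : W) (B : Finset (Fin (n + 2))), Act cs w (fl B * pe (σ q.1)) ∧
        ∀ b ∈ q.1.1, (b ∈ B ↔ (b = u q.1 ∧ q.2.1 = true) ∨ (b = v q.1 ∧ q.2.2 = true)) := by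
    intro q
    obtain ⟨w, B, hw, hB⟩ := exists_flip (cs := cs) (z q.1)
      ((if q.2.1 then {u q.1} else ∅) ∪ (if q.2.2 then {v q.1} else ∅))
    obtain ⟨w', hw'⟩ := exists_perm (cs := cs) (σ q.1)
    refine ⟨w * w', B, hw.mul hw', fun b hb => ?_⟩
    rw [hB b (fun e => hz q.1 (e ▸ hb)), Finset.mem_union]
    obtain ⟨S, s, t⟩ := q
    cases s <;> cases t <;> simp
  choose w B hw hB using hw0
  have hval : ∀ q c, bs ((fl (B q) * pe (σ q.1))⁻¹ (c, true)).2 * Cc i ((fl (B q) * pe (σ q.1))⁻¹ (c, true)).1 =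
      if c ∈ q.1.1 then (if c ∈ B q then -1 else 1) else 0 := by
    intro q c
    rw [inv_apply]
    simp only [Cc, if_pos hin, bs, Fin.le_def, hσ]
    by_cases h1 : c ∈ q.1.1 <;> by_cases h2 : c ∈ B q <;> simp [h1, h2]
  have h3 := dim_E R hirr (by omega) i w (by
    intro q q' hqq hmem
    apply hqq
    have hs := fun c => sep hi (hw q) (hw q') hmem (c, true)
    simp only [hval] at hs
    have hS : q.1 = q'.1 := by
      apply Subtype.ext
      ext c
      have := hs c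
      by_cases h1 : c ∈ q.1.1 <;> by_cases h2 : c ∈ q'.1.1 <;> simp only [h1, h2, if_true, if_false] at this ⊢ <;>
        split_ifs at this <;> omega
    obtain ⟨S, s, t⟩ := q
    obtain ⟨S', s', t'⟩ := q'
    obtain rfl : S = S' := hS
    have h4 := hs (u S)
    have h5 := hs (v S)
    have h6 := hB (S, s, t) (u S) (hu S)
    have h7 := hB (S, s', t') (u S) (hu S)
    have h8 := hB (S, s, t) (v S) (hv S)
    have h9 := hB (S, s', t') (v S) (hv S)
    have huS := hu S
    have hvS := hv S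
    have hne := huv S
    have hne' := (huv S).symm
    simp only [h6, h7, huS, if_true, hne, false_and, or_false, true_and] at h4
    simp only [h8, h9, hvS, if_true, hne', false_and, false_or, true_and] at h5
    have hs1 : s = s' := by cases s <;> cases s' <;> simp at h4 ⊢
    have ht1 : t = t' := by cases t <;> cases t' <;> simp at h5 ⊢
    rw [hs1, ht1])
  have hc : Fintype.card ({S : Finset (Fin (n + 2)) // S.card = (i : ℕ) + 1} × Bool × Bool) =
      (n + 2).choose ((i : ℕ) + 1) * 4 := by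
    rw [Fintype.card_prod, Fintype.card_prod, Fintype.card_bool, Fintype.card_finset_len, Fintype.card_fin]
  rwa [hc] at h3

/-- **the half-spin nodes** -/
theorem dim_H (hn : 1 ≤ n) {i : Fin (n + 2)} (hi : i ∉ Jx cs (isCartan n) X ρ) (hin : n ≤ (i : ℕ)) :
    2 ^ (n + 1) * Module.finrank k (D cs (isCartan n) X ρ) +
      ((n + 2).choose 2 * 2) * Module.finrank k (Io cs (isCartan n) T X ρ i) ≤ Module.finrank k V := by
  classical
  have hw0 : ∀ S : Finset (Fin (n + 1)), ∃ (w : W) (B : Finset (Fin (n + 2))), Act cs w (fl B) ∧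
      ∀ b : Fin (n + 1), b.castSucc ∈ B ↔ b ∈ S := by
    intro S
    obtain ⟨w, B, hw, hB⟩ := exists_flip (cs := cs) (Fin.last (n + 1)) (S.map Fin.castSuccEmb)
    refine ⟨w, B, hw, fun b => ?_⟩
    rw [hB _ (Fin.castSucc_lt_last b).ne]
    simp
  choose w B hw hB using hw0
  have h3 := dim_E R hirr hn i w (by
    intro S S' hSS hmem
    apply hSS
    ext b
    have hs := sep hi (hw S) (hw S') hmem (b.castSucc, true)
    rw [fl_inv, fl_inv, fl_apply, fl_apply] at hs
    have hb := b.2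
    have hc : Cc i b.castSucc = 1 := by
      unfold Cc
      rw [if_neg (by omega)]
      simp only [Fin.val_castSucc]
      split_ifs <;> first | rfl | omega
    simp only [hc, mul_one, hB, bs] at hs
    by_cases h1 : b ∈ S <;> by_cases h2 : b ∈ S' <;> simp [h1, h2] at hs ⊢)
  rwa [Fintype.card_finset, Fintype.card_fin] at h3

/-- **the first node** -/
theorem dim_O (hn : 1 ≤ n) (hi : (0 : Fin (n + 2)) ∉ Jx cs (isCartan n) X ρ) :
    (2 * (n + 2)) * Module.finrank k (D cs (isCartan n) X ρ) +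
      ((n + 2).choose 2 * 4) * Module.finrank k (Io cs (isCartan n) T X ρ 0) ≤ Module.finrank k V := by
  classical
  have hv0 : ∀ x : Fin (n + 2) × Bool, ∃ (w : W) (π : Equiv.Perm (Fin (n + 2) × Bool)), Act cs w π ∧
      π (0, true) = x := by
    intro x
    obtain ⟨y, hy⟩ : ∃ y : Fin (n + 2), x.1 ≠ y := by
      by_cases h : x.1 = 0
      · exact ⟨Fin.last (n + 1), by rw [h]; simp [Fin.ext_iff]⟩
      · exact ⟨0, h⟩
    obtain ⟨w, π, hw, h1, -⟩ := exists_two (cs := cs) hn (x := x) (y := (y, true)) hy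
    exact ⟨w, π, hw, h1⟩
  choose v πv hv hv1 using hv0
  have hCc : ∀ b : Fin (n + 2) × Bool, bs b.2 * Cc 0 b.1 = 1 → b = (0, true) := by
    intro b hb
    obtain ⟨a, s⟩ := b
    have h0 : ((0 : Fin (n + 2)) : ℕ) < n := by simp; omega
    simp only [Cc, if_pos h0, bs] at hb
    by_cases ha : a ≤ 0
    · have ha' : a = 0 := by
        apply Fin.ext
        have := Fin.le_def.1 ha
        simpa using this
      subst ha'
      cases s
      · simp at hb
      · rfl
    · rw [if_neg ha] at hb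
      simp at hb
  have hC0 : bs true * Cc (0 : Fin (n + 2)) 0 = 1 := by
    have h0 : ((0 : Fin (n + 2)) : ℕ) < n := by simp; omega
    simp only [Cc, if_pos h0, bs]
    simp
  have hw0 : ∀ q : {q : Fin (n + 2) × Fin (n + 2) // q.1 < q.2} × Bool × Bool,
      ∃ (w : W) (π : Equiv.Perm (Fin (n + 2) × Bool)), Act cs w π ∧ π (0, true) = (q.1.1.1, q.2.1) ∧
        π (1, true) = (q.1.1.2, q.2.2) := by
    intro q
    exact exists_two (cs := cs) hn (x := (q.1.1.1, q.2.1)) (y := (q.1.1.2, q.2.2)) (ne_of_lt q.1.2)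
  choose w π hw hw1 hw2 using hw0
  have hnx : nx (0 : Fin (n + 2)) = ng (1, true) := by
    unfold nx ng
    rw [dif_pos (by simp)]
    rfl
  have hnx' : ∀ q, π q (nx 0) = (q.1.1.2, !q.2.2) := by
    intro q
    rw [hnx, (hw q).1, hw2]
    rfl
  have hsg : sg (0 : Fin (n + 2)) (0, true) = (1, true) := by
    have h0 : ((0 : Fin (n + 2)) : ℕ) + 1 < n + 2 := by simp
    rw [sg_up h0]
    rfl
  have h3 := dim_ge R hirr (α := Fin (n + 2) × Bool)
    (β := {q : Fin (n + 2) × Fin (n + 2) // q.1 < q.2} × Bool × Bool) v (by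
    intro x x' hxx hmem
    apply hxx
    have hs := sep hi (hv x) (hv x') hmem x
    have h1 : (πv x)⁻¹ x = (0, true) := by
      change (πv x).symm x = _
      rw [Equiv.symm_apply_eq, hv1]
    rw [h1, hC0] at hs
    have h2 := hCc _ hs.symm
    have h4 : (πv x').symm x = (0, true) := h2
    rw [Equiv.symm_apply_eq, hv1] at h4
    exact h4) w (fun _ => 0) (by
    intro q q' hqq he
    apply hqq
    have e1 := ee_edge (hw q) 0
    have e2 := ee_edge (hw q') 0
    rw [hw1, hnx'] at e1 e2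
    have hq2 := hw2 q
    have hq2' := hw2 q'
    have hq1 := hw1 q
    have hq1' := hw1 q'
    have hwq := hw q
    have hwq' := hw q'
    generalize w q = wq at *
    generalize w q' = wq' at *
    generalize π q = πq at *
    generalize π q' = πq' at *
    obtain ⟨⟨⟨a, b⟩, hab⟩, s, t⟩ := q
    obtain ⟨⟨⟨a', b'⟩, hab'⟩, s', t'⟩ := q'
    simp only at *
    rcases he with ⟨h3, -⟩ | ⟨h3, h4⟩
    · rw [h3, e2] at e1
      rcases wt_add_eq (a := (a', s')) (b := (b', !t')) (c := (a, s)) (d := (b, !t)) (ne_of_lt hab')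
        (ne_of_lt hab) e1 with ⟨h4, h5⟩ | ⟨h4, h5⟩
      · rw [Prod.mk.injEq] at h4 h5
        obtain ⟨rfl, rfl⟩ := h4
        obtain ⟨rfl, h6⟩ := h5
        have h7 : t = t' := by cases t <;> cases t' <;> simp at h6 ⊢
        rw [h7]
      · rw [Prod.mk.injEq] at h4 h5
        obtain ⟨rfl, -⟩ := h4
        obtain ⟨rfl, -⟩ := h5
        exact absurd hab (not_lt_of_gt hab')
    · exfalso
      rw [h3, ee_neg, e2, neg_add, ← wt_ng, ← wt_ng] at e1
      have hbb : b' = b ∨ (b' = a ∧ a' = b) := by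
        rcases wt_add_eq (a := ng (a', s')) (b := ng (b', !t')) (c := (a, s)) (d := (b, !t)) (ne_of_lt hab')
          (ne_of_lt hab) e1 with ⟨h5, h6⟩ | ⟨h5, h6⟩
        · rw [ng, Prod.mk.injEq] at h6
          exact Or.inl h6.1
        · rw [ng, Prod.mk.injEq] at h5 h6
          exact Or.inr ⟨h6.1, h5.1⟩
      rcases hbb with hbb | ⟨hb1, hb2⟩
      · have hs := sep hi hwq (hwq'.mul (act_simple 0)) h4 (a, s)
        have h1 : πq⁻¹ (a, s) = (0, true) := by
          change πq.symm (a, s) = _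
          rw [Equiv.symm_apply_eq, hq1]
        rw [h1, hC0] at hs
        have h5 := hCc _ hs.symm
        have h6 : (πq' * sgE 0).symm (a, s) = (0, true) := h5
        rw [Equiv.symm_apply_eq, Equiv.Perm.mul_apply, sgE_apply, hsg, hq2', Prod.mk.injEq] at h6
        rw [h6.1, hbb] at hab
        exact lt_irrefl _ hab
      · rw [hb1, hb2] at hab'
        exact absurd hab (not_lt_of_gt hab'))
  have hc1 : Fintype.card (Fin (n + 2) × Bool) = 2 * (n + 2) := by
    rw [Fintype.card_prod, Fintype.card_fin, Fintype.card_bool, mul_comm]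
  have hc2 : Fintype.card ({q : Fin (n + 2) × Fin (n + 2) // q.1 < q.2} × Bool × Bool) = (n + 2).choose 2 * 4 := by
    rw [Fintype.card_prod, Fintype.card_prod, card_pairs, Fintype.card_bool]
  rw [Finset.sum_const, Finset.card_univ, hc1, hc2, smul_eq_mul] at h3
  exact h3

end bounds

end Cfsg.Agent.H156.Ppd.DSg
end

-- part: H156/Ppd/DFour
section
/-!
# Type `D₄` (helper156, TEAM PPD)

* `dim_le_list` : the upper bound of `H905/MdD` for words (one node outside `J`, cominuscule);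
* **`dFour`** : type `D₄`, `dim V^U = 1`, `j ≤ dim Io i + 1` outside `J`, `dim V < 12 j` ⟹ `dim V ≤ 8`.
-/

set_option autoImplicit false
set_option linter.unusedSectionVars false
set_option linter.style.longLine false

namespace Cfsg.Agent.H156.Ppd

open CoxeterSystem Cfsg.Agent.ChevalleyStructure.CoxeterGeom Cfsg.Agent.Tits.Roots Cfsg.Agent.Tits.Core
  Cfsg.Agent.Tits.Exchange Cfsg.Agent.Nodes.Reps Cfsg.Agent.Nodes.BNOf Cfsg.Agent.Nodes.StabComb
  Cfsg.Agent.Nodes.Bruhat Cfsg.Agent.Nodes.OppDec Cfsg.Agent.Nodes.RGDLib Cfsg.Agent.Omega.CR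
  Cfsg.Agent.Omega.FOne.Lift.Sd Cfsg.Agent.H905.Md Cfsg.Agent.H905.DC Cfsg.Agent.H925.Nat Cfsg.Agent.H650.Ppd

section words

variable {I W Y : Type*} [Fintype I] [DecidableEq I] [Group W] [Group Y] {M : CoxeterMatrix I}
  {cs : CoxeterSystem M W} {A : I → I → ℤ} {h : IsCartan M A}

theorem mem_of_isRoot {S : List (I → ℤ)} (h0 : ∀ j, (Pi.single j 1 : I → ℤ) ∈ S) (hS : ∀ x ∈ S, ∀ j, rfn A j x ∈ S)
    {x : I → ℤ} (hx : IsRoot cs h x) : x ∈ S := by
  obtain ⟨w, i, rfl⟩ := hx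
  obtain ⟨ω, rfl⟩ := cs.wordProd_surjective w
  rw [rep_wordProd_sr]
  induction ω with
  | nil => exact h0 i
  | cons j ω ih => exact hS _ ih j

theorem rep_eq_sum (w : W) (y : I → ℤ) (i : I) : rep cs h w y i = ∑ m, y m * co cs h i w m := by
  have h1 : y = ∑ m, y m • (sr m : I → ℤ) := by
    funext a
    rw [Finset.sum_apply]
    simp only [sr, Pi.single_apply, _root_.Cfsg.Agent.Tits.Roots.sr, _root_.Pi.smul_apply, _root_.Pi.single_apply, _root_.Int.zsmul_eq_mul, _root_.mul_ite, _root_.mul_one, _root_.MulZeroClass.mul_zero, _root_.Finset.sum_ite_eq, _root_.Finset.mem_univ, ↓ _root_.reduceIte]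
  conv_lhs => rw [h1]
  rw [map_sum, Finset.sum_apply]
  refine Finset.sum_congr rfl fun m _ => ?_
  rw [map_smul, Pi.smul_apply, smul_eq_mul]
  rfl

theorem co_mem {i : I} {L : List (I → ℤ)} (h0 : (Pi.single i 1 : I → ℤ) ∈ L) (hL : ∀ c ∈ L, ∀ j, fire A c j ∈ L)
    (w : W) : co cs h i w ∈ L := by
  obtain ⟨ω, rfl⟩ := cs.wordProd_surjective w
  rw [co_wordProd]
  induction ω using List.reverseRecOn with
  | nil => exact h0
  | append_singleton ω j ih =>
    rw [cf, List.foldl_append, List.foldl_cons, List.foldl_nil]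
    exact hL _ ih j

end words

section

variable {I W Y : Type*} [Fintype I] [DecidableEq I] [Group W] [Group Y] {M : CoxeterMatrix I}
  {cs : CoxeterSystem M W} {A : I → I → ℤ} {h : IsCartan M A} {p : ℕ} {T : Subgroup Y} {n : I → Y}
  {X : (I → ℤ) → Subgroup Y} {k V : Type*} [Field k] [AddCommGroup V] [Module k V]
  (R : RGD cs h p T n X) [Finite Y] [Finite W] [Fact p.Prime] [CharP k p]
  {ρ : Y →* Module.End k V} [FiniteDimensional k V] [Nontrivial V]
  (hirr : ∀ L : Submodule k V, Ivt ρ (GG cs h T X) L → L = ⊥ ∨ L = ⊤)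
include R hirr

theorem dim_le_list {i : I} (hi : i ∉ Jx cs h X ρ) (hJ : ∀ j, j ∉ Jx cs h X ρ → j = i)
    (hd : Module.finrank k (Le cs h T X ρ {i}) ≤ 2 * Module.finrank k (D cs h X ρ))
    (L : List (List I)) (h0 : (Pi.single i 1 : I → ℤ) ∈ L.map (cf A i))
    (hL : ∀ c ∈ L.map (cf A i), ∀ j, fire A c j ∈ L.map (cf A i))
    (S : List (I → ℤ)) (hS0 : ∀ j, (Pi.single j 1 : I → ℤ) ∈ S) (hS : ∀ x ∈ S, ∀ j, rfn A j x ∈ S)
    (E : List (List I)) (hE0 : ∀ ω ∈ E, ∀ j ∈ ω, j ≠ i) (hE : ∀ x ∈ S, 0 < x i → x ∈ E.map (rf A i)) :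
    Module.finrank k V ≤ L.length * Module.finrank k (D cs h X ρ) := by
  have h1 := dim_le R hirr (fun j hj => by rw [hJ j hj]; exact hd) (by
    rintro x ⟨hx, hx0, j, hj, hxj⟩
    rw [hJ j hj] at hxj
    obtain ⟨ω, hω, rfl⟩ := List.mem_map.1 (hE x (mem_of_isRoot hS0 hS hx) hxj)
    refine ⟨cs.wordProd ω, ?_, i, hi, (rep_wordProd_sr i ω).symm⟩
    have h2 := hE0 ω hω
    clear hx hx0 hxj hω
    induction ω with
    | nil => rw [cs.wordProd_nil]; exact one_mem _
    | cons a ω ih =>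
      rw [cs.wordProd_cons]
      refine mul_mem (Subgroup.subset_closure ⟨a, ?_, rfl⟩) (ih fun j hj => h2 j (List.mem_cons_of_mem _ hj))
      by_contra hcon
      exact h2 a List.mem_cons_self (hJ a hcon)) (α := Fin L.length)
    (fun a => (cs.wordProd (L.get a))⁻¹) (by
    intro w
    obtain ⟨ω, hω, e⟩ := List.mem_map.1 (co_mem (cs := cs) (h := h) h0 hL w⁻¹)
    obtain ⟨a, rfl⟩ := List.mem_iff_get.1 hω
    refine ⟨a, ?_⟩
    rw [inv_inv, mem_WJ_iff (h := h)]
    intro x j hj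
    rw [hJ j hj, rep_mul_apply, rep_eq_sum, co_wordProd, e, ← rep_eq_sum, rep_inv_apply])
  rwa [Fintype.card_fin] at h1

end

/-- Cartan matrix -/
def mAD4 : Fin 4 → Fin 4 → ℤ := ![![2, -1, 0, 0], ![-1, 2, -1, -1], ![0, -1, 2, 0], ![0, -1, 0, 2]]

theorem mAD4_eq : (Nodes.TypeD.A 2) = mAD4 := by
  funext i j
  rw [Nodes.TypeD.A_apply]
  revert i j
  decide +kernel

/-- the roots -/
def rootsD4 : List (Fin 4 → ℤ) := [![0, 0, 0, 1], ![0, 0, 1, 0], ![0, 1, 0, 0], ![0, 1, 0, 1], ![0, 1, 1, 0], ![0, 1, 1, 1],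
  ![1, 0, 0, 0], ![1, 1, 0, 0], ![1, 1, 0, 1], ![1, 1, 1, 0], ![1, 1, 1, 1], ![1, 2, 1, 1],
  ![0, 0, 0, -1], ![0, 0, -1, 0], ![0, -1, 0, 0], ![0, -1, 0, -1], ![0, -1, -1, 0], ![0, -1, -1, -1],
  ![-1, 0, 0, 0], ![-1, -1, 0, 0], ![-1, -1, 0, -1], ![-1, -1, -1, 0], ![-1, -1, -1, -1], ![-1, -2, -1, -1]]

theorem rootsD4_simple : ∀ j, (Pi.single j 1 : Fin 4 → ℤ) ∈ rootsD4 := by decide +kernel

theorem rootsD4_refl : ∀ x ∈ rootsD4, ∀ j, rfn mAD4 j x ∈ rootsD4 := by decide +kernel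

section D4

variable {W Y : Type*} [Group W] [Group Y] {cs : CoxeterSystem (Nodes.TypeD.M 2) W} {p : ℕ} {T : Subgroup Y} {n : Fin 4 → Y}
  {X : (Fin 4 → ℤ) → Subgroup Y} {k V : Type*} [Field k] [AddCommGroup V] [Module k V]
  {A : Fin 4 → Fin 4 → ℤ} {h : IsCartan (Nodes.TypeD.M 2) A} (hA : A = mAD4)
  (R : RGD cs h p T n X) [Finite Y] [Finite W] [Fact p.Prime] [CharP k p]
  {ρ : Y →* Module.End k V} [FiniteDimensional k V] [Nontrivial V]
  (hirr : ∀ L : Submodule k V, Ivt ρ (GG cs h T X) L → L = ⊥ ∨ L = ⊤)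
include hA R hirr

theorem dFour_one {i : Fin 4} (hi : i ∉ Jx cs h X ρ) :
    (i = 1 ∧ 24 * Module.finrank k (D cs h X ρ) +
      12 * Module.finrank k (Io cs h T X ρ i) ≤ Module.finrank k V) ∨
    (i ≠ 1 ∧ 8 * Module.finrank k (D cs h X ρ) +
      24 * Module.finrank k (Io cs h T X ρ i) ≤ Module.finrank k V) := by
  subst hA
  have key : ∀ L E : List (List (Fin 4)), (L.map (cf mAD4 i)).Nodup →
      (E.map (mf mAD4 i)).Nodup → _ := fun L E => dim_ge_list R hirr hi L E
  fin_cases i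
  · right
    exact ⟨by decide, key [[], [0], [0, 1], [0, 1, 2], [0, 1, 3], [0, 1, 2, 3], [0, 1, 2, 3, 1], [0, 1, 2, 3, 1, 0]]
      [[], [1], [1, 0], [1, 2], [1, 3], [1, 0, 2], [1, 0, 3], [1, 2, 3], [1, 0, 2, 1], [1, 0, 2, 3], [1, 0, 3, 1], [1, 2, 3, 1], [1, 0, 2, 1, 3], [1, 0, 2, 3, 1], [1, 0, 3, 1, 2], [1, 2, 3, 1, 0], [1, 0, 2, 1, 3, 1], [1, 0, 2, 3, 1, 0], [1, 0, 2, 3, 1, 2], [1, 0, 2, 1, 3, 1, 0], [1, 0, 2, 1, 3, 1, 2], [1, 0, 2, 3, 1, 0, 2], [1, 0, 2, 1, 3, 1, 0, 2], [1, 0, 2, 1, 3, 1, 0, 2, 1]]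
      (by decide +kernel) (by decide +kernel)⟩
  · left
    exact ⟨rfl, key [[], [1], [1, 0], [1, 2], [1, 3], [1, 0, 2], [1, 0, 3], [1, 2, 3], [1, 0, 2, 1], [1, 0, 2, 3], [1, 0, 3, 1], [1, 2, 3, 1], [1, 0, 2, 1, 3], [1, 0, 2, 3, 1], [1, 0, 3, 1, 2], [1, 2, 3, 1, 0], [1, 0, 2, 1, 3, 1], [1, 0, 2, 3, 1, 0], [1, 0, 2, 3, 1, 2], [1, 0, 2, 1, 3, 1, 0], [1, 0, 2, 1, 3, 1, 2], [1, 0, 2, 3, 1, 0, 2], [1, 0, 2, 1, 3, 1, 0, 2], [1, 0, 2, 1, 3, 1, 0, 2, 1]]
      [[], [0], [2], [3], [0, 1], [0, 2], [0, 3], [2, 1], [2, 3], [3, 1], [0, 1, 2], [0, 1, 3]]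
       (by decide +kernel) (by decide +kernel)⟩
  · right
    exact ⟨by decide, key [[], [2], [2, 1], [2, 1, 0], [2, 1, 3], [2, 1, 0, 3], [2, 1, 0, 3, 1], [2, 1, 0, 3, 1, 2]]
      [[], [1], [1, 0], [1, 2], [1, 3], [1, 0, 2], [1, 0, 3], [1, 2, 3], [1, 0, 2, 1], [1, 0, 2, 3], [1, 0, 3, 1], [1, 2, 3, 1], [1, 0, 2, 1, 3], [1, 0, 2, 3, 1], [1, 0, 3, 1, 2], [1, 2, 3, 1, 0], [1, 0, 2, 1, 3, 1], [1, 0, 2, 3, 1, 0], [1, 0, 2, 3, 1, 2], [1, 0, 2, 1, 3, 1, 0], [1, 0, 2, 1, 3, 1, 2], [1, 0, 2, 3, 1, 0, 2], [1, 0, 2, 1, 3, 1, 0, 2], [1, 0, 2, 1, 3, 1, 0, 2, 1]]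
      (by decide +kernel) (by decide +kernel)⟩
  · right
    exact ⟨by decide, key [[], [3], [3, 1], [3, 1, 0], [3, 1, 2], [3, 1, 0, 2], [3, 1, 0, 2, 1], [3, 1, 0, 2, 1, 3]]
      [[], [1], [1, 0], [1, 2], [1, 3], [1, 0, 2], [1, 0, 3], [1, 2, 3], [1, 0, 2, 1], [1, 0, 2, 3], [1, 0, 3, 1], [1, 2, 3, 1], [1, 0, 2, 1, 3], [1, 0, 2, 3, 1], [1, 0, 3, 1, 2], [1, 2, 3, 1, 0], [1, 0, 2, 1, 3, 1], [1, 0, 2, 3, 1, 0], [1, 0, 2, 3, 1, 2], [1, 0, 2, 1, 3, 1, 0], [1, 0, 2, 1, 3, 1, 2], [1, 0, 2, 3, 1, 0, 2], [1, 0, 2, 1, 3, 1, 0, 2], [1, 0, 2, 1, 3, 1, 0, 2, 1]]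
      (by decide +kernel) (by decide +kernel)⟩

theorem dFour_two {i j : Fin 4} (hi : i ∉ Jx cs h X ρ) (hj : j ∉ Jx cs h X ρ)
    (hi1 : i ≠ 1) (hj1 : j ≠ 1) (hij : i < j) :
    12 * Module.finrank k (D cs h X ρ) ≤ Module.finrank k V := by
  subst hA
  have key : ∀ L : List (List (Fin 4)), (L.map fun ω => (cf mAD4 i ω, cf mAD4 j ω)).Nodup →
      L.length * Module.finrank k (D cs h X ρ) ≤ Module.finrank k V := fun L hL =>
    (Nat.le_add_right _ _).trans (dim_ge_list_two R hirr hi hj hij.ne L [] [] hL (by simp) (by simp))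
  have h1 : (i = 0 ∧ j = 2) ∨ (i = 0 ∧ j = 3) ∨ (i = 2 ∧ j = 3) := by omega
  rcases h1 with ⟨rfl, rfl⟩ | ⟨rfl, rfl⟩ | ⟨rfl, rfl⟩
  · exact key [[], [0], [2], [0, 1], [0, 2], [2, 1], [0, 1, 2], [0, 1, 3], [0, 2, 1], [2, 1, 0], [2, 1, 3], [0, 1, 2, 1]]
      (by decide +kernel)
  · exact key [[], [0], [3], [0, 1], [0, 3], [3, 1], [0, 1, 2], [0, 1, 3], [0, 3, 1], [3, 1, 0], [3, 1, 2], [0, 1, 2, 3]]
      (by decide +kernel)
  · exact key [[], [2], [3], [2, 1], [2, 3], [3, 1], [2, 1, 0], [2, 1, 3], [2, 3, 1], [3, 1, 0], [3, 1, 2], [2, 1, 0, 3]]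
      (by decide +kernel)

theorem dFour_le {i : Fin 4} (hi : i ∉ Jx cs h X ρ)
    (hJ : ∀ j, j ∉ Jx cs h X ρ → j = i) (hi1 : i ≠ 1)
    (hd : Module.finrank k (Le cs h T X ρ {i}) ≤ 2 * Module.finrank k (D cs h X ρ)) :
    Module.finrank k V ≤ 8 * Module.finrank k (D cs h X ρ) := by
  subst hA
  have key := dim_le_list R hirr hi hJ hd
  have h1 : i = 0 ∨ i = 2 ∨ i = 3 := by omega
  rcases h1 with rfl | rfl | rfl
  · exact key [[], [0], [0, 1], [0, 1, 2], [0, 1, 3], [0, 1, 2, 3], [0, 1, 2, 3, 1], [0, 1, 2, 3, 1, 0]]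
      (by decide +kernel) (by decide +kernel) rootsD4 rootsD4_simple rootsD4_refl
      [[], [1], [2, 1], [3, 1], [3, 2, 1], [1, 3, 2, 1]] (by decide +kernel) (by decide +kernel)
  · exact key [[], [2], [2, 1], [2, 1, 0], [2, 1, 3], [2, 1, 0, 3], [2, 1, 0, 3, 1], [2, 1, 0, 3, 1, 2]]
      (by decide +kernel) (by decide +kernel) rootsD4 rootsD4_simple rootsD4_refl
      [[], [1], [0, 1], [3, 1], [3, 0, 1], [1, 3, 0, 1]] (by decide +kernel) (by decide +kernel)
  · exact key [[], [3], [3, 1], [3, 1, 0], [3, 1, 2], [3, 1, 0, 2], [3, 1, 0, 2, 1], [3, 1, 0, 2, 1, 3]]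
      (by decide +kernel) (by decide +kernel) rootsD4 rootsD4_simple rootsD4_refl
      [[], [1], [0, 1], [2, 1], [2, 0, 1], [1, 2, 0, 1]] (by decide +kernel) (by decide +kernel)

/-- **Type `D₄`.** -/
theorem dFour (hG : G1 cs h X = ⊤) (hnt : ∃ (g : Y) (v : V), ρ g v ≠ v)
    (hD : Module.finrank k (D cs h X ρ) = 1) {j : ℕ}
    (hIo : ∀ i, i ∉ Jx cs h X ρ → j ≤ Module.finrank k (Io cs h T X ρ i) + 1)
    (hlt : Module.finrank k V < 12 * j) : Module.finrank k V ≤ 8 := by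
  obtain ⟨i, hi⟩ : ∃ i, i ∉ Jx cs h X ρ := by
    by_contra hcon
    push Not at hcon
    obtain ⟨g, v, hv⟩ := hnt
    exact hv (triv_of_Jx_univ R hirr hG hcon g v)
  have key : ∀ i, i ∉ Jx cs h X ρ → i ≠ 1 ∧ j = 1 ∧
      Module.finrank k (Io cs h T X ρ i) = 0 := by
    intro i hi
    have h1 := hIo i hi
    rcases dFour_one hA R hirr hi with ⟨-, h2⟩ | ⟨h3, h2⟩
    · rw [hD] at h2
      omega
    · rw [hD] at h2
      exact ⟨h3, by omega, by omega⟩
  have hJ : ∀ j, j ∉ Jx cs h X ρ → j = i := by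
    intro i' hi'
    by_contra hne
    obtain ⟨h1, h2, -⟩ := key i hi
    obtain ⟨h3, -, -⟩ := key i' hi'
    rcases lt_or_gt_of_ne hne with h4 | h4
    · have := dFour_two hA R hirr hi' hi h3 h1 h4
      omega
    · have := dFour_two hA R hirr hi hi' h1 h3 h4
      omega
  obtain ⟨h1, h2, h3⟩ := key i hi
  have h4 := finrank_Io R hirr (ρ := ρ) i
  have h5 := dFour_le hA R hirr hi hJ h1 (by omega)
  omega

end D4

end Cfsg.Agent.H156.Ppd
end

-- part: H156/Ppd/DMain
section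
/-!
# Type `D_l`: small modules (helper156, TEAM PPD)

* **`dAll`** : `l = n + 2 ≥ 5`, `dim V^U = 1`, `j ≤ dim Io i + 1` for `i ∉ J`, `dim V < 4 (l - 1) j` ⟹ `J = {0}ᶜ` and
  `dim Le {0} ≤ 2`.
-/

set_option autoImplicit false
set_option linter.unusedSectionVars false

namespace Cfsg.Agent.H156.Ppd.DSg

open CoxeterSystem Cfsg.Agent.ChevalleyStructure.CoxeterGeom Cfsg.Agent.Tits.Roots Cfsg.Agent.Tits.Core
  Cfsg.Agent.Tits.Exchange Cfsg.Agent.Nodes.Reps Cfsg.Agent.Nodes.BNOf Cfsg.Agent.Nodes.StabComb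
  Cfsg.Agent.Nodes.Bruhat Cfsg.Agent.Nodes.OppDec Cfsg.Agent.Nodes.LeviDec Cfsg.Agent.KFacts.RgdOpp
  Cfsg.Agent.Omega.CR Cfsg.Agent.Omega.FOne.Lift.Sd Cfsg.Agent.H905.Md Cfsg.Agent.Nodes.TypeD
  Cfsg.Agent.Nodes.RGDLib

variable {n : ℕ}

theorem two_mul_choose (n : ℕ) : (n + 2).choose 2 * 2 = (n + 2) * (n + 1) := by
  have h1 := Nat.choose_two_right (n + 2)
  have h2 : 2 ∣ (n + 2) * (n + 2 - 1) := (Nat.even_mul_pred_self (n + 2)).two_dvd
  rw [h1, Nat.div_mul_cancel h2]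
  rfl

theorem four_le_two_pow : ∀ n : ℕ, 3 ≤ n → 4 * (n + 1) ≤ 2 ^ (n + 1) := by
  intro n hn
  induction n, hn using Nat.le_induction with
  | base => norm_num
  | succ n hn ih => rw [pow_succ]; omega

section bounds

variable {W Y : Type*} [Group W] [Group Y] {cs : CoxeterSystem (Nodes.TypeD.M n) W} {p : ℕ} {T : Subgroup Y}
  {m : Fin (n + 2) → Y} {X : (Fin (n + 2) → ℤ) → Subgroup Y} {k V : Type*} [Field k] [AddCommGroup V] [Module k V]
  (R : RGD cs (isCartan n) p T m X) [Finite Y] [Finite W] [Fact p.Prime] [CharP k p]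
  {ρ : Y →* Module.End k V} [FiniteDimensional k V] [Nontrivial V]
  (hirr : ∀ L : Submodule k V, Ivt ρ (GG cs (isCartan n) T X) L → L = ⊥ ∨ L = ⊤)
include R hirr

/-- **Type `D_l`, `l ≥ 5`.** -/
theorem dAll (hn : 3 ≤ n) (hG : G1 cs (isCartan n) X = ⊤) (hnt : ∃ (g : Y) (v : V), ρ g v ≠ v)
    (hD : Module.finrank k (D cs (isCartan n) X ρ) = 1) {j : ℕ}
    (hIo : ∀ i, i ∉ Jx cs (isCartan n) X ρ → j ≤ Module.finrank k (Io cs (isCartan n) T X ρ i) + 1)
    (hlt : Module.finrank k V < 4 * (n + 1) * j) :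
    (∀ i, i ∈ Jx cs (isCartan n) X ρ ↔ i ≠ 0) ∧ Module.finrank k (Le cs (isCartan n) T X ρ {0}) ≤ 2 := by
  have hC := two_mul_choose n
  obtain ⟨i0, hi0⟩ : ∃ i, i ∉ Jx cs (isCartan n) X ρ := by
    by_contra hcon
    push Not at hcon
    obtain ⟨g, v, hv⟩ := hnt
    exact hv (H925.Nat.triv_of_Jx_univ R hirr hG hcon g v)
  have hj : ∀ c, j ≤ c + 1 → Module.finrank k V < 4 * (n + 1) * (c + 1) := fun c hc =>
    lt_of_lt_of_le hlt (Nat.mul_le_mul_left _ hc)
  have key : ∀ i, i ∉ Jx cs (isCartan n) X ρ → i = 0 ∧ Module.finrank k (Io cs (isCartan n) T X ρ i) = 0 := by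
    intro i hi
    have h1 := hj _ (hIo i hi)
    rcases Nat.eq_zero_or_pos (i : ℕ) with h0 | h0
    · have h2 : i = 0 := Fin.ext h0
      subst h2
      refine ⟨rfl, ?_⟩
      have h3 := dim_O R hirr (by omega) hi
      rw [hD, mul_one, show (n + 2).choose 2 * 4 = 2 * ((n + 2).choose 2 * 2) by ring, hC] at h3
      set c := Module.finrank k (Io cs (isCartan n) T X ρ 0)
      by_contra hc
      have hc' : 1 ≤ c := Nat.one_le_iff_ne_zero.2 hc
      linarith only [h1, h3, Nat.mul_le_mul_left (n + 1) hc', Nat.mul_le_mul hn (Nat.mul_le_mul_left (n + 1) hc')]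
    · exfalso
      rcases Nat.lt_or_ge (i : ℕ) n with h2 | h2
      · have h3 := dim_V R hirr hi h0 h2
        have h4 := choose_two_le (m := n + 2) (k := (i : ℕ) + 1) (by omega) (by omega)
        rw [hD, mul_one, hC] at h3
        set c := Module.finrank k (Io cs (isCartan n) T X ρ i)
        nlinarith only [hC, h4, h1, h3, Nat.mul_le_mul_left (n + 1) hn]
      · have h3 := dim_H R hirr (by omega) hi h2
        have h4 := four_le_two_pow n hn
        rw [hD, mul_one, hC] at h3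
        set c := Module.finrank k (Io cs (isCartan n) T X ρ i)
        nlinarith only [h4, h1, h3, Nat.mul_le_mul_left (n + 1) hn, Nat.mul_le_mul hn (Nat.mul_le_mul_left (n + 1) (Nat.zero_le c))]
  have h00 := (key i0 hi0).1
  subst h00
  refine ⟨fun i => ⟨fun h1 h2 => hi0 (h2 ▸ h1), fun h1 => ?_⟩, ?_⟩
  · by_contra h2
    exact h1 (key i h2).1
  · have h1 := finrank_Io R hirr (ρ := ρ) (0 : Fin (n + 2))
    rw [(key 0 hi0).2, hD] at h1
    omega

end bounds

end Cfsg.Agent.H156.Ppd.DSg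
end

private theorem dce_b5af0dd1cabe : _root_.True := by
  try have : _root_.True := by simp only [_root_.Cfsg.Agent.H156.Ppd.DSg.Lp.eq_1]
  try have : _root_.True := by simp only [_root_.Cfsg.Agent.H156.Ppd.DSg.bs.eq_1]
  try have : _root_.True := by simp only [_root_.Cfsg.Agent.H156.Ppd.DSg.Sf.eq_1]
  try have : _root_.True := by simp only [_root_.Cfsg.Agent.H156.Ppd.DSg.Cc.eq_1]
  try have : _root_.True := by simp only [_root_.Cfsg.Agent.H905.Md.SameEdge.congr_simp]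
  try have : _root_.True := by simp only [_root_.Cfsg.Agent.Nodes.Bruhat.GG.congr_simp]
  exact _root_.True.intro
end

-- part: H156/Ppd/Lift
section
set_option linter.all false
open scoped Cfsg.Agent.FastGrp

-- part: H156/Ppd/Edge
section
/-!
# A lower bound for the edges (helper156, TEAM PPD)

`R : RGD cs h p T n X`, `ρ` simple over a finite field `k` of characteristic `p`, `dim V^U = 1`.

* `finrank_cm` : `dim [Le {i}, X_{-i}] + dim V^U ≤ dim Le {i}`;
* **`edge_card`** : `i ∉ J`, `|X_{-i}| = |k| ^ j`, `X_{-i}` without proper `T`-invariant subgroups: `j + 1 ≤ dim Le {i}`.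
-/

set_option autoImplicit false
set_option linter.unusedSectionVars false

namespace Cfsg.Agent.H156.Ppd

open CoxeterSystem Cfsg.Agent.ChevalleyStructure.CoxeterGeom Cfsg.Agent.Tits.Roots Cfsg.Agent.Tits.Core
  Cfsg.Agent.Tits.Exchange Cfsg.Agent.Nodes.Reps Cfsg.Agent.Nodes.BNOf Cfsg.Agent.Nodes.StabComb
  Cfsg.Agent.Nodes.Bruhat Cfsg.Agent.Nodes.OppDec Cfsg.Agent.Nodes.LeviDec Cfsg.Agent.KFacts.RgdOpp
  Cfsg.Agent.Omega.CR Cfsg.Agent.Omega.FOne.Lift.Sd Cfsg.Agent.H905.Md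

variable {I W Y : Type*} [Fintype I] [DecidableEq I] [Group W] [Group Y] {M : CoxeterMatrix I}
  {cs : CoxeterSystem M W} {A : I → I → ℤ} {h : IsCartan M A} {p : ℕ} {T : Subgroup Y} {n : I → Y}
  {X : (I → ℤ) → Subgroup Y} {k V : Type*} [Field k] [AddCommGroup V] [Module k V]
  (R : RGD cs h p T n X) [Finite Y] [Finite W] [Fact p.Prime] [CharP k p]
  {ρ : Y →* Module.End k V} [FiniteDimensional k V] [Nontrivial V]
  (hirr : ∀ L : Submodule k V, Ivt ρ (GG cs h T X) L → L = ⊥ ∨ L = ⊤)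
include R hirr

theorem finrank_cm (i : I) : Module.finrank k (cm ρ (X (-sr i)) (Le cs h T X ρ {i})) +
    Module.finrank k (D cs h X ρ) ≤ Module.finrank k (Le cs h T X ρ {i}) := by
  have h1 : D cs h X ρ ⊓ cm ρ (X (-sr i)) (Le cs h T X ρ {i}) = ⊥ := by
    rw [eq_bot_iff]
    rintro v ⟨hv, hv'⟩
    by_contra hv0
    obtain ⟨φ, hφ, hne⟩ := exists_pair_D R hirr hv hv0
    refine hne (apply_cm (B := X (-sr i)) ?_ hv')
    intro b hb
    exact hφ b (X_le_UN (isRoot_sr cs h i).neg (neg_nonpos.2 (sr_nonneg i)) hb)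
  have h2 := Submodule.finrank_sup_add_finrank_inf_eq (D cs h X ρ) (cm ρ (X (-sr i)) (Le cs h T X ρ {i}))
  rw [h1, finrank_bot, add_zero] at h2
  have h3 := Submodule.finrank_mono (sup_le (D_le_Le R (ρ := ρ) {i})
    (cm_le_Le R (ρ := ρ) (RootsJ.neg (sr_mem_Roots i))))
  omega

/-- **The lower bound for the edges.** -/
theorem edge_card [Finite k] {i : I} (hi : i ∉ Jx cs h X ρ) (hD : Module.finrank k (D cs h X ρ) = 1) {j : ℕ}
    (hcard : Nat.card (X (-sr i)) = Nat.card k ^ j)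
    (hmin : ∀ S ≤ X (-sr i), (∀ t ∈ T, ∀ x ∈ S, t * x * t⁻¹ ∈ S) → S = ⊥ ∨ S = X (-sr i)) :
    j + 1 ≤ Module.finrank k (Le cs h T X ρ {i}) := by
  have hfV : Finite V := Module.finite_of_finite k
  obtain ⟨⟨v, hv⟩, hv0, hv1⟩ := finrank_eq_one_iff'.1 hD
  have hsc : ∀ w ∈ D cs h X ρ, ∃ a : k, a • v = w := fun w hw => by
    obtain ⟨a, ha⟩ := hv1 ⟨w, hw⟩
    exact ⟨a, congrArg Subtype.val ha⟩
  let S : Subgroup Y :=
    { carrier := {x | x ∈ X (-sr i) ∧ ρ x v = v}
      one_mem' := ⟨one_mem _, rho_one ρ v⟩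
      mul_mem' := by
        rintro a b ⟨ha, ha'⟩ ⟨hb, hb'⟩
        exact ⟨mul_mem ha hb, by rw [rho_mul, hb', ha']⟩
      inv_mem' := by
        rintro a ⟨ha, ha'⟩
        exact ⟨inv_mem ha, by
          conv_lhs => rw [← ha']
          exact rho_inv_rho ρ a v⟩ }
  have hS : S = ⊥ := by
    rcases hmin S (fun x hx => hx.1) (by
      rintro t ht x ⟨hx, hx'⟩
      refine ⟨?_, ?_⟩
      · rw [← R.tor _ (isRoot_sr cs h i).neg t ht]
        exact conj_mem_cj.2 hx
      · obtain ⟨a, ha⟩ := hsc _ (D_ivt R hirr t⁻¹ (inv_mem ht) v hv)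
        rw [rho_mul, rho_mul, ← ha, map_smul, hx', ha, rho_rho_inv]) with h1 | h1
    · exact h1
    · exfalso
      apply hi
      intro x hx w hw
      obtain ⟨a, rfl⟩ := hsc w hw
      rw [← h1] at hx
      rw [map_smul, hx.2]
  have hvL : v ∈ Le cs h T X ρ {i} := D_le_Le R {i} hv
  let g : X (-sr i) → cm ρ (X (-sr i)) (Le cs h T X ρ {i}) := fun x => ⟨ρ x v - v, mem_cm x.2 hvL⟩
  have hg : Function.Injective g := by
    intro x y hxy
    have h1 : ρ (x : Y) v - v = ρ (y : Y) v - v := congrArg Subtype.val hxy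
    have h2 : ρ (x : Y) v = ρ (y : Y) v := sub_left_injective h1
    have h3 : (y : Y)⁻¹ * x ∈ S := ⟨mul_mem (inv_mem y.2) x.2, by rw [rho_mul, h2, rho_inv_rho]⟩
    rw [hS, Subgroup.mem_bot] at h3
    exact Subtype.ext (inv_mul_eq_one.1 h3).symm
  have h1 := Nat.card_le_card_of_injective g hg
  rw [hcard, Module.natCard_eq_pow_finrank (K := k) (V := ↥(cm ρ (X (-sr i)) (Le cs h T X ρ {i})))] at h1
  have h2 : j ≤ Module.finrank k (cm ρ (X (-sr i)) (Le cs h T X ρ {i})) :=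
    (Nat.pow_le_pow_iff_right Finite.one_lt_card).1 h1
  have h3 := finrank_cm R hirr (ρ := ρ) i
  omega

end Cfsg.Agent.H156.Ppd
end

-- part: H156/Ppd/Lift
section
/-!
# Root groups which are `T`-simple (helper156, TEAM PPD)

* `TS T X` : the only `T`-invariant subgroups of `X` are `1` and `X`;
* `ts_of_lo`, `ts_of_up` : `X = s(lo K)` for a homomorphism `s` from `SL(2, K)` with `s(dg t) ∈ T`;
* `Cov.card_lft`, `Cov.ts_lft` : lifting to the covering group;
* **`Cov.edge`** : `i ∉ J`, `|X_{-i}| = |F| ^ j`, `TS`: `j + 1 ≤ dim Le {i}`, `j - 1 ≤ dim Io i`;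
* `noCE_of_coord` : the rank one groups of a datum with injective coordinates have no central extensions.
-/

set_option autoImplicit false
set_option linter.unusedSectionVars false

namespace Cfsg.Agent.H156.Ppd

open CoxeterSystem Cfsg.Agent.ChevalleyStructure.CoxeterGeom Cfsg.Agent.Tits.Roots Cfsg.Agent.Tits.Core
  Cfsg.Agent.Tits.Exchange Cfsg.Agent.Nodes.Reps Cfsg.Agent.Nodes.BNOf Cfsg.Agent.Nodes.StabComb
  Cfsg.Agent.Nodes.Bruhat Cfsg.Agent.Nodes.OppDec Cfsg.Agent.Nodes.RGDLib Cfsg.Agent.Omega.CR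
  Cfsg.Agent.Omega.FOne.Lift.Sd Cfsg.Agent.H911 Cfsg.Agent.H905.Md Cfsg.Agent.Nodes.RGDLift Cfsg.Agent.H915.LD
  Cfsg.Agent.H925.Nat
open Cfsg.Agent.OddHalf.NI.Mult (up lo dg dgHom Coord)
open Cfsg.Agent.KFacts.MulOdd.Inst (Lv)
open Cfsg.Agent.OddHalf.NI Cfsg.Agent.H67.Cross
open Cfsg Cfsg.Geo
open scoped MatrixGroups Matrix commutatorElement

universe u v w

/-- the only `T`-invariant subgroups of `X` are `1` and `X` -/
def TS {G : Type*} [Group G] (T X : Subgroup G) : Prop :=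
  ∀ S ≤ X, (∀ t ∈ T, ∀ x ∈ S, t * x * t⁻¹ ∈ S) → S = ⊥ ∨ S = X

/-- additive subgroups of a finite field which are invariant under squares -/
theorem eq_of_sq {K : Type*} [Field K] [Finite K] (S : AddSubgroup K) (h : ∀ (t : Kˣ), ∀ a ∈ S, (t : K) ^ 2 * a ∈ S) :
    S = ⊥ ∨ S = ⊤ := by
  have h0 : ∀ (t : K), ∀ a ∈ S, t ^ 2 * a ∈ S := by
    intro t a ha
    by_cases ht : t = 0
    · rw [ht]; simp
    · exact h (Units.mk0 t ht) a ha
  have hall : ∀ x : K, ∀ a ∈ S, x * a ∈ S := by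
    intro x a ha
    by_cases h2 : (2 : K) = 0
    · have hch : CharP K 2 := CharTwo.of_one_ne_zero_of_two_eq_zero one_ne_zero h2
      have : Fact (Nat.Prime 2) := ⟨Nat.prime_two⟩
      obtain ⟨c, hc⟩ := (Finite.injective_iff_surjective.1 (frobenius_inj K 2)) x
      rw [frobenius_def] at hc
      rw [← hc]
      exact h0 c a ha
    · obtain ⟨c, d, rfl⟩ := Mult.exists_sq_sub h2 x
      rw [sub_mul]
      exact S.sub_mem (h0 c a ha) (h0 d a ha)
  by_cases hS : S = ⊥
  · exact Or.inl hS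
  · right
    obtain ⟨a, ha0⟩ := AddSubgroup.ne_bot_iff_exists_ne_zero.1 hS
    rw [eq_top_iff]
    intro x _
    have h1 := hall (x / (a : K)) a a.2
    rwa [div_mul_cancel₀ _ (fun h => ha0 (Subtype.ext h))] at h1

theorem ts_of_lo {G : Type*} [Group G] {T X : Subgroup G} {K : Type*} [Field K] [Finite K]
    (s : Matrix.SpecialLinearGroup (Fin 2) K →* G) (hX : (X : Set G) = Set.range fun a : K => s (lo a))
    (hT : ∀ t : Kˣ, s (dg t) ∈ T) : TS T X := by
  intro S hS hSt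
  let S0 : AddSubgroup K :=
    { carrier := {a | s (lo a) ∈ S}
      zero_mem' := by
        change s (lo 0) ∈ S
        rw [Mult.lo_zero, map_one]
        exact one_mem _
      add_mem' := by
        intro a b (ha : s (lo a) ∈ S) (hb : s (lo b) ∈ S)
        change s (lo (a + b)) ∈ S
        rw [Mult.lo_add, map_mul]
        exact mul_mem ha hb
      neg_mem' := by
        intro a (ha : s (lo a) ∈ S)
        change s (lo (-a)) ∈ S
        rw [Mult.lo_neg, map_inv]
        exact inv_mem ha }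
  have h1 : ∀ (t : Kˣ), ∀ a ∈ S0, (t : K) ^ 2 * a ∈ S0 := by
    intro t a (ha : s (lo a) ∈ S)
    have h2 := hSt _ (hT t⁻¹) _ ha
    rw [← map_mul, ← map_inv, ← map_mul, Mult.dg_mul_lo, inv_inv] at h2
    exact h2
  have hmem : ∀ x ∈ X, ∃ a, s (lo a) = x := by
    intro x hx
    have : x ∈ (X : Set G) := hx
    rw [hX] at this
    exact this
  rcases eq_of_sq S0 h1 with h2 | h2
  · left
    rw [eq_bot_iff]
    intro x hx
    obtain ⟨a, rfl⟩ := hmem x (hS hx)
    have h3 : a ∈ S0 := hx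
    rw [h2, AddSubgroup.mem_bot] at h3
    rw [h3, Mult.lo_zero, map_one]
    exact one_mem _
  · right
    refine le_antisymm hS fun x hx => ?_
    obtain ⟨a, rfl⟩ := hmem x hx
    have h3 : a ∈ S0 := by rw [h2]; trivial
    exact h3

namespace Cov

variable {I W : Type} {𝔾 : Type v} {Y : Type w} {F : Type u} [Fintype I] [DecidableEq I] [Group W] [Finite W] [Group 𝔾]
  [Group Y] [Finite Y] [Field F] [Finite F] {ι : Type} [Fintype ι] [DecidableEq ι] {M : CoxeterMatrix I}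
  {cs : CoxeterSystem M W} {A : I → I → ℤ} {h : IsCartan M A} {p : ℕ} [hp : Fact p.Prime] [hcF : CharP F p]
  {T : Subgroup 𝔾} {n : I → 𝔾}
  {X : (I → ℤ) → Subgroup 𝔾} {P : Subgroup (GL ι F)} {f : Y →* 𝔾} {φ : Y →* GL ι F} {n₁ : I → Y}
  (C : Cov cs h p T n X P f φ n₁)
include C

theorem card_lft {Z : Subgroup 𝔾} (hZ : IsPGroup p Z) : Nat.card (lft p f Z) = Nat.card Z := by
  have h1 := map_lft C.ker C.cop C.surj hZ
  conv_rhs => rw [← h1]
  refine Nat.card_congr (Equiv.ofBijective (fun x : lft p f Z => (⟨f x, Subgroup.mem_map_of_mem f x.2⟩ :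
    (lft p f Z).map f)) ⟨?_, ?_⟩)
  · intro x y hxy
    have h2 : f x = f y := congrArg Subtype.val hxy
    have h3 : f ((x : Y)⁻¹ * y) = 1 := by rw [map_mul, map_inv, h2, inv_mul_cancel]
    exact Subtype.ext (inv_mul_eq_one.1 (eq_one_of_mem_lft C.ker C.cop hZ (mul_mem (inv_mem x.2) y.2) h3))
  · rintro ⟨_, x, hx, rfl⟩
    exact ⟨⟨x, hx⟩, rfl⟩

theorem ts_lft {Z : Subgroup 𝔾} (hZ : IsPGroup p Z) (hTS : TS T Z) : TS (T.comap f) (lft p f Z) := by
  intro S hS hSt
  have h1 := map_lft C.ker C.cop C.surj hZ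
  have hSle : S.map f ≤ Z := by
    rw [← h1]
    exact Subgroup.map_mono hS
  rcases hTS (S.map f) hSle (by
    rintro t ht _ ⟨x, hx, rfl⟩
    obtain ⟨t, rfl⟩ := C.surj t
    exact ⟨t * x * t⁻¹, hSt t ht x hx, by rw [map_mul, map_mul, map_inv]⟩) with h2 | h2
  · left
    rw [eq_bot_iff]
    intro x hx
    have h3 : f x ∈ S.map f := Subgroup.mem_map_of_mem f hx
    rw [h2, Subgroup.mem_bot] at h3
    rw [Subgroup.mem_bot]
    exact eq_one_of_mem_lft C.ker C.cop hZ (hS hx) h3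
  · right
    refine le_antisymm hS fun x hx => ?_
    have h3 : f x ∈ S.map f := by
      rw [h2, ← h1]
      exact Subgroup.mem_map_of_mem f hx
    obtain ⟨y, hy, e⟩ := h3
    have h4 : f (y⁻¹ * x) = 1 := by rw [map_mul, map_inv, e, inv_mul_cancel]
    have h5 := eq_one_of_mem_lft C.ker C.cop hZ (mul_mem (inv_mem (hS hy)) hx) h4
    rw [← inv_mul_eq_one.1 h5]
    exact hy

/-- **The lower bound for an edge.** -/
theorem edge (R : RGD cs h p T n X) (hC : Core P) {i : I}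
    (hi : i ∉ Jx cs h (fun x => lft p f (X x)) (lrep φ))
    (hD : Module.finrank F (D cs h (fun x => lft p f (X x)) (lrep φ)) = 1) {j : ℕ}
    (hcard : Nat.card (X (-sr i)) = Nat.card F ^ j) (hTS : TS T (X (-sr i))) :
    j + 1 ≤ Module.finrank F (Le cs h (T.comap f) (fun x => lft p f (X x)) (lrep φ) {i}) := by
  have hnV := C.nontriv hC
  have hP := R.pgrp' (isRoot_sr cs h i).neg
  exact edge_card C.rgd (C.hirr hC) hi hD (by rw [C.card_lft hP, hcard]) (C.ts_lft hP hTS)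

theorem edge_Io (R : RGD cs h p T n X) (hC : Core P) {i : I}
    (hi : i ∉ Jx cs h (fun x => lft p f (X x)) (lrep φ))
    (hD : Module.finrank F (D cs h (fun x => lft p f (X x)) (lrep φ)) = 1) {j : ℕ}
    (hcard : Nat.card (X (-sr i)) = Nat.card F ^ j) (hTS : TS T (X (-sr i))) :
    j ≤ Module.finrank F (Io cs h (T.comap f) (fun x => lft p f (X x)) (lrep φ) i) + 1 := by
  have hnV := C.nontriv hC
  have h1 := C.edge R hC hi hD hcard hTS
  have h2 := finrank_Io C.rgd (C.hirr hC) i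
  omega

end Cov

/-- Rank one groups with injective coordinates have no central extensions. -/
theorem noCE_of_coord {I 𝔾 : Type*} [Fintype I] [DecidableEq I] [Group 𝔾] {X : (I → ℤ) → Subgroup 𝔾} {K : I → Type w}
    [∀ i, Field (K i)] [∀ i, Finite (K i)] {s : ∀ i, Matrix.SpecialLinearGroup (Fin 2) (K i) →* 𝔾} (C : Coord X K s)
    {i : I} (hinj : Function.Injective (s i)) {p r : ℕ} (hp : p.Prime) [CharP (K i) p] (hr : r.Prime) (hne : r ≠ p) :
    NoCE p r ↥(Lv X i) := by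
  have hran : (s i).range = Lv X i := le_antisymm (C.range_le_KK i) (C.KK_le_range i)
  exact NoCE.congr (H60.CrossA.noCE_SL hp hr hne)
    ((MonoidHom.ofInjective hinj).trans (MulEquiv.subgroupCongr hran))

end Cfsg.Agent.H156.Ppd
end
end

-- part: H69/Ppd/FieldD
section
set_option linter.all false
open scoped Cfsg.Agent.FastGrp

/-!
# Fixed vectors of `U` over the field of definition (helper69, TEAM PPD)

`R : RGD cs h p T n X` in `Y`, `T` commutative, `GG = ⊤`, `φ : Y → GL(ι, F)` with absolutely irreducible image `P`.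

* `lrep_irr` : `V = F^ι` is simple;
* `exists_w` : `V^U = ⟨w⟩` over `F` and `V^U = ⟨w⟩` over the algebraic closure, `t w = χ(t) w` with `χ(t) ∈ F`;
* `Jx_eq` : the same type `J`.
-/

set_option autoImplicit false
set_option linter.unusedSectionVars false

namespace Cfsg.Agent.H69.Ppd

open CoxeterSystem Cfsg.Agent.ChevalleyStructure.CoxeterGeom Cfsg.Agent.Tits.Roots Cfsg.Agent.Tits.Core
  Cfsg.Agent.Tits.Exchange Cfsg.Agent.Nodes.Reps Cfsg.Agent.Nodes.BNOf Cfsg.Agent.Nodes.StabComb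
  Cfsg.Agent.Nodes.Bruhat Cfsg.Agent.Nodes.OppDec Cfsg.Agent.Nodes.LeviDec Cfsg.Agent.KFacts.RgdOpp
  Cfsg.Agent.Omega.CR Cfsg.Agent.Omega.FOne.Lift.Sd Cfsg.Agent.H911 Cfsg.Agent.H905.Md Cfsg.Agent.H156.Ppd
open Cfsg Cfsg.Geo
open scoped MatrixGroups Matrix

section

variable {F : Type*} [Field F] {ι : Type}

/-- the vector over the algebraic closure -/
noncomputable def ac (w : ι → F) : ι → AlgebraicClosure F := fun i => algebraMap F (AlgebraicClosure F) (w i)

theorem ac_apply (w : ι → F) (i : ι) : ac w i = algebraMap F (AlgebraicClosure F) (w i) := rfl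

theorem ac_inj {v w : ι → F} (h : ac v = ac w) : v = w :=
  funext fun i => (algebraMap F (AlgebraicClosure F)).injective (congrFun h i)

theorem ac_smul (a : F) (v : ι → F) : ac (a • v) = algebraMap F (AlgebraicClosure F) a • ac v :=
  funext fun _ => map_mul _ _ _

theorem ac_zero : ac (0 : ι → F) = 0 := funext fun _ => map_zero _

variable [Fintype ι] [DecidableEq ι]

theorem lin_ac {Y : Type*} [Group Y] (φ : Y →* GL ι F) (y : Y) (w : ι → F) :
    lin (acRep φ) y (ac w) = ac (lrep φ y w) := by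
  rw [lin_apply, acRep_apply, lin_apply, mrep_apply]
  funext i
  exact (RingHom.map_mulVec (algebraMap F (AlgebraicClosure F)) (φ y : Matrix ι ι F) w i).symm

theorem lrep_apply {Y : Type*} [Group Y] (φ : Y →* GL ι F) (y : Y) (w : ι → F) :
    lrep φ y w = (φ y : Matrix ι ι F) *ᵥ w := by
  rw [lin_apply, mrep_apply]

end

variable {I W Y : Type*} [Fintype I] [DecidableEq I] [Group W] [Group Y] {M : CoxeterMatrix I}
  {cs : CoxeterSystem M W} {A : I → I → ℤ} {h : IsCartan M A} {p : ℕ} {T : Subgroup Y} {n : I → Y}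
  {X : (I → ℤ) → Subgroup Y} {F : Type*} [Field F] {ι : Type} [Fintype ι] [DecidableEq ι]
  {P : Subgroup (GL ι F)}

theorem lrep_irr (hG : GG cs h T X = ⊤) {φ : Y →* GL ι F} (hφ : φ.range = P)
    (hP : ActsAbsolutelyIrreducibly (matrixSet P)) (L : Submodule F (ι → F))
    (hL : Ivt (lrep φ) (GG cs h T X) L) : L = ⊥ ∨ L = ⊤ := by
  refine hP.1 L ?_
  rintro _ ⟨a, ha, rfl⟩ _ ⟨v, hv, rfl⟩
  rw [SetLike.mem_coe, ← hφ] at ha
  obtain ⟨y, rfl⟩ := ha
  have h1 := hL y (by rw [hG]; trivial) v hv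
  rw [lrep_apply] at h1
  rw [Matrix.toLin'_apply]
  exact h1

variable (R : RGD cs h p T n X) [Finite Y] [Finite W] [Fact p.Prime] [CharP F p] [Nonempty ι]
  (hG : GG cs h T X = ⊤) (hT : ∀ s ∈ T, ∀ t ∈ T, s * t = t * s) {φ : Y →* GL ι F} (hφ : φ.range = P)
  (hP : ActsAbsolutelyIrreducibly (matrixSet P))
include R hG hT hφ hP

/-- **The fixed vectors over `F` and over the algebraic closure.** -/
theorem exists_w : ∃ w : ι → F, w ≠ 0 ∧ D cs h X (lrep φ) = Submodule.span F {w} ∧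
    D cs h X (lin (acRep φ)) = Submodule.span (AlgebraicClosure F) {ac w} ∧
    ∃ χ : Y → F, ∀ t ∈ T, lrep φ t w = χ t • w := by
  have hchar : CharP (AlgebraicClosure F) p := charP_of_injective_algebraMap (algebraMap F _).injective p
  have hirr := lrep_irr (T := T) (X := X) (h := h) (cs := cs) hG hφ hP
  have hirr' := ac_irr R hG hT hφ hP
  obtain ⟨c, hc, hc0, χ, hχ⟩ := exists_chi R hirr' hT
  have hspan := fx_eq_span R (lin (acRep φ)) hirr' hc hc0 hχ
  obtain ⟨w, hw, hw0⟩ := (Submodule.ne_bot_iff _).1 (simp_fx R (lrep φ) hirr).ne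
  have hin : ∀ w ∈ fx (lrep φ) (RGD.Sup X (RGD.Pos cs h)), ∃ a : AlgebraicClosure F, a • c = ac w := by
    intro w hw
    have h1 : ac w ∈ fx (lin (acRep φ)) (RGD.Sup X (RGD.Pos cs h)) := by
      intro u hu
      rw [lin_ac, hw u hu]
    rw [hspan] at h1
    exact Submodule.mem_span_singleton.1 h1
  obtain ⟨a, ha⟩ := hin w hw
  obtain ⟨i, hi⟩ : ∃ i, w i ≠ 0 := by
    by_contra hcon
    push Not at hcon
    exact hw0 (funext hcon)
  have hai := congrFun ha i
  have ha0 : a ≠ 0 := by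
    rintro rfl
    rw [zero_smul] at hai
    exact hi ((map_eq_zero _).1 hai.symm)
  have hDF : D cs h X (lrep φ) = Submodule.span F {w} := by
    apply le_antisymm
    · intro w' hw'
      obtain ⟨b, hb⟩ := hin w' hw'
      have hbi := congrFun hb i
      rw [Submodule.mem_span_singleton]
      refine ⟨w' i / w i, ?_⟩
      funext j
      have haj := congrFun ha j
      have hbj := congrFun hb j
      apply (algebraMap F (AlgebraicClosure F)).injective
      change algebraMap F (AlgebraicClosure F) (w' i / w i * w j) = _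
      simp only [Pi.smul_apply, smul_eq_mul, ac_apply] at hai hbi haj hbj
      have hci : c i ≠ 0 := by
        intro h0
        rw [h0, mul_zero] at hai
        exact hi ((map_eq_zero _).1 hai.symm)
      rw [map_mul, map_div₀, ← hai, ← hbi, ← haj, ← hbj]
      field_simp
    · rw [Submodule.span_singleton_le_iff_mem]
      exact hw
  have hDK : D cs h X (lin (acRep φ)) = Submodule.span (AlgebraicClosure F) {ac w} := by
    change fx (lin (acRep φ)) (RGD.Sup X (RGD.Pos cs h)) = _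
    rw [hspan, ← ha]
    exact (Submodule.span_singleton_smul_eq (IsUnit.mk0 a ha0) c).symm
  refine ⟨w, hw0, hDF, hDK, ?_⟩
  have h2 : ∀ t ∈ T, ∃ b : F, lrep φ t w = b • w := by
    intro t ht
    have h3 := D_ivt R hirr t ht w (by rw [hDF]; exact Submodule.mem_span_singleton_self w)
    rw [hDF] at h3
    obtain ⟨b, hb⟩ := Submodule.mem_span_singleton.1 h3
    exact ⟨b, hb.symm⟩
  choose! χ' hχ' using h2
  exact ⟨χ', hχ'⟩

/-- **The type does not depend on the field.** -/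
theorem Jx_eq : Jx cs h X (lin (acRep φ)) = Jx cs h X (lrep φ) := by
  obtain ⟨w, hw0, h1, h2, -⟩ := exists_w R hG hT hφ hP
  ext i
  constructor
  · intro hi x hx v hv
    rw [h1] at hv
    obtain ⟨a, rfl⟩ := Submodule.mem_span_singleton.1 hv
    have h3 := hi x hx (ac w) (by rw [h2]; exact Submodule.mem_span_singleton_self _)
    rw [lin_ac] at h3
    rw [map_smul, ac_inj h3]
  · intro hi x hx v hv
    rw [h2] at hv
    obtain ⟨a, rfl⟩ := Submodule.mem_span_singleton.1 hv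
    have h3 := hi x hx w (by rw [h1]; exact Submodule.mem_span_singleton_self _)
    rw [map_smul, lin_ac, h3]

end Cfsg.Agent.H69.Ppd
end

-- part: H650/Ppd/NatB
section
set_option linter.all false
open scoped Cfsg.Agent.FastGrp

/-!
# Type `B_l` in the defining characteristic: dimension `< 4 l j` (helper650, TEAM PPD)

`R` a root group datum of type `B_l`, `l ≥ 3`, all nodes `SL_2(E)`, `|E| = |F| ^ j`, `10 ≤ |ι| < 4 l j`.

* **`num_B`** : `j = 1`, `J^c = {0}` and `dim Le {0} ≤ 2` over the algebraic closure.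
-/

set_option autoImplicit false
set_option linter.unusedSectionVars false
set_option linter.style.haveILetI false

namespace Cfsg.Agent.H650.Ppd

open Matrix CoxeterSystem Cfsg.Agent.ChevalleyStructure.CoxeterGeom Cfsg.Agent.Tits.Roots Cfsg.Agent.Tits.Core
  Cfsg.Agent.Tits.Exchange Cfsg.Agent.Nodes.Reps Cfsg.Agent.Nodes.BNOf Cfsg.Agent.Nodes.StabComb
  Cfsg.Agent.Nodes.Bruhat Cfsg.Agent.Nodes.OppDec Cfsg.Agent.Nodes.LeviDec Cfsg.Agent.KFacts.RgdOpp
  Cfsg.Agent.Omega.CR Cfsg.Agent.Omega.FOne.Lift.Sd Cfsg.Agent.H905.Md Cfsg.Agent.Nodes.TypeC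
open Cfsg Cfsg.Geo
open Cfsg.Agent.H911 (lin)

universe u v w

theorem two_mul_le_two_pow {j : ℕ} (hj : 1 ≤ j) : 2 * j ≤ 2 ^ j := by
  induction j, hj using Nat.le_induction with
  | base => norm_num
  | succ j hj ih => rw [pow_succ]; omega

section

variable {l : ℕ} {W Y : Type*} [Group W] [Group Y] {cs : CoxeterSystem (CoxeterMatrix.B l) W} {p : ℕ}
  {T : Subgroup Y} {n : Fin l → Y} {X : (Fin l → ℤ) → Subgroup Y}
  {F : Type u} [Field F] [Finite F] {ι : Type} [Fintype ι] [DecidableEq ι] [Nonempty ι] {P : Subgroup (GL ι F)}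
  {E : Type*} [Field E] [Finite E]

/-- **Type `B_l`, dimension `< 4 l j`.** -/
theorem num_B [Finite Y] [Finite W] [hp : Fact p.Prime] [hFp : CharP F p] [hEp : CharP E p]
    (R : RGD cs (isCartan l) p T n X) (hG : GG cs (isCartan l) T X = ⊤) (hT : ∀ s ∈ T, ∀ t ∈ T, s * t = t * s)
    {φ : Y →* GL ι F} (hφ : φ.range = P) (hP : ActsAbsolutelyIrreducibly (matrixSet P))
    (hN : ∀ i, ∃ σ : SpecialLinearGroup (Fin 2) E →* Y, Nd T X i σ) (hl : 3 ≤ l) {j : ℕ} (hj : 1 ≤ j)
    (hE : Nat.card E = Nat.card F ^ j) (h10 : 10 ≤ Fintype.card ι) (hlt : Fintype.card ι < 4 * (l * j)) :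
    j = 1 ∧ (∀ i, i ∉ Jx cs (isCartan l) X (lin (acRep φ)) → (i : ℕ) = 0) ∧
      ∀ i : Fin l, (i : ℕ) = 0 →
        Module.finrank (AlgebraicClosure F) (Le cs (isCartan l) T X (lin (acRep φ)) {i}) ≤ 2 := by
  have hchar : CharP (AlgebraicClosure F) p := charP_of_injective_algebraMap (algebraMap F _).injective p
  have hirr := ac_irr R hG hT hφ hP
  have hD := finrank_D R hirr hT
  have hV : Module.finrank (AlgebraicClosure F) (ι → AlgebraicClosure F) = Fintype.card ι :=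
    Module.finrank_fintype_fun_eq_card _
  -- the edges
  have hedge : ∀ i, i ∉ Jx cs (isCartan l) X (lin (acRep φ)) →
      2 ^ j ≤ Module.finrank (AlgebraicClosure F) (Le cs (isCartan l) T X (lin (acRep φ)) {i}) := by
    intro i hi
    have := Fintype.ofFinite E
    obtain ⟨σ, hσ⟩ := hN i
    obtain ⟨m, hm, h1⟩ := edge_pow_of_card R hG hT hφ hP hσ hi hE
    rw [h1]
    exact Nat.pow_le_pow_left hm j
  have h2j := two_mul_le_two_pow hj
  -- the first node
  have h0 : ∀ i : Fin l, (i : ℕ) = 0 → i ∉ Jx cs (isCartan l) X (lin (acRep φ)) → j = 1 ∧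
      Module.finrank (AlgebraicClosure F) (Io cs (isCartan l) T X (lin (acRep φ)) i) = 0 := by
    intro i h0 hi
    have h1 := H948.Ppd.TypeB.dim_ge_first R hirr (by omega) h0 hi
    have h2 := finrank_Io R hirr (ρ := lin (acRep φ)) i
    have h3 := hedge i hi
    rw [hD] at h2
    rw [hD, hV, mul_one] at h1
    have h4 : 2 * l * 2 ≤ 2 * l * (l - 1) := Nat.mul_le_mul_left _ (by omega)
    rcases Nat.lt_or_ge j 2 with hj2 | hj2
    · refine ⟨by omega, ?_⟩
      have hj1 : j = 1 := by omega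
      subst hj1
      by_contra hne
      have h5 : 2 * l * (l - 1) ≤ 2 * l * (l - 1) *
          Module.finrank (AlgebraicClosure F) (Io cs (isCartan l) T X (lin (acRep φ)) i) :=
        Nat.le_mul_of_pos_right _ (Nat.pos_of_ne_zero hne)
      omega
    · exfalso
      have h5 : 2 * l * 2 * (2 ^ j - 2) ≤ 2 * l * (l - 1) *
          Module.finrank (AlgebraicClosure F) (Io cs (isCartan l) T X (lin (acRep φ)) i) :=
        Nat.mul_le_mul h4 (by omega)
      have h6 : 2 * l + 2 * l * 2 * (2 ^ j - 2) < 4 * (l * j) := by omega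
      have h7 : j + 2 ≤ 2 ^ j := by omega
      obtain ⟨y, hy⟩ : ∃ y, 2 ^ j = j + 2 + y := ⟨2 ^ j - (j + 2), by omega⟩
      rw [hy] at h6
      have h8 : j + 2 + y - 2 = j + y := by omega
      rw [h8] at h6
      have h9 : 2 * l * 2 * (j + y) = 4 * (l * j) + 4 * (l * y) := by ring
      rw [h9] at h6
      omega
  -- the other nodes
  have hne : ∀ i, i ∉ Jx cs (isCartan l) X (lin (acRep φ)) → (i : ℕ) = 0 := by
    intro i hi
    by_contra hi0
    have h3 := hedge i hi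
    have h1 := H948.Ppd.TypeB.choose_mul_Le_le R hirr hi
    rw [hV] at h1
    have hi' := i.2
    rcases Nat.lt_or_ge l 4 with hl4 | hl4
    · obtain rfl : l = 3 := by omega
      rcases Nat.lt_or_ge (i : ℕ) 2 with hi2 | hi2
      · have hi1 : (i : ℕ) = 1 := by omega
        rw [hi1] at h1
        have h4 : (Nat.choose 3 (1 + 1)) * 2 ^ (1 + 1) = 12 := by decide
        rw [h4] at h1
        omega
      · have hi1 : (i : ℕ) = 2 := by omega
        have h2 := H948.Ppd.TypeB.dim_ge_last R hirr (by omega) hi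
        have h4 := finrank_Io R hirr (ρ := lin (acRep φ)) i
        rw [hD] at h4
        rw [hD, hV, mul_one] at h2
        have h5 : 2 ^ 3 = 8 := by norm_num
        have h6 : 3 * 2 ^ (3 - 1) = 12 := by norm_num
        rw [h5, h6] at h2
        rcases Nat.lt_or_ge j 2 with hj2 | hj2
        · obtain rfl : j = 1 := by omega
          rcases H924.D5.B.cases R hirr (by rw [hV]; omega) hi with h7 | ⟨-, h7⟩
          · have h8 := (h7 i).1 hi
            rw [h8] at hi1
            exact absurd hi1 (by decide)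
          · rw [hV] at h7
            omega
        · omega
    · have h4 := H948.Ppd.TypeB.four_mul_Le_le R hirr hl4 (by omega) hi
      rw [hV] at h4
      have h5 : 4 * l * (2 * j) ≤ 4 * l * Module.finrank (AlgebraicClosure F)
          (Le cs (isCartan l) T X (lin (acRep φ)) {i}) := Nat.mul_le_mul_left _ (by omega)
      have h6 : 4 * l * (2 * j) = 2 * (4 * (l * j)) := by ring
      rw [h6] at h5
      omega
  obtain ⟨i, hi⟩ := exists_not_mem R hirr (by rw [hD, hV]; omega)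
  have hi0 := hne i hi
  obtain ⟨hj1, -⟩ := h0 i hi0 hi
  refine ⟨hj1, hne, fun i' hi' => ?_⟩
  have he : i' = i := Fin.ext (by omega)
  rw [he]
  obtain ⟨-, h3⟩ := h0 i hi0 hi
  have h2 := finrank_Io R hirr (ρ := lin (acRep φ)) i
  rw [hD] at h2
  omega

end

end Cfsg.Agent.H650.Ppd
end
end
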